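import Cfsg.Agent.O83.Mod
import Mathlib.LinearAlgebra.Matrix.SpecialLinearGroup
import Mathlib.GroupTheory.Sylow
import Mathlib.Tactic.Group

/-! Project O83: the configurations. See `notes/O83.md`. -/

set_option autoImplicit false

namespace Cfsg.Agent.O83

open Subgroup

/-- `SL₂(3)` -/
abbrev S2 : Type := Matrix.SpecialLinearGroup (Fin 2) F
/-- the group of order two -/
abbrev M2 : Type := Multiplicative (ZMod 2)

variable {G : Type*} [Group G]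

/-- The hypothesis on the centraliser `C` of `z`. -/
structure Hy (z : G) (C Q : Subgroup G) (π : C →* S2 × M2) : Prop where
  memC : ∀ g, g ∈ C ↔ g * z = z * g
  oz : orderOf z = 3
  zQ : z ∈ Q
  QC : Q ≤ C
  exp : ∀ a ∈ Q, a ^ 3 = 1
  card : Nat.card Q = 243
  comm : ∀ a ∈ Q, ∀ b ∈ Q, a * b * a⁻¹ * b⁻¹ ∈ zpowers z
  cen : ∀ g, (∀ a ∈ Q, g * a = a * g) → g ∈ zpowers z
  sur : ∀ A, ∃ c, π c = (A, 1)
  ker : ∀ c, π c = 1 ↔ c.1 ∈ Q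
  fix : ∀ c, π c = (-1, 1) → ∃ a ∈ Q, a ∉ zpowers z ∧ c.1 * a * c.1⁻¹ * a⁻¹ ∈ zpowers z
  q8 : ∀ c c', π c = (-1, 1) → π c' * π c' = (-1, 1) → (π c').2 = 1 → ∀ a ∈ Q,
    c.1 * a * c.1⁻¹ * a⁻¹ ∈ zpowers z → c'.1 * a * c'.1⁻¹ * a⁻¹ ∈ zpowers z

/-- coordinates of an elementary abelian group of order `81` -/
structure Ad (e : V → G) : Prop where
  add : ∀ u v, e (u + v) = e u * e v
  inj : ∀ v, e v = 1 → v = 0

/-- the subgroup `J` -/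
def JJ (e : V → G) : Subgroup G := closure (Set.range e)
/-- its normaliser -/
def NN (e : V → G) : Subgroup G := normalizer (JJ e : Set G)
/-- `g` acts on `J` as `A` -/
def Act (e : V → G) (g : G) (A : O4) : Prop := ∀ v, g * e v * g⁻¹ = e (A • v)
/-- the second generator of the quaternion group -/
def jj (e : V → G) (i : G) : G := e d1 * i * (e d1)⁻¹
/-- the quaternion group -/
def RR (e : V → G) (i : G) : Subgroup G := closure {i, jj e i}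

section
variable {e : V → G} (add : ∀ u v, e (u + v) = e u * e v)
include add

theorem e_zero : e 0 = 1 := by simpa using add 0 0

theorem e_neg (v : V) : e (-v) = (e v)⁻¹ := eq_inv_of_mul_eq_one_left (by rw [← add, neg_add_cancel, e_zero add])

theorem e_comm (u v : V) : e u * e v = e v * e u := by rw [← add, ← add, add_comm]

theorem e_cube (v : V) : e v ^ 3 = 1 := by rw [pow_three', ← add, ← add, add_three, e_zero add]

theorem e_nsmul (n : ℕ) (v : V) : e (n • v) = e v ^ n := by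
  induction n with
  | zero => simp [e_zero add]
  | succ n ih => rw [succ_nsmul, add, ih, pow_succ]

theorem mem_JJ {g : G} : g ∈ JJ e ↔ ∃ v, e v = g := by
  refine ⟨fun h => ?_, fun h => subset_closure h⟩
  induction h using closure_induction with
  | mem x hx => exact hx
  | one => exact ⟨0, e_zero add⟩
  | mul x y _ _ hx hy => obtain ⟨u, rfl⟩ := hx; obtain ⟨v, rfl⟩ := hy; exact ⟨_, add u v⟩
  | inv x _ hx => obtain ⟨u, rfl⟩ := hx; exact ⟨_, e_neg add u⟩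

theorem mem_NN [Finite G] {g : G} : g ∈ NN e ↔ ∀ v, ∃ w, g * e v * g⁻¹ = e w := by
  refine ⟨fun h v => ?_, fun h => mem_normalizer_fintype fun x hx => ?_⟩
  · exact ((mem_JJ add).1 ((mem_normalizer_iff.1 h _).1 ((mem_JJ add).2 ⟨v, rfl⟩))).imp fun _ k => k.symm
  · obtain ⟨v, rfl⟩ := (mem_JJ add).1 hx
    exact (mem_JJ add).2 ((h v).imp fun _ k => k.symm)

end

theorem Ad.eq_iff {e : V → G} (h : Ad e) {u v : V} : e u = e v ↔ u = v :=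
  ⟨fun k => sub_eq_zero.1 (h.inj _ (by rw [sub_eq_add_neg, h.add, e_neg h.add, k, mul_inv_cancel])), congrArg e⟩

/-- The centraliser of `z = e z0` in terms of `J`, before `N(J)` is known. -/
structure H2 (e : V → G) (Q : Subgroup G) (t i b τ : G) : Prop extends Ad e where
  cj : ∀ g, (∀ v, g * e v = e v * g) → ∃ v, g = e v
  at' : Act e t r0
  ab : Act e b A1
  aτ : Act e τ cyc
  t2 : t * t = 1
  tb : t * b * t⁻¹ = b⁻¹
  ii : i * i = t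
  ij : e d1 * jj e i * (e d1)⁻¹ = i * jj e i ∨ e d1 * jj e i * (e d1)⁻¹ = jj e i * i
  iz : i * e z0 = e z0 * i
  id : i * e d0 * i⁻¹ = b
  Rn : ∀ g, g * e z0 = e z0 * g → g * t = t * g → g * i * g⁻¹ ∈ RR e i
  cz : ∀ g, g * e z0 = e z0 * g → ∃ r ∈ RR e i, ∃ A, Act e (r⁻¹ * g) A
  syl : ∀ P : Subgroup G, IsPGroup 3 P → (∀ p ∈ P, p * e z0 = e z0 * p) →
    ∃ c, c * e z0 = e z0 * c ∧ ∀ p ∈ P, ∃ A, Act e (c * p * c⁻¹) A
  QN : ∀ g, g * e z0 = e z0 * g → ∀ a ∈ Q, g * a * g⁻¹ ∈ Q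
  QJ : ∀ v, e v ∈ Q ↔ dot v z0 = 0
  om : ∀ g v, g * e z0 * g⁻¹ = e v → dot v z0 = 0 → q v = 0
  ex : ∃ g v u, g * e z0 * g⁻¹ = e v ∧ dot v z0 = 0 ∧ v ≠ z0 ∧ v ≠ -z0 ∧ g⁻¹ * e z0 * g ∈ Q ∧
    g⁻¹ * e u * g ∈ Q ∧ dot u z0 ≠ 0

/-- The configuration: `N(J) = J : Γ`, `t = σ r0`, `z = e z0`, `C(z) = R N_{C(z)}(J)`. -/
structure Cf (Γ : Subgroup O4) (e : V → G) (σ : O4 → G) (i : G) : Prop extends Ad e where
  hΓ : Γ = Γ1 ∨ Γ = ⊤
  σ_mul : ∀ A ∈ Γ, ∀ B ∈ Γ, σ (A * B) = σ A * σ B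
  σ_e : ∀ A ∈ Γ, ∀ v, σ A * e v * (σ A)⁻¹ = e (A • v)
  norm : ∀ g ∈ NN e, ∃ v, ∃ A ∈ Γ, g = e v * σ A
  ii : i * i = σ r0
  ij : e d1 * jj e i * (e d1)⁻¹ = i * jj e i ∨ e d1 * jj e i * (e d1)⁻¹ = jj e i * i
  iz : i * e z0 = e z0 * i
  id : i * e d0 * i⁻¹ = σ A1
  Rn : ∀ g, g * e z0 = e z0 * g → g * σ r0 = σ r0 * g → g * i * g⁻¹ ∈ RR e i
  cz : ∀ g, g * e z0 = e z0 * g → ∃ r ∈ RR e i, r⁻¹ * g ∈ NN e

/-- generators of the four quaternion groups -/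
def ik (σ : O4 → G) (i : G) (k : Fin 4) : G := σ (gk k) * i * (σ (gk k))⁻¹
/-- generators of the four quaternion groups -/
def jk (e : V → G) (σ : O4 → G) (i : G) (k : Fin 4) : G := σ (gk k) * jj e i * (σ (gk k))⁻¹
/-- the four quaternion groups -/
def Rk (e : V → G) (σ : O4 → G) (i : G) (k : Fin 4) : Subgroup G := closure {ik σ i k, jk e σ i k}
/-- the extraspecial group `Σ` -/
def SS (e : V → G) (σ : O4 → G) (i : G) : Subgroup G := ⨆ k, Rk e σ i k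

/-- Coordinates of `Σ / ⟨t⟩`. -/
structure Sd (Γ : Subgroup O4) (e : V → G) (σ : O4 → G) (i : G) (π : G → V8) : Prop where
  tS : σ r0 ∈ SS e σ i
  tc : ∀ x ∈ SS e σ i, x * σ r0 = σ r0 * x
  mul : ∀ x ∈ SS e σ i, ∀ y ∈ SS e σ i, π (x * y) = π x + π y
  sur : ∀ c, ∃ x ∈ SS e σ i, π x = c
  zero : ∀ x ∈ SS e σ i, π x = 0 ↔ x = 1 ∨ x = σ r0
  sq : ∀ x ∈ SS e σ i, x * x = σ r0 ^ (q2 (π x)).val
  cm : ∀ x ∈ SS e σ i, ∀ y ∈ SS e σ i, x * y = y * x * σ r0 ^ (b2 (π x) (π y)).val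
  ae : ∀ v : V, v.1 = 0 → ∀ x ∈ SS e σ i, e v * x * (e v)⁻¹ ∈ SS e σ i ∧ π (e v * x * (e v)⁻¹) = ρe v (π x)
  aσ : ∀ A ∈ Γ, A • d0 = d0 ∨ A • d0 = -d0 → ∀ x ∈ SS e σ i,
    σ A * x * (σ A)⁻¹ ∈ SS e σ i ∧ π (σ A * x * (σ A)⁻¹) = ρσ A (π x)
  πi : ∀ k l, cp (π (ik σ i k)) l = if l = k then (1, 0) else 0
  πj : ∀ k l, cp (π (jk e σ i k)) l = if l = k then (0, 1) else 0
  memR : ∀ k x, x ∈ Rk e σ i k ↔ x ∈ SS e σ i ∧ ∀ l, l ≠ k → cp (π x) l = 0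
  card : Nat.card (SS e σ i) = 512

/-- A group `X` with `N(D) = 3³ : (2 ≀ A₃)` or `3³ : (2 ≀ S₃)`, `D = JJ ε`. -/
structure Wr (Γ : Subgroup O4) (ε : V → G) (ς : O4 → G) : Prop where
  add : ∀ u v, ε (u + v) = ε u * ε v
  ker : ∀ v, ε v = 1 ↔ v.2 = 0
  mul : ∀ A ∈ Γ, ∀ B ∈ Γ, A • d0 = d0 → B • d0 = d0 → ς (A * B) = ς A * ς B
  act : ∀ A ∈ Γ, A • d0 = d0 → ∀ v, ς A * ε v * (ς A)⁻¹ = ε (A • v)
  norm : ∀ g ∈ NN ε, ∃ v, ∃ A ∈ Γ, A • d0 = d0 ∧ g = ε v * ς A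

/-- the preimage of `C_{S/⟨t⟩}(u)` -/
def UU (t : G) (S : Subgroup G) (u : G) : Subgroup G := S ⊓ normalizer ({u, u * t} : Set G)

/-- candidates for a violation of strong closure -/
def Bad (t : G) (S : Subgroup G) (u : G) : Prop :=
  u ∈ normalizer (S : Set G) ∧ u ∉ S ∧ (u * u = 1 ∨ u * u = t) ∧ IsConj u (u * t)

/-- free action of type `c` -/
def TC (t : G) (S : Subgroup G) (u : G) : Prop :=
  u * u = 1 ∧ Nat.card (UU t S u) = 32 ∧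
    (∀ x ∈ UU t S u, ∃ ρ ∈ S, x = ρ * u * ρ⁻¹ * u⁻¹ ∨ x * t = ρ * u * ρ⁻¹ * u⁻¹) ∧ ∃ x ∈ UU t S u, x * x ≠ 1

/-- commutator space of order four -/
def TS (t : G) (S : Subgroup G) (u : G) : Prop :=
  Nat.card (UU t S u) = 128 ∧ (∀ ρ ∈ S, ρ * u * ρ⁻¹ * u⁻¹ * (ρ * u * ρ⁻¹ * u⁻¹) = 1) ∧
    ∃ x ∈ UU t S u, u * x ≠ x * u

/-- the hypothesis of the strong closure theorem -/
structure Ok (t : G) (S : Subgroup G) : Prop where
  t2 : t * t = 1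
  t1 : t ≠ 1
  tS : t ∈ S
  tc : ∀ x ∈ S, x * t = t * x
  card : Nat.card S = 512
  sq : ∀ x ∈ S, x * x = 1 ∨ x * x = t
  cm : ∀ x ∈ S, ∀ y ∈ S, x * y = y * x ∨ x * y = y * x * t
  cen : ∀ x ∈ S, (∀ y ∈ S, x * y = y * x) → x = 1 ∨ x = t
  h1 : ∀ u, Bad t S u → TC t S u ∨ TS t S u
  h2 : ∀ u v, Bad t S u → Bad t S v → Bad t S (u * v) → (TS t S u ∧ TC t S v ∧ TC t S (u * v)) ∨
    (TC t S u ∧ TS t S v ∧ TC t S (u * v)) ∨ (TC t S u ∧ TC t S v ∧ TS t S (u * v))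

theorem mem_UU [Finite G] {t u x : G} {S : Subgroup G} (t2 : t * t = 1) (hx : x * t = t * x) :
    x ∈ UU t S u ↔ x ∈ S ∧ (x * u * x⁻¹ = u ∨ x * u * x⁻¹ = u * t) := by
  refine and_congr_right fun _ => ⟨fun h => (mem_set_normalizer_iff.1 h u).1 (Or.inl rfl), fun h =>
    mem_normalizer_fintype ?_⟩
  have e : x * (u * t) * x⁻¹ = x * u * x⁻¹ * t := by
    rw [← mul_assoc, mul_assoc _ t, show t * x⁻¹ = x⁻¹ * t from (Commute.inv_left hx).eq.symm, ← mul_assoc]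
  rintro _ (rfl | rfl)
  · exact h
  · rw [e]
    rcases h with h | h <;> rw [h]
    · exact Or.inr rfl
    · exact Or.inl (by rw [mul_assoc, t2, mul_one])

end Cfsg.Agent.O83
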