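import Cfsg.Agent.O83.Defs

/-! Project O83: arithmetic in `N(J) = J : Γ`, and a few facts on `O4`. See `notes/O83.md`. -/

set_option autoImplicit false
set_option synthInstance.maxSize 4096
set_option maxRecDepth 100000

namespace Cfsg.Agent.O83

open Subgroup

theorem dg_mem (a b c d : Bool) : dg a b c d ∈ Γ0 := by revert a b c d; decide +kernel
theorem r0_mem : r0 ∈ Γ1 := Γ0_le (dg_mem ..)
theorem r1_mem : r1 ∈ Γ1 := Γ0_le (dg_mem ..)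
theorem r2_mem : r2 ∈ Γ1 := Γ0_le (dg_mem ..)
theorem r3_mem : r3 ∈ Γ1 := Γ0_le (dg_mem ..)
theorem ng_mem : ng ∈ Γ1 := Γ0_le (dg_mem ..)
theorem cyc_mem : cyc ∈ Γ1 := by decide +kernel
theorem A1_mem : A1 ∈ Γ1 := by decide +kernel
theorem sw_not_mem : sw ∉ Γ1 := by decide +kernel
theorem gk_mem : ∀ k, gk k ∈ Γ1 := by decide +kernel
theorem gk_z0 : ∀ k, gk k • z0 = zk k := by decide +kernel
theorem ng_smul : ∀ v : V, ng • v = -v := by decide +kernel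
theorem ng_comm : ∀ A : O4, ng * A = A * ng := by decide +kernel
theorem r0_fix : ∀ v : V, r0 • v = v ↔ v.1 = 0 := by decide +kernel
theorem comm_r0 : ∀ A : O4, A * r0 = r0 * A ↔ A • d0 = d0 ∨ A • d0 = -d0 := by decide +kernel

/-- words in `r0, r1, A1, cyc` -/
def wd (l : List (Fin 4)) : O4 := (l.map ![r0, r1, A1, cyc]).prod

theorem wd_mem {M : Subgroup O4} (h0 : r0 ∈ M) (h1 : r1 ∈ M) (h2 : A1 ∈ M) (h3 : cyc ∈ M) (l : List (Fin 4)) :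
    wd l ∈ M := M.list_prod_mem fun x hx => by
  obtain ⟨k, -, rfl⟩ := List.mem_map.1 hx
  fin_cases k <;> assumption

/-- words moving `z0` to the singular vectors, `d0` to the vectors of norm one, `y0` to those of norm two -/
def Wz : List (List (Fin 4)) :=
  [[], [1], [2, 1], [3, 1], [0, 2, 1], [3, 2, 1], [1, 3, 1], [3, 3, 1], [3, 0, 2, 1], [1, 3, 2, 1], [3, 3, 2, 1],
    [2, 1, 3, 1], [3, 1, 3, 1], [1, 3, 3, 1], [1, 3, 0, 2, 1], [3, 3, 0, 2, 1], [2, 1, 3, 2, 1], [3, 1, 3, 2, 1],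
    [1, 3, 3, 2, 1], [0, 2, 1, 3, 1], [1, 2, 1, 3, 1], [3, 2, 1, 3, 1], [1, 3, 1, 3, 1], [2, 1, 3, 3, 1],
    [1, 3, 3, 0, 2, 1], [0, 2, 1, 3, 2, 1], [2, 1, 3, 3, 2, 1], [3, 0, 2, 1, 3, 1], [0, 2, 1, 3, 3, 1],
    [1, 2, 1, 3, 3, 1], [3, 1, 3, 3, 0, 2, 1], [2, 2, 1, 3, 3, 2, 1]]
/-- see `Wz` -/
def Wd : List (List (Fin 4)) :=
  [[], [0], [2], [2, 0], [0, 2], [1, 2], [2, 2], [1, 2, 0], [1, 0, 2], [2, 1, 2], [3, 1, 2], [1, 2, 2],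
    [2, 1, 2, 0], [3, 1, 2, 0], [3, 1, 0, 2], [3, 2, 1, 2], [1, 3, 1, 2], [3, 3, 1, 2], [3, 1, 2, 2],
    [3, 2, 1, 2, 0], [1, 3, 1, 2, 0], [3, 3, 1, 2, 0], [3, 3, 2, 1, 2], [3, 3, 2, 1, 2, 0]]
/-- see `Wz` -/
def Wy : List (List (Fin 4)) :=
  [[], [2], [3], [0, 2], [1, 2], [3, 2], [1, 3], [3, 3], [1, 0, 2], [3, 0, 2], [2, 1, 2], [3, 1, 2], [3, 3, 2],
    [3, 1, 3], [1, 3, 3], [3, 1, 0, 2], [3, 3, 0, 2], [3, 2, 1, 2], [3, 3, 1, 2], [1, 3, 1, 3], [3, 3, 1, 3],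
    [3, 1, 3, 3], [3, 3, 1, 0, 2], [1, 3, 2, 1, 2]]
/-- the stabiliser of `d0` in `Γ1` -/
def Ws : List (List (Fin 4)) :=
  [[], [1], [3], [3, 1], [1, 3], [3, 3], [1, 3, 1], [3, 3, 1], [3, 1, 3], [1, 3, 3], [3, 1, 3, 1], [1, 3, 3, 1],
    [1, 3, 1, 3], [3, 3, 1, 3], [3, 1, 3, 3], [1, 3, 1, 3, 1], [3, 3, 1, 3, 1], [3, 1, 3, 3, 1], [3, 1, 3, 1, 3],
    [3, 3, 1, 3, 3], [3, 1, 3, 1, 3, 1], [3, 3, 1, 3, 3, 1], [3, 3, 1, 3, 1, 3], [3, 3, 1, 3, 1, 3, 1]]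

theorem wd_Γ1 (l : List (Fin 4)) : wd l ∈ Γ1 := wd_mem r0_mem r1_mem A1_mem cyc_mem l

theorem ex_wz (v : V) (h : q v = 0) (h0 : v ≠ 0) : ∃ l, wd l • z0 = v := by
  obtain ⟨l, -, k⟩ := List.any_eq_true.1 ((by decide +kernel :
    ∀ v : V, q v = 0 → v ≠ 0 → (Wz.any fun l => decide (wd l • z0 = v)) = true) v h h0)
  exact ⟨l, of_decide_eq_true k⟩

theorem ex_wd (v : V) (h : q v = 1) : ∃ l, wd l • d0 = v := by
  obtain ⟨l, -, k⟩ := List.any_eq_true.1 ((by decide +kernel :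
    ∀ v : V, q v = 1 → (Wd.any fun l => decide (wd l • d0 = v)) = true) v h)
  exact ⟨l, of_decide_eq_true k⟩

theorem ex_wy (v : V) (h : q v = 2) : ∃ l, wd l • y0 = v := by
  obtain ⟨l, -, k⟩ := List.any_eq_true.1 ((by decide +kernel :
    ∀ v : V, q v = 2 → (Wy.any fun l => decide (wd l • y0 = v)) = true) v h)
  exact ⟨l, of_decide_eq_true k⟩

/-- `Γ1` is transitive on the singular vectors -/
theorem tr_z {v : V} (h : q v = 0) (h0 : v ≠ 0) : ∃ A ∈ Γ1, A • z0 = v := (ex_wz v h h0).elim fun l k => ⟨_, wd_Γ1 l, k⟩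
/-- `Γ1` is transitive on the vectors of norm one -/
theorem tr_d {v : V} (h : q v = 1) : ∃ A ∈ Γ1, A • d0 = v := (ex_wd v h).elim fun l k => ⟨_, wd_Γ1 l, k⟩
/-- `Γ1` is transitive on the vectors of norm two -/
theorem tr_y {v : V} (h : q v = 2) : ∃ A ∈ Γ1, A • y0 = v := (ex_wy v h).elim fun l k => ⟨_, wd_Γ1 l, k⟩

/-- `Γ1` is generated by `r0, r1, A1, cyc` -/
theorem Γ1_le_of {M : Subgroup O4} (h0 : r0 ∈ M) (h1 : r1 ∈ M) (h2 : A1 ∈ M) (h3 : cyc ∈ M) : Γ1 ≤ M := by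
  intro A hA
  obtain ⟨l, k⟩ := ex_wd (A • d0) (by rw [q_smul]; decide)
  obtain ⟨l', -, k'⟩ := List.any_eq_true.1 ((by decide +kernel :
    ∀ B : O4, B • d0 = d0 → B ∈ Γ1 → (Ws.any fun l => decide (wd l = B)) = true) ((wd l)⁻¹ * A)
    (by rw [mul_smul, ← k, inv_smul_smul]) (Γ1.mul_mem (Γ1.inv_mem (wd_Γ1 l)) hA))
  rw [← mul_inv_cancel_left (wd l) A, ← of_decide_eq_true k']
  exact M.mul_mem (wd_mem h0 h1 h2 h3 _) (wd_mem h0 h1 h2 h3 _)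

variable {G : Type*} [Group G] {Γ : Subgroup O4} {e : V → G} {σ : O4 → G} {i : G}

namespace Cf

theorem Γ1_le (h : Cf Γ e σ i) : Γ1 ≤ Γ := by rcases h.hΓ with rfl | rfl <;> simp

theorem σ_one (h : Cf Γ e σ i) : σ 1 = 1 := by simpa using h.σ_mul 1 Γ.one_mem 1 Γ.one_mem

theorem σ_inv (h : Cf Γ e σ i) {A : O4} (hA : A ∈ Γ) : σ A⁻¹ = (σ A)⁻¹ :=
  eq_inv_of_mul_eq_one_left (by rw [← h.σ_mul _ (Γ.inv_mem hA) _ hA, inv_mul_cancel, h.σ_one])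

theorem σ_pow (h : Cf Γ e σ i) {A : O4} (hA : A ∈ Γ) (n : ℕ) : σ (A ^ n) = σ A ^ n := by
  induction n with
  | zero => simp [h.σ_one]
  | succ n ih => rw [pow_succ, h.σ_mul _ (Γ.pow_mem hA n) _ hA, ih, pow_succ]

theorem σ_conj (h : Cf Γ e σ i) {A B : O4} (hA : A ∈ Γ) (hB : B ∈ Γ) : σ A * σ B * (σ A)⁻¹ = σ (A * B * A⁻¹) := by
  rw [h.σ_mul _ (Γ.mul_mem hA hB) _ (Γ.inv_mem hA), h.σ_mul _ hA _ hB, h.σ_inv hA]

theorem σ_e' (h : Cf Γ e σ i) {A : O4} (hA : A ∈ Γ) (v : V) : σ A * e v = e (A • v) * σ A := by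
  rw [← h.σ_e A hA, inv_mul_cancel_right]

theorem mul_eq (h : Cf Γ e σ i) {A B : O4} (hA : A ∈ Γ) (hB : B ∈ Γ) (u v : V) :
    e u * σ A * (e v * σ B) = e (u + A • v) * σ (A * B) := by
  rw [h.add, h.σ_mul _ hA _ hB, ← h.σ_e A hA]; group

theorem conj_e (h : Cf Γ e σ i) {A : O4} (hA : A ∈ Γ) (u v : V) :
    e u * σ A * e v * (e u * σ A)⁻¹ = e (A • v) := by
  rw [mul_assoc (e u), h.σ_e' hA, ← mul_assoc, e_comm h.add u, mul_assoc (e _), mul_inv_cancel_right]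

theorem eq_iff' (h : Cf Γ e σ i) {A B : O4} (hA : A ∈ Γ) (hB : B ∈ Γ) {u v : V} :
    e u * σ A = e v * σ B ↔ u = v ∧ A = B := by
  refine ⟨fun k => ?_, fun k => by rw [k.1, k.2]⟩
  obtain rfl : A = B := O4.ext' fun w => h.toAd.eq_iff.1 (by rw [← h.conj_e hA u, k, h.conj_e hB])
  exact ⟨h.toAd.eq_iff.1 (mul_right_cancel k), rfl⟩

theorem σ_inj (h : Cf Γ e σ i) {A B : O4} (hA : A ∈ Γ) (hB : B ∈ Γ) : σ A = σ B ↔ A = B :=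
  ⟨fun k => ((h.eq_iff' hA hB (u := 0) (v := 0)).1 (by rw [k])).2, congrArg σ⟩

theorem eq_e (h : Cf Γ e σ i) {A : O4} (hA : A ∈ Γ) {u v : V} : e u * σ A = e v ↔ u = v ∧ A = 1 := by
  rw [← h.eq_iff' hA Γ.one_mem, h.σ_one, mul_one]

theorem comm_σ (h : Cf Γ e σ i) {A B : O4} (hA : A ∈ Γ) (hB : B ∈ Γ) {v : V} :
    e v * σ A * σ B = σ B * (e v * σ A) ↔ B • v = v ∧ A * B = B * A := by
  rw [mul_assoc, ← h.σ_mul _ hA _ hB, ← mul_assoc, h.σ_e' hB, mul_assoc, ← h.σ_mul _ hB _ hA,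
    h.eq_iff' (Γ.mul_mem hA hB) (Γ.mul_mem hB hA), eq_comm]

theorem comm_e (h : Cf Γ e σ i) {A : O4} (hA : A ∈ Γ) {u v : V} :
    e u * σ A * e v = e v * (e u * σ A) ↔ A • v = v := by
  rw [← mul_inv_eq_iff_eq_mul, h.conj_e hA, h.toAd.eq_iff]

theorem t2 (h : Cf Γ e σ i) : σ r0 * σ r0 = 1 := by
  rw [← h.σ_mul _ (h.Γ1_le r0_mem) _ (h.Γ1_le r0_mem), show r0 * r0 = 1 by decide +kernel, h.σ_one]

theorem t1 (h : Cf Γ e σ i) : σ r0 ≠ 1 := fun k =>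
  absurd ((h.σ_inj (h.Γ1_le r0_mem) Γ.one_mem).1 (k.trans h.σ_one.symm)) (by decide +kernel)

theorem e_t (h : Cf Γ e σ i) {v : V} : e v * σ r0 = σ r0 * e v ↔ v.1 = 0 := by
  rw [h.σ_e' (h.Γ1_le r0_mem), mul_left_inj, h.toAd.eq_iff, eq_comm, r0_fix]

theorem σ_t (h : Cf Γ e σ i) {A : O4} (hA : A ∈ Γ) : σ A * σ r0 = σ r0 * σ A ↔ A • d0 = d0 ∨ A • d0 = -d0 := by
  rw [← h.σ_mul _ hA _ (h.Γ1_le r0_mem), ← h.σ_mul _ (h.Γ1_le r0_mem) _ hA,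
    h.σ_inj (Γ.mul_mem hA (h.Γ1_le r0_mem)) (Γ.mul_mem (h.Γ1_le r0_mem) hA), comm_r0]

variable [Finite G]

theorem e_mem (h : Cf Γ e σ i) (v : V) : e v ∈ NN e :=
  (mem_NN h.add).2 fun w => ⟨w, by rw [e_comm h.add, mul_inv_cancel_right]⟩

theorem σ_mem (h : Cf Γ e σ i) {A : O4} (hA : A ∈ Γ) : σ A ∈ NN e := (mem_NN h.add).2 fun w => ⟨_, h.σ_e A hA w⟩

theorem mem_N (h : Cf Γ e σ i) {g : G} : g ∈ NN e ↔ ∃ v, ∃ A ∈ Γ, g = e v * σ A :=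
  ⟨h.norm g, by rintro ⟨v, A, hA, rfl⟩; exact (NN e).mul_mem (h.e_mem v) (h.σ_mem hA)⟩

/-- `C(J) = J` -/
theorem cj (h : Cf Γ e σ i) {g : G} (hg : ∀ v, g * e v = e v * g) : ∃ v, g = e v := by
  obtain ⟨v, A, hA, rfl⟩ := h.norm g ((mem_NN h.add).2 fun w => ⟨w, by rw [hg, mul_inv_cancel_right]⟩)
  obtain rfl : A = 1 := O4.ext' fun w => by rw [(h.comm_e hA).1 (hg w), one_smul]
  exact ⟨v, by rw [h.σ_one, mul_one]⟩

/-- `N(J) ∩ C(t)` -/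
theorem mem_NH (h : Cf Γ e σ i) {g : G} (hg : g ∈ NN e) (ht : g * σ r0 = σ r0 * g) :
    ∃ v : V, ∃ A ∈ Γ, v.1 = 0 ∧ A • d0 = d0 ∧ (g = e v * σ A ∨ g = e v * σ A * σ r0) := by
  obtain ⟨v, A, hA, rfl⟩ := h.norm g hg
  have h0 := h.Γ1_le r0_mem
  obtain ⟨k1, k2⟩ := (h.comm_σ hA h0).1 ht
  rcases (comm_r0 A).1 k2 with k | k
  · exact ⟨v, A, hA, (r0_fix v).1 k1, k, Or.inl rfl⟩
  · refine ⟨v, A * r0, Γ.mul_mem hA h0, (r0_fix v).1 k1, ?_, Or.inr ?_⟩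
    · rw [mul_smul, show r0 • d0 = -d0 by decide +kernel, smul_neg, k, neg_neg]
    · rw [h.σ_mul _ hA _ h0, mul_assoc, mul_assoc, h.t2, mul_one]

end Cf

end Cfsg.Agent.O83
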