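import Cfsg.Agent.O83.Bas0

/-! Project O83, section Mk2: the complement `σ`. See `notes/O83.md`. -/

set_option autoImplicit false
set_option synthInstance.maxSize 4096
set_option maxRecDepth 100000

namespace Cfsg.Agent.O83

open Subgroup

namespace K18

variable {G : Type*} [Group G] {e : V → G} {Q : Subgroup G} {t i b τ : G}

theorem act_mul {g g' : G} {A B : O4} (h : Act e g A) (h' : Act e g' B) : Act e (g * g') (A * B) := fun v => by
  rw [mul_smul, ← h, ← h']; group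

theorem act_inv {g : G} {A : O4} (h : Act e g A) : Act e g⁻¹ A⁻¹ := fun v => by
  have := h (A⁻¹ • v)
  rw [smul_inv_smul] at this
  rw [← this]; group

theorem act_e (h : Ad e) (u : V) : Act e (e u) 1 := fun v => by
  rw [one_smul, e_comm h.add, mul_inv_cancel_right]

theorem act_diff (h : H2 e Q t i b τ) {g g' : G} {A : O4} (k : Act e g A) (k' : Act e g' A) :
    ∃ v, g' = e v * g := by
  have := act_mul k' (act_inv k)
  rw [mul_inv_cancel] at this
  obtain ⟨v, hv⟩ := h.cj (g' * g⁻¹) fun v => by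
    have := this v
    rw [one_smul] at this
    exact mul_inv_eq_iff_eq_mul.1 this
  exact ⟨v, by rw [← hv, inv_mul_cancel_right]⟩

/-- the linear parts -/
def Gam (e : V → G) : Subgroup O4 where
  carrier := {A | ∃ g, Act e g A}
  one_mem' := ⟨1, fun v => by simp⟩
  mul_mem' := by rintro A B ⟨g, k⟩ ⟨g', k'⟩; exact ⟨_, act_mul k k'⟩
  inv_mem' := by rintro A ⟨g, k⟩; exact ⟨_, act_inv k⟩

theorem ex_w (h : H2 e Q t i b τ) {w0 : G} (k : Act e w0 ng) : ∃ w, Act e w ng ∧ w * t * w⁻¹ = t := by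
  have k1 := act_mul (act_mul h.at' k) (act_inv h.at')
  rw [show r0 * ng * r0⁻¹ = ng by decide +kernel] at k1
  obtain ⟨u, hu⟩ := act_diff h k k1
  have ti : t⁻¹ = t := inv_eq_of_mul_eq_one_right h.t2
  have e1 : e (r0 • u + u) * w0 = e 0 * w0 := by
    rw [h.add, ← h.at', mul_assoc, ← hu, e_zero h.add, one_mul]
    calc t * e u * t⁻¹ * (t * w0 * t⁻¹) = t * (e u * w0) * t⁻¹ := by group
      _ = t * t * w0 * (t * t)⁻¹ := by rw [← hu]; group
      _ = w0 := by rw [h.t2]; group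
  have e2 : r0 • u = -u := eq_neg_of_add_eq_zero_left (h.toAd.eq_iff.1 (mul_right_cancel e1))
  refine ⟨e (-u) * w0, by simpa using act_mul (act_e h.toAd (-u)) k, ?_⟩
  have : t * (e (-u) * w0) * t⁻¹ = e (-u) * w0 := by
    calc t * (e (-u) * w0) * t⁻¹ = t * e (-u) * t⁻¹ * (t * w0 * t⁻¹) := by group
      _ = _ := by rw [hu, h.at', smul_neg, e2, neg_neg, ← mul_assoc, ← h.add, add_self]
  rw [mul_inv_eq_iff_eq_mul] at this ⊢
  exact this.symm

theorem ex_lift (h : H2 e Q t i b τ) {w g : G} (hw : Act e w ng) {A : O4} (k : Act e g A) :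
    ∃ g', Act e g' A ∧ w * g' * w⁻¹ = g' := by
  have k1 := act_mul (act_mul hw k) (act_inv hw)
  rw [ng_comm, mul_inv_cancel_right] at k1
  obtain ⟨u, hu⟩ := act_diff h k k1
  refine ⟨e (-u) * g, by simpa using act_mul (act_e h.toAd (-u)) k, ?_⟩
  calc w * (e (-u) * g) * w⁻¹ = w * e (-u) * w⁻¹ * (w * g * w⁻¹) := by group
    _ = _ := by rw [hu, hw, ng_smul, neg_neg, ← mul_assoc, ← h.add, add_self]

theorem uniq (h : H2 e Q t i b τ) {w g g' : G} (hw : Act e w ng) {A : O4} (k : Act e g A) (k' : Act e g' A)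
    (c : w * g * w⁻¹ = g) (c' : w * g' * w⁻¹ = g') : g' = g := by
  obtain ⟨v, rfl⟩ := act_diff h k k'
  have e1 : e (-v) * g = e v * g := by
    rw [← c', ← ng_smul, ← hw]
    nth_rewrite 1 [← c]
    group
  have e2 : -v = v := h.toAd.eq_iff.1 (mul_right_cancel e1)
  have e3 : v = 0 := by
    have := add_three v
    rw [add_self, neg_add_cancel] at this
    rw [← add_self] at e2
    simpa using e2
  rw [e3, e_zero h.add, one_mul]

theorem sol : ∀ u : V, A1 • r0 • u = -u → ∃ y : V, y.1 = 0 ∧ y + A1 • (-y) = u := by decide +kernel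

end K18

open K18

variable {G : Type*} [Group G] [Finite G] {e : V → G} {Q : Subgroup G} {t i b τ : G}

/-- notes/O83.md, section Mk2: the complement `σ` -/
theorem H2.mk2 (h : H2 e Q t i b τ) (hN : ∀ g ∈ NN e, ∃ A, Act e g A) (h1 : ∃ g, Act e g r1) :
    ∃ (Γ : Subgroup O4) (σ : O4 → G) (i' : G), Cf Γ e σ i' := by
  have hle : Γ1 ≤ Gam e := Γ1_le_of ⟨t, h.at'⟩ h1 ⟨b, h.ab⟩ ⟨τ, h.aτ⟩
  have hΓ : Gam e = Γ1 ∨ Gam e = ⊤ := by
    by_cases hc : Gam e ≤ Γ1
    · exact Or.inl (le_antisymm hc hle)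
    · obtain ⟨B, hB, hB'⟩ := SetLike.not_le_iff_exists.1 hc
      refine Or.inr (eq_top_iff.2 fun A _ => ?_)
      by_cases hA : A ∈ Γ1
      · exact hle hA
      · simpa using (Gam e).mul_mem (hle (mul_mem_Γ1 hA hB')) ((Gam e).inv_mem hB)
  obtain ⟨w0, k0⟩ := hle ng_mem
  obtain ⟨w, hw, wt⟩ := ex_w h k0
  have ex : ∀ A : O4, ∃ g : G, A ∈ Gam e → Act e g A ∧ w * g * w⁻¹ = g := fun A => by
    by_cases hA : A ∈ Gam e
    · obtain ⟨g, k⟩ := hA
      exact (ex_lift h hw k).imp fun _ k _ => k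
    · exact ⟨1, fun k => absurd k hA⟩
  choose σ hσ using ex
  have smul : ∀ A ∈ Gam e, ∀ B ∈ Gam e, σ (A * B) = σ A * σ B := fun A hA B hB =>
    uniq h hw (act_mul (hσ A hA).1 (hσ B hB).1) (hσ _ (mul_mem hA hB)).1
      (by rw [show w * (σ A * σ B) * w⁻¹ = w * σ A * w⁻¹ * (w * σ B * w⁻¹) by group, (hσ A hA).2, (hσ B hB).2])
      (hσ _ (mul_mem hA hB)).2
  have h0 := hle r0_mem
  have hA1 := hle A1_mem
  have st : σ r0 = t := uniq h hw h.at' (hσ _ h0).1 wt (hσ _ h0).2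
  obtain ⟨u, hu⟩ := act_diff h (hσ _ hA1).1 h.ab
  have e1 : t * σ A1 * t⁻¹ = (σ A1)⁻¹ := by
    have k1 := act_mul (act_mul h.at' (hσ _ hA1).1) (act_inv h.at')
    rw [show r0 * A1 * r0⁻¹ = A1⁻¹ by decide +kernel] at k1
    refine uniq h hw (act_inv (hσ _ hA1).1) k1 ?_ ?_
    · rw [show w * (σ A1)⁻¹ * w⁻¹ = (w * σ A1 * w⁻¹)⁻¹ by group, (hσ _ hA1).2]
    · rw [show w * (t * σ A1 * t⁻¹) * w⁻¹ = w * t * w⁻¹ * (w * σ A1 * w⁻¹) * (w * t * w⁻¹)⁻¹ by group,
        (hσ _ hA1).2, wt]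
  have e2 : A1 • r0 • u = -u := by
    apply h.toAd.eq_iff.1
    have k := h.tb
    rw [hu, show t * (e u * σ A1) * t⁻¹ = t * e u * t⁻¹ * (t * σ A1 * t⁻¹) by group, e1, h.at'] at k
    rw [← (hσ _ hA1).1, mul_assoc, k, e_neg h.add]
    group
  obtain ⟨y, y1, hy⟩ := sol u e2
  have yt : (e y)⁻¹ * t * e y = t := by
    have := h.at' y
    rw [(r0_fix y).2 y1] at this
    rw [mul_assoc, mul_inv_eq_iff_eq_mul.1 this, inv_mul_cancel_left]
  have yb : (e y)⁻¹ * b * e y = σ A1 := by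
    rw [hu, ← hy, h.add, ← (hσ _ hA1).1, e_neg h.add]
    group
  have ye : ∀ v, (e y)⁻¹ * e v * e y = e v := fun v => by
    rw [mul_assoc, e_comm h.add v, inv_mul_cancel_left]
  have yj : jj e ((e y)⁻¹ * i * e y) = (e y)⁻¹ * jj e i * e y := by
    unfold jj
    nth_rewrite 1 [← ye d1]
    nth_rewrite 2 [← ye d1]
    group
  have yR : ∀ r ∈ RR e i, (e y)⁻¹ * r * e y ∈ RR e ((e y)⁻¹ * i * e y) := by
    intro r hr
    induction hr using closure_induction with
    | mem x hx =>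
      rcases hx with rfl | rfl
      · exact subset_closure (Or.inl rfl)
      · exact subset_closure (Or.inr yj.symm)
    | one => simp
    | mul x x' _ _ k k' => simpa [mul_assoc] using mul_mem k k'
    | inv x _ k => simpa [mul_assoc] using inv_mem k
  have cc : ∀ g a : G, (e y)⁻¹ * a * e y = a → g * a = a * g → e y * g * (e y)⁻¹ * a = a * (e y * g * (e y)⁻¹) :=
    fun g a k1 k2 => by
      have k3 : Commute (e y) a := by
        rw [mul_assoc, inv_mul_eq_iff_eq_mul] at k1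
        exact k1.symm
      exact ((k3.mul_left k2).mul_left k3.inv_left).eq
  refine ⟨Gam e, σ, (e y)⁻¹ * i * e y, ⟨h.toAd, hΓ, smul, fun A hA => (hσ A hA).1, fun g hg => ?_, ?_, ?_, ?_, ?_,
    fun g g1 g2 => ?_, fun g g1 => ?_⟩⟩
  · obtain ⟨A, k⟩ := hN g hg
    obtain ⟨v, hv⟩ := act_diff h (hσ A ⟨g, k⟩).1 k
    exact ⟨v, A, ⟨g, k⟩, hv⟩
  · rw [st, ← yt, ← h.ii]; group
  · rw [yj]
    have : e d1 * ((e y)⁻¹ * jj e i * e y) * (e d1)⁻¹ = (e y)⁻¹ * (e d1 * jj e i * (e d1)⁻¹) * e y := by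
      nth_rewrite 1 [← ye d1]
      nth_rewrite 2 [← ye d1]
      group
    rw [this]
    rcases h.ij with k | k <;> rw [k]
    · left; group
    · right; group
  · have k3 : Commute (e y) (e z0) := e_comm h.add _ _
    exact ((k3.inv_left.mul_left h.iz).mul_left k3).eq
  · rw [← yb, ← h.id]
    nth_rewrite 1 [← ye d0]
    group
  · rw [st] at g2
    have := yR _ (h.Rn _ (cc g _ (ye z0) g1) (cc g _ yt g2))
    convert this using 1
    group
  · obtain ⟨r, hr, A, k⟩ := h.cz _ (cc g _ (ye z0) g1)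
    refine ⟨_, yR r hr, (mem_NN h.add).2 fun v => ⟨A • v, ?_⟩⟩
    have k2 := act_mul (act_mul (act_inv (act_e h.toAd y)) k) (act_e h.toAd y) v
    simp only [inv_one, one_mul, mul_one] at k2
    rw [← k2]
    group

end Cfsg.Agent.O83
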