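import Cfsg.Agent.O83.Defs

/-! Project O83: the elements acting on `J` as elements of `O4`. -/

set_option autoImplicit false
set_option synthInstance.maxSize 4096
set_option maxRecDepth 100000

namespace Cfsg.Agent.O83

open Subgroup

variable {G : Type*} [Group G] {e : V → G} {g g' : G} {A B : O4}

theorem Act.mul (h : Act e g A) (h' : Act e g' B) : Act e (g * g') (A * B) := fun v => by
  rw [mul_smul, ← h, ← h']; group

theorem Act.one : Act e 1 1 := fun v => by simp

theorem Act.inv (h : Act e g A) : Act e g⁻¹ A⁻¹ := fun v => by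
  rw [← smul_inv_smul A v, ← h, inv_smul_smul]; group

theorem Act.pow (h : Act e g A) (n : ℕ) : Act e (g ^ n) (A ^ n) := by
  induction n with
  | zero => simpa using Act.one
  | succ n ih => rw [pow_succ, pow_succ]; exact ih.mul h

theorem Act.uniq (a : Ad e) (h : Act e g A) (h' : Act e g B) : A = B :=
  O4.ext' fun v => a.eq_iff.1 ((h v).symm.trans (h' v))

theorem act_e (add : ∀ u v, e (u + v) = e u * e v) (u : V) : Act e (e u) 1 := fun v => by
  rw [e_comm add, mul_inv_cancel_right, one_smul]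

/-- the elements acting orthogonally -/
def NA (e : V → G) : Subgroup G where
  carrier := {g | ∃ A, Act e g A}
  one_mem' := ⟨1, Act.one⟩
  mul_mem' := fun ⟨_, h⟩ ⟨_, h'⟩ => ⟨_, h.mul h'⟩
  inv_mem' := fun ⟨_, h⟩ => ⟨_, h.inv⟩

theorem mem_NA : g ∈ NA e ↔ ∃ A, Act e g A := Iff.rfl

theorem NA_le [Finite G] (add : ∀ u v, e (u + v) = e u * e v) : NA e ≤ NN e := fun _ ⟨_, h⟩ =>
  (mem_NN add).2 fun v => ⟨_, h v⟩

/-- it suffices to look at four generators -/
theorem act_of (add : ∀ u v, e (u + v) = e u * e v) (h1 : g * e d1 * g⁻¹ = e (A • d1))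
    (h2 : g * e d0 * g⁻¹ = e (A • d0)) (h3 : g * e (d2 - d1) * g⁻¹ = e (A • (d2 - d1)))
    (h4 : g * e z0 * g⁻¹ = e (A • z0)) : Act e g A := fun v => by
  rw [(by decide +kernel : ∀ v : V, v = (dot v z0).val • d1 + v.1.val • d0 + (v.2.2.1 - v.2.2.2).val • (d2 - d1) +
    v.2.2.2.val • z0) v]
  simp only [add, e_nsmul add, smul_add, smul_comm A, ← conj_mul, ← conj_pow, h1, h2, h3, h4]

end Cfsg.Agent.O83
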