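import Cfsg.Agent.O83.Ee4
import Cfsg.Agent.O83.NA

/-! Project O83, section Ee: the subgroup `J` and the structure of `C` in terms of it. -/

set_option autoImplicit false
set_option synthInstance.maxSize 4096
set_option maxRecDepth 100000

namespace Cfsg.Agent.O83

open Subgroup
open L43 (mem_zp3 pow_val_add pow_val_eq_one pow_val_neg pow_val_inj mem_of_pow_val s2_cyc eq_zero_of_neg)

universe u

variable {G : Type u} [Group G] {z : G} {C Q : Subgroup G} {π : C →* S2 × M2} {p : G → W × W} {ρ σ : C →* S2}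
  {t x i : C} {a b β τ : G}

/-- coordinates of `J` -/
def ee (x a β z : G) (v : V) : G :=
  x ^ (dot v z0).val * a ^ v.1.val * β ^ (v.2.2.1 - v.2.2.2).val * z ^ v.2.2.2.val

theorem ee_d1 (x a β z : G) : ee x a β z d1 = x := by show x ^ 1 * a ^ 0 * β ^ 0 * z ^ 0 = x; simp
theorem ee_d0 (x a β z : G) : ee x a β z d0 = a := by show x ^ 0 * a ^ 1 * β ^ 0 * z ^ 0 = a; simp
theorem ee_β (x a β z : G) : ee x a β z (d2 - d1) = β := by show x ^ 0 * a ^ 0 * β ^ 1 * z ^ 0 = β; simp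
theorem ee_z (x a β z : G) : ee x a β z z0 = z := by show x ^ 0 * a ^ 0 * β ^ 0 * z ^ 1 = z; simp

theorem s2_a : ∀ X : S2, X ≠ 1 → X * X * X = 1 → ∀ Y, Y * X = X * Y → ∃ k : Fin 3, Y * X ^ k.1 * (Y * X ^ k.1) = 1 := by
  decide +kernel
theorem s2_b : ∀ Y : S2, Y * Y = 1 → Y = 1 ∨ Y = -1 := by decide +kernel
theorem s2_c : ∀ X : S2, X ≠ 1 → X * X * X = 1 → ∀ I : S2, I * I = -1 →
    I * (X * I * X⁻¹) * I⁻¹ = X * I * X⁻¹ * -1 ∧ (X * (X * I * X⁻¹) * X⁻¹ = I * (X * I * X⁻¹) ∨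
      X * (X * I * X⁻¹) * X⁻¹ = X * I * X⁻¹ * I) ∧
    (∀ Y : S2, Y * Y = -1 → Y = I ∨ Y = I * -1 ∨ Y = X * I * X⁻¹ ∨ Y = X * I * X⁻¹ * -1 ∨ Y = I * (X * I * X⁻¹) ∨
      Y = I * (X * I * X⁻¹) * -1) ∧
    ∀ Y : S2, ∃ k l : Fin 2, ∃ m : Fin 3, ∃ n : Fin 2,
      X ^ m.1 * (-1) ^ n.1 = (I ^ k.1 * (X * I * X⁻¹) ^ l.1)⁻¹ * Y := by decide +kernel
theorem s2_d : ∀ X : S2, X ≠ 1 → X * X * X = 1 → ∀ Y : S2, Y ≠ 1 → Y * Y * Y = 1 →
    ∃ K : S2, K * Y * K⁻¹ = X ∨ K * Y * K⁻¹ = X * X := by decide +kernel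
theorem s2_e : ∀ Y : S2 × M2, Y ^ 12 = 1 := by decide +kernel

namespace Dt

variable (D : Dt z C Q π t x i a b β τ) (h : Hy z C Q π)
include D h

theorem add (u v : V) : ee x.1 a β z (u + v) = ee x.1 a β z u * ee x.1 a β z v := by
  have h0 := h.h0
  have c1 : Commute z x.1 := ((h.memC _).1 x.2).symm
  have c2 : Commute z a := (h0.zc D.dQ).symm
  have c3 : Commute z β := (h0.zc D.βQ).symm
  have c4 : Commute β x.1 := D.xβ.symm
  have c5 : Commute β a := D.dβ.symm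
  have c6 : Commute a x.1 := D.xd.symm
  rw [ee, ee, ee, (((c1.pow_pow _ _).mul_right (c2.pow_pow _ _)).mul_right (c3.pow_pow _ _)).mul_mul_mul_comm,
    ((c4.pow_pow _ _).mul_right (c5.pow_pow _ _)).mul_mul_mul_comm, (c6.pow_pow _ _).mul_mul_mul_comm,
    ← pow_val_add D.x3, ← pow_val_add (h.exp _ D.dQ), ← pow_val_add (h.exp _ D.βQ), ← pow_val_add h0.z3, add_dot]
  simp only [Prod.fst_add, Prod.snd_add, add_sub_add_comm]

theorem QJ (v : V) : ee x.1 a β z v ∈ Q ↔ dot v z0 = 0 := by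
  rw [ee, mul_mem_cancel_right (pow_mem h.zQ _), mul_mem_cancel_right (pow_mem D.βQ _),
    mul_mem_cancel_right (pow_mem D.dQ _)]
  exact ⟨fun k => by_contra fun k0 => D.xQ (mem_of_pow_val D.x3 k0 k), fun k => by rw [k]; simp⟩

theorem πx : (π x).1 ≠ 1 ∧ (π x).1 * (π x).1 * (π x).1 = 1 ∧ (π x).2 = 1 :=
  have k := H0.cube (π := π) D.x3
  have k2 := m2_cube _ (congrArg Prod.snd k)
  ⟨fun e => D.xQ ((h.ker x).1 (Prod.ext e k2)), congrArg Prod.fst k, k2⟩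

omit D h in
theorem sq_t {c : C} (e : c * c = t) : c * t = t * c := by rw [← e, mul_assoc]

theorem uniq {c c' : C} (e : c * c = t) (e2 : (π c).2 = 1) (e' : c' * c' = t) (k : π c' = π c) : c' = c := by
  have h0 := h.h0
  have m := h0.mem_Q k.symm
  have qt : Commute t (c⁻¹ * c') := (Commute.inv_right (sq_t e).symm).mul_right (sq_t e').symm
  have c4 : ∀ {c : C}, c * c = t → c ^ 4 = 1 := fun e => by
    rw [show 4 = 2 * 2 from rfl, pow_mul, pow_two, pow_two, e, D.t2]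
  obtain ⟨n, hn⟩ := (mem_zp3 h.oz).1 (h.q8 t c D.πt (by rw [← map_mul, e, D.πt]) e2 _ m (by
    rw [show t.1 * (c.1⁻¹ * c') = c.1⁻¹ * c' * t from congrArg Subtype.val qt]; simp))
  have cq : Commute c (c⁻¹ * c') := by
    generalize hq : c⁻¹ * c' = q
    rw [show c.1⁻¹ * c' = q from congrArg Subtype.val hq, mul_inv_eq_iff_eq_mul] at hn
    have k1 : ∀ j : ℕ, c.1 ^ j * q * (c.1 ^ j)⁻¹ = z ^ (j * n.val) * q := fun j => by
      induction j with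
      | zero => simp
      | succ j ih =>
        calc _ = c * (c.1 ^ j * q * (c.1 ^ j)⁻¹) * c.1⁻¹ := by group
          _ = _ := by rw [ih, ← conj_mul, hn, h0.cz c.2, mul_inv_cancel_right, ← mul_assoc, ← pow_add, add_one_mul]
    have k2 := k1 4
    rw [show c.1 ^ 4 = 1 from congrArg Subtype.val (c4 e), show 4 * n.val = 3 * n.val + n.val by ring, pow_add, pow_mul,
      h0.z3, one_pow, one_mul, one_mul, inv_one, mul_one, ← hn] at k2
    exact Subtype.ext (mul_inv_eq_iff_eq_mul.1 k2.symm)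
  have k3 := c4 e'
  rw [← mul_inv_cancel_left c c', cq.mul_pow, c4 e, one_mul, pow_succ,
    show (c⁻¹ * c') ^ 3 = 1 from Subtype.ext (h.exp _ m), one_mul, inv_mul_eq_one] at k3
  exact k3.symm

theorem quat : (x * (x * i * x⁻¹) * x⁻¹ = i * (x * i * x⁻¹) ∨ x * (x * i * x⁻¹) * x⁻¹ = x * i * x⁻¹ * i) ∧
    (∀ c : C, c * c = t → (π c).2 = 1 → c.1 ∈ closure {i.1, x * i * x.1⁻¹}) ∧
    ∀ c : C, (π c).2 = 1 → ∃ r ∈ closure {i.1, x * i * x.1⁻¹}, ∃ m n : ℕ, (x.1 ^ m * t ^ n)⁻¹ * (r⁻¹ * c) ∈ Q := by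
  obtain ⟨x1, x2, x3⟩ := D.πx h
  have πi : (π i).1 * (π i).1 = -1 := by rw [← Prod.fst_mul (π i), ← map_mul, D.ii, D.πt]
  obtain ⟨s1, s2, s3, s4⟩ := s2_c _ x1 x2 _ πi
  have cj : ∀ {c g : C}, c * c = t → g * t = t * g → g * c * g⁻¹ * (g * c * g⁻¹) = t := fun e k => by
    rw [conj_mul, e, k, mul_inv_cancel_right]
  have ng : ∀ {c : C}, c * c = t → c * t * (c * t) = t := fun {c} e => by
    rw [mul_assoc, ← mul_assoc t, ← sq_t e, mul_assoc c t, D.t2, mul_one, e]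
  have jj := cj D.ii D.xt
  obtain ⟨j, hj⟩ : ∃ j, x * i * x⁻¹ = j := ⟨_, rfl⟩
  have j1 : (π j).1 = (π x).1 * (π i).1 * (π x).1⁻¹ := by rw [← hj]; simp
  have j2 : (π j).2 = 1 := by rw [← hj]; simp [D.πi]
  rw [show x * i * x.1⁻¹ = j.1 from congrArg Subtype.val hj]
  rw [← j1] at s1 s2 s3 s4
  rw [hj] at jj ⊢
  have r1 : i * j * i⁻¹ = j * t := D.uniq h (ng jj) (by simp [j2, D.πt]) (cj jj (sq_t D.ii))
    (Prod.ext (by simp [s1, D.πt]) (by simp [j2, D.πt]))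
  have ij : i * j * (i * j) = t := by
    calc _ = i * j * i⁻¹ * (i * i) * j := by group
      _ = t := by rw [r1, D.ii, mul_assoc j, D.t2, mul_one, jj]
  have ji : j * i * (j * i) = t := by
    calc _ = j * (i * j * i⁻¹) * (i * i) := by group
      _ = t := by rw [r1, D.ii, ← mul_assoc, jj, D.t2, one_mul]
  have mi : i.1 ∈ closure {i.1, j.1} := subset_closure (by simp)
  have mj : j.1 ∈ closure {i.1, j.1} := subset_closure (by simp)
  have mt : t.1 ∈ closure {i.1, j.1} := D.ii ▸ mul_mem mi mi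
  refine ⟨s2.imp (fun k => D.uniq h ij (by simp [j2, D.πi]) (cj jj D.xt) (Prod.ext (by simpa using k) (by simp [j2, D.πi])))
    fun k => D.uniq h ji (by simp [j2, D.πi]) (cj jj D.xt) (Prod.ext (by simpa using k) (by simp [j2, D.πi])),
    fun c e c2 => ?_, fun c c2 => ?_⟩
  · have u : ∀ c' : C, c' * c' = t → (π c').2 = 1 → (π c).1 = (π c').1 → c = c' := fun c' k1 k2 k3 =>
      D.uniq h k1 k2 e (Prod.ext k3 (c2.trans k2.symm))
    rcases s3 (π c).1 (by rw [← Prod.fst_mul (π c), ← map_mul, e, D.πt]) with k | k | k | k | k | k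
    · rw [u i D.ii D.πi k]; exact mi
    · rw [u _ (ng D.ii) (by simp [D.πi, D.πt]) (by simpa [D.πt] using k)]; exact mul_mem mi mt
    · rw [u j jj j2 k]; exact mj
    · rw [u _ (ng jj) (by simp [j2, D.πt]) (by simpa [D.πt] using k)]; exact mul_mem mj mt
    · rw [u _ ij (by simp [j2, D.πi]) (by simpa using k)]; exact mul_mem mi mj
    · rw [u _ (ng ij) (by simp [j2, D.πi, D.πt]) (by simpa [D.πt] using k)]; exact mul_mem (mul_mem mi mj) mt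
  · obtain ⟨k, l, m, n, e⟩ := s4 (π c).1
    exact ⟨i.1 ^ k.1 * j.1 ^ l.1, mul_mem (pow_mem mi _) (pow_mem mj _), m, n,
      h.h0.mem_Q (a := x ^ m.1 * t ^ n.1) (b := (i ^ k.1 * j ^ l.1)⁻¹ * c)
        (Prod.ext (by simpa [D.πt] using e) (by simp [x3, D.πt, D.πi, j2, c2]))⟩

theorem at' : Act (ee x.1 a β z) t r0 := act_of (D.add h)
  (by rw [show r0 • d1 = d1 by decide +kernel, ee_d1, ← show x.1 * t = t * x from congrArg Subtype.val D.xt]; simp)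
  (by rw [show r0 • d0 = -d0 by decide +kernel, e_neg (D.add h), ee_d0, D.td])
  (by rw [show r0 • (d2 - d1) = d2 - d1 by decide +kernel, ee_β, D.tβ]; simp)
  (by rw [show r0 • z0 = z0 by decide +kernel, ee_z, (h.memC _).1 t.2]; simp)

theorem ab : Act (ee x.1 a β z) b A1 := act_of (D.add h)
  (by rw [show A1 • d1 = d1 + -d0 + z0 by decide +kernel, D.add h, D.add h, e_neg (D.add h), ee_d1, ee_d0, ee_z, D.bx])
  (by rw [show A1 • d0 = d0 + z0 by decide +kernel, D.add h, ee_d0, ee_z, D.bd])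
  (by rw [show A1 • (d2 - d1) = d2 - d1 by decide +kernel, ee_β, D.bβ]; simp)
  (by rw [show A1 • z0 = z0 by decide +kernel, ee_z, h.h0.zc D.bQ]; simp)

theorem aτ : Act (ee x.1 a β z) τ cyc := act_of (D.add h)
  (by rw [show cyc • d1 = d1 + (d2 - d1) by decide +kernel, D.add h, ee_d1, ee_β, D.τx])
  (by rw [show cyc • d0 = d0 by decide +kernel, ee_d0, D.τd]; simp)
  (by rw [show cyc • (d2 - d1) = d2 - d1 + z0 by decide +kernel, D.add h, ee_β, ee_z, D.τβ])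
  (by rw [show cyc • z0 = z0 by decide +kernel, ee_z, h.h0.zc D.τQ]; simp)

variable (d : Cr z C Q π p ρ σ)
include d

theorem crd : (p a).2 = 0 ∧ (p b).2 = 0 ∧ (p β).1 = 0 ∧ (p τ).1 = 0 ∧ ω (p b).1 (p a).1 = 1 ∧ ω (p τ).2 (p β).2 = 1 := by
  have h0 := h.h0
  have pt : ∀ q ∈ Q, p (t * q * t.1⁻¹) = (-(p q).1, (p q).2) := fun q hq => by
    rw [d.act t q hq, (d.neg t D.πt).1, (d.neg t D.πt).2, ac_one, ac_neg]
  have k1 : ∀ q ∈ Q, t * q * t.1⁻¹ = q⁻¹ → (p q).2 = 0 := fun q hq e => by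
    have := pt q hq
    rw [e, d.inv hq] at this
    exact eq_zero_of_neg (congrArg Prod.snd this).symm
  have k2 : ∀ q ∈ Q, t * q = q * t → (p q).1 = 0 := fun q hq e => by
    have := pt q hq
    rw [e, mul_inv_cancel_right] at this
    exact eq_zero_of_neg (congrArg Prod.fst this)
  have k3 : ∀ q ∈ Q, ∀ q' ∈ Q, q * q' * q⁻¹ = q' * z → ω (p q).1 (p q').1 + ω (p q).2 (p q').2 = 1 :=
    fun q hq q' hq' e => pow_val_inj h.oz (by
      rw [← d.comm q hq q' hq', e, h0.zc hq', ZMod.val_one, pow_one, mul_inv_cancel_right])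
  refine ⟨k1 a D.dQ D.td, k1 b D.bQ D.tb, k2 β D.βQ D.tβ, k2 τ D.τQ D.tτ, ?_, ?_⟩
  · simpa [k1 a D.dQ D.td, ω] using k3 b D.bQ a D.dQ D.bd
  · simpa [k2 β D.βQ D.tβ, ω] using k3 τ D.τQ β D.βQ D.τβ

theorem pe {v : V} (hv : dot v z0 = 0) : p (ee x.1 a β z v) = (v.1 • (p a).1, (v.2.2.1 - v.2.2.2) • (p β).2) := by
  obtain ⟨a2, -, β1, -⟩ := D.crd h d
  rw [ee, hv, ZMod.val_zero, pow_zero, one_mul, d.mul _ (mul_mem (pow_mem D.dQ _) (pow_mem D.βQ _)) _ (pow_mem h.zQ _),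
    d.mul _ (pow_mem D.dQ _) _ (pow_mem D.βQ _), d.pow_val D.dQ, d.pow_val D.βQ, d.pow_val h.zQ,
    (d.zero z h.zQ).2 (mem_zpowers z)]
  exact Prod.ext (by simp [β1]) (by simp [a2])

theorem ne0 : (p a).1 ≠ 0 ∧ (p β).2 ≠ 0 := by
  obtain ⟨-, -, -, -, k1, k2⟩ := D.crd h d
  exact ⟨fun e => by simp [e, ω] at k1, fun e => by simp [e, ω] at k2⟩

theorem inj (v : V) (e : ee x.1 a β z v = 1) : v = 0 := by
  have k := (D.QJ h v).1 (e ▸ one_mem _)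
  have k1 := D.pe h d k
  rw [e, d.one] at k1
  have k2 := (smul_eq_zero.1 (congrArg Prod.fst k1).symm).resolve_right (D.ne0 h d).1
  have k3 := (smul_eq_zero.1 (congrArg Prod.snd k1).symm).resolve_right (D.ne0 h d).2
  rw [ee, k, k2, k3, ZMod.val_zero, pow_zero, pow_zero, pow_zero, one_mul, one_mul, one_mul, pow_val_eq_one h.oz] at e
  exact (by decide +kernel : ∀ v : V, dot v z0 = 0 → v.1 = 0 → v.2.2.1 - v.2.2.2 = 0 → v.2.2.2 = 0 → v = 0) v k k2 k3 e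

theorem J0 {q : G} (hq : q ∈ Q) (h1 : q * a = a * q) (h2 : q * β = β * q) : ∃ v, dot v z0 = 0 ∧ q = ee x.1 a β z v := by
  have h0 := h.h0
  obtain ⟨a2, -, β1, -⟩ := D.crd h d
  obtain ⟨l, hl⟩ := w_dep _ (D.ne0 h d).1 (p q).1 (by simpa [a2, ω] using (d.comm_iff h0 hq D.dQ).1 h1)
  obtain ⟨m, hm⟩ := w_dep _ (D.ne0 h d).2 (p q).2 (by simpa [β1, ω] using (d.comm_iff h0 hq D.βQ).1 h2)
  have k : dot (l, -m, m, 0) z0 = 0 := by simp [dot_def, z0]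
  obtain ⟨n, e⟩ := d.eq_of h0 hq ((D.QJ h _).2 k) (by rw [D.pe h d k, sub_zero, ← hl, ← hm])
  refine ⟨n.val • z0 + (l, -m, m, 0), by
    rw [add_dot, k]; exact (by decide +kernel : ∀ n : F, dot (n.val • z0) z0 + 0 = 0) n, ?_⟩
  rw [D.add h, e_nsmul (D.add h), ee_z, e]

theorem QA {q : G} (hq : q ∈ Q) : q ∈ NA (ee x.1 a β z) := by
  have h0 := h.h0
  obtain ⟨a2, b2, β1, τ1, k1, k2⟩ := D.crd h d
  have m1 := pow_mem D.bQ (ω (p q).1 (p a).1).val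
  have m2 := pow_mem D.τQ (ω (p q).2 (p β).2).val
  have m := mul_mem hq (inv_mem (mul_mem m1 m2))
  have pm := d.mul _ hq _ (inv_mem (mul_mem m1 m2))
  rw [d.inv (mul_mem m1 m2), d.mul _ m1 _ m2, d.pow_val D.bQ, d.pow_val D.τQ] at pm
  have sub : ∀ u u' v : W, ∀ c : F, ω (u + -(c • u')) v = ω u v - c * ω u' v := fun u u' v c => by
    simp only [ω, Prod.fst_add, Prod.snd_add, Prod.fst_neg, Prod.snd_neg, Prod.smul_fst, Prod.smul_snd, smul_eq_mul]; ring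
  have z0 : ∀ u : W, ω u 0 = 0 := fun u => by simp [ω]
  obtain ⟨v, -, e⟩ := D.J0 h d m ((d.comm_iff h0 m D.dQ).2 (by rw [pm]; simp [a2, τ1, sub, k1, z0]))
    ((d.comm_iff h0 m D.βQ).2 (by rw [pm]; simp [β1, b2, sub, k2, z0]))
  rw [mul_inv_eq_iff_eq_mul.1 e]
  exact ⟨_, (act_e (D.add h) v).mul (((D.ab h).pow _).mul ((D.aτ h).pow _))⟩

omit d in
theorem xA : x.1 ∈ NA (ee x.1 a β z) := ⟨1, by have := act_e (D.add h) d1; rwa [ee_d1] at this⟩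

theorem cj (g : G) (hg : ∀ v, g * ee x.1 a β z v = ee x.1 a β z v * g) : ∃ v, g = ee x.1 a β z v := by
  have h0 := h.h0
  obtain ⟨x1, x2, x3⟩ := D.πx h
  have gC := (h.memC g).2 (ee_z x.1 a β z ▸ hg z0)
  have gx : (⟨g, gC⟩ : C) * x = x * ⟨g, gC⟩ := Subtype.ext (by have := hg d1; rwa [ee_d1] at this)
  obtain ⟨k, hk⟩ := s2_a _ x1 x2 (π ⟨g, gC⟩).1 (by simpa using congrArg (fun c => (π c).1) gx)
  obtain ⟨c, hc⟩ : ∃ c : C, ⟨g, gC⟩ * x ^ k.1 = c := ⟨_, rfl⟩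
  have c1 : c * a = a * c :=
    hc ▸ (Commute.mul_left (ee_d0 x.1 a β z ▸ hg d0) (Commute.pow_left D.xd _)).eq
  have c2 : c * β = β * c :=
    hc ▸ (Commute.mul_left (ee_β x.1 a β z ▸ hg (d2 - d1)) (Commute.pow_left D.xβ _)).eq
  obtain ⟨r1, r2⟩ := d.ρ_Q h0 ((h.ker (c * c)).1 (Prod.ext (by simpa [← hc] using hk)
    (by rw [map_mul]; exact (by decide : ∀ a : M2, a * a = 1) _)))
  have l : ∀ Y : S2, Y * Y = 1 → ∀ v, v ≠ 0 → v = ac Y v → Y = 1 := by decide +kernel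
  have e1 := d.act c a D.dQ
  have e2 := d.act c β D.βQ
  rw [c1, mul_inv_cancel_right] at e1
  rw [c2, mul_inv_cancel_right] at e2
  obtain ⟨v, -, e⟩ := D.J0 h d (d.faith h0 (l _ (by rwa [← map_mul]) _ (D.ne0 h d).1 (congrArg Prod.fst e1))
    (l _ (by rwa [← map_mul]) _ (D.ne0 h d).2 (congrArg Prod.snd e2))) c1 c2
  refine ⟨v + -(k.1 • d1), ?_⟩
  rw [D.add h, e_neg (D.add h), e_nsmul (D.add h), ee_d1, ← e, ← hc]
  simp

theorem extra {g : C} (hg : (π g).2 ≠ 1) : ∃ s : C, (π s).2 ≠ 1 ∧ s.1 ∈ NA (ee x.1 a β z) := by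
  have h0 := h.h0
  have m2 : ∀ a : M2, a * a = 1 ∧ a ^ 3 = a := by decide
  have inv : ∀ c : C, (π c).1 = 1 → c ^ 3 * c ^ 3 = 1 ∧ π (c ^ 3) = π c := fun c e =>
    ⟨by rw [← pow_two, ← pow_mul, mul_comm, pow_mul]
        exact Subtype.ext (h.exp _ ((h.ker (c ^ 2)).1 (Prod.ext (by simp [e]) (by simp [pow_two, (m2 _).1])))),
      Prod.ext (by simp [e]) (by simp [(m2 _).2])⟩
  obtain ⟨s, s1, s2, s3, st, ss⟩ : ∃ s : C, (π s).2 ≠ 1 ∧ π s * π x = π x * π s ∧ (ρ s = 1 ∧ σ s = -1) ∧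
      s * t = t * s ∧ s * s = 1 := by
    obtain ⟨c, hc⟩ := h.sur (π g).1⁻¹
    obtain ⟨s, e, st⟩ := h0.exists_comm D.t2 (c * g) (by rw [D.πt]; ext <;> simp)
    have e1 : (π s).1 = 1 := by simp [e, hc]
    obtain ⟨ss, e2⟩ := inv s e1
    replace st : s ^ 3 * t = t * s ^ 3 := Commute.pow_left st 3
    replace hg : (π (s ^ 3)).2 ≠ 1 := by simpa [e2, e, hc] using hg
    rw [← e2] at e1
    generalize s ^ 3 = s' at *
    have n1 : ∀ c : C, (π c).2 ≠ 1 → ρ c = 1 → σ c ≠ 1 := fun c k k1 k2 =>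
      k (congrArg Prod.snd ((h.ker c).2 (d.faith h0 k1 k2)))
    have hg' : (π (s' * t)).2 ≠ 1 := by simpa [D.πt] using hg
    obtain ⟨t1, t2⟩ := d.neg t D.πt
    rcases s2_b (ρ s') (by rw [← map_mul, ss, map_one]) with k | k
    · exact ⟨s', hg, Prod.ext (by simp [e1]) (mul_comm _ _), ⟨k, (s2_b _ (by rw [← map_mul, ss, map_one])).resolve_left
        (n1 _ hg k)⟩, st, ss⟩
    · have k' : ρ (s' * t) = 1 := by rw [map_mul, k, t1]; decide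
      have ss' : s' * t * (s' * t) = 1 := by rw [mul_assoc, ← mul_assoc t, ← st, mul_assoc s' t, D.t2, mul_one, ss]
      exact ⟨s' * t, hg', Prod.ext (by simp [e1, D.πt]) (mul_comm _ _), ⟨k', (s2_b _ (by
        rw [← map_mul, ss', map_one])).resolve_left (n1 _ hg' k')⟩, by rw [← mul_assoc t, st], ss'⟩
  obtain ⟨a2, -, β1, τ1, -⟩ := D.crd h d
  have st' : Commute s.1 t.1 := congrArg Subtype.val st
  have ss' : ∀ y : G, s * (s * y * s.1⁻¹) * s.1⁻¹ = y := fun y => by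
    have : s.1 * s.1 = 1 := congrArg Subtype.val ss
    rw [← mul_assoc, ← mul_assoc, this, mul_assoc _ _ s.1⁻¹, ← mul_inv_rev, this]; group
  have ps : ∀ q ∈ Q, p (s * q * s.1⁻¹) = ((p q).1, -(p q).2) := fun q hq => by
    rw [d.act s q hq, s3.1, s3.2, ac_one, ac_neg]
  have sa : s * a * s.1⁻¹ = a := by
    obtain ⟨k, e⟩ := d.eq_of h0 (h0.conj_mem s.2 D.dQ) D.dQ (by rw [ps a D.dQ, a2, neg_zero, ← a2])
    have e1 : t * (s * a * s.1⁻¹) * t.1⁻¹ = (s * a * s.1⁻¹)⁻¹ := by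
      rw [conj_inv, ← D.td]
      calc _ = t.1 * s * a * (t.1 * s)⁻¹ := by group
        _ = _ := by rw [← st'.eq]; group
    rw [e, ← conj_mul, D.td, h0.cz t.2, mul_inv_cancel_right, ← h0.cz (h0.QC D.dQ), mul_inv_rev, mul_left_inj,
      ← pow_val_neg h0.z3] at e1
    rw [e, eq_zero_of_neg (V := F) (pow_val_inj h.oz e1)]; simp
  have sq : ∀ q ∈ Q, (p q).1 = 0 → ∃ k : F, s * q * s.1⁻¹ = z ^ k.val * q⁻¹ := fun q hq e =>
    d.eq_of h0 (h0.conj_mem s.2 hq) (inv_mem hq) (by rw [ps q hq, d.inv hq]; exact Prod.ext (by simp [e]) rfl)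
  obtain ⟨l, sτ⟩ := sq τ D.τQ τ1
  obtain ⟨k, sβ⟩ := sq β D.βQ β1
  have cm : ∀ y : G, Commute x.1 (s * y * s.1⁻¹) → Commute (s * x * s.1⁻¹) y := fun y e => by
    rw [commute_iff_eq, ← ss' y, conj_mul, conj_mul, e.eq]
  obtain ⟨v, v0, e⟩ := D.J0 h d (h0.mem_Q (a := x) (b := s * x * s⁻¹) (by simp [s2]))
    ((Commute.inv_left D.xd).mul_left (cm a (by rw [sa]; exact D.xd)))
    ((Commute.inv_left D.xβ).mul_left (cm β (by
      rw [sβ]; exact Commute.mul_right (h0.cz x.2 _) (Commute.inv_right D.xβ))))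
  have a0 : Ad (ee x.1 a β z) := ⟨D.add h, D.inj h d⟩
  have sx : s * ee x.1 a β z d1 * s.1⁻¹ = ee x.1 a β z (d1 + v) := by
    rw [D.add h, ← e, ee_d1]; simp
  have v1 : r0 • (d1 + v) = d1 + v := a0.eq_iff.1 (by
    rw [← D.at' h, ← sx, ee_d1]
    exact mul_inv_eq_iff_eq_mul.2 ((st'.symm.mul_right (congrArg Subtype.val D.xt).symm).mul_right st'.symm.inv_right))
  have sz : s * ee x.1 a β z z0 * s.1⁻¹ = ee x.1 a β z z0 := by rw [ee_z, (h.memC _).1 s.2]; simp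
  have sβ' : s * ee x.1 a β z (d2 - d1) * s.1⁻¹ = ee x.1 a β z (-(d1 + v) + cyc⁻¹ • (d1 + v)) := by
    rw [D.add h, e_neg (D.add h), ← (D.aτ h).inv, ← sx, ee_β, ee_d1, eq_inv_mul_of_mul_eq D.τx.symm]
    have k1 := h0.cz (mul_mem (mul_mem (inv_mem (h0.QC D.τQ)) (mul_mem (mul_mem s.2 x.2) (inv_mem s.2)))
      (h0.QC D.τQ)) l.val
    calc _ = (s * x * s.1⁻¹)⁻¹ * (s * τ * s.1⁻¹ * (s * x * s.1⁻¹) * (s * τ * s.1⁻¹)⁻¹) := by group
      _ = (s * x * s.1⁻¹)⁻¹ * (z ^ l.val * (τ⁻¹ * (s * x * s.1⁻¹) * τ) * (z ^ l.val)⁻¹) := by rw [sτ]; group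
      _ = _ := by rw [← k1, mul_inv_cancel_right, inv_inv]
  obtain ⟨m, n, e2⟩ := (by decide +kernel : ∀ v : V, dot v z0 = 0 → r0 • (d1 + v) = d1 + v →
    ∃ m n : Fin 3, v = m.1 • (d2 - d1) + n.1 • z0) v v0 v1
  have e3 : d1 + v + (m.1 • (-(d1 + v) + cyc⁻¹ • (d1 + v)) + n.1 • z0) = d1 := a0.eq_iff.1 (by
    rw [D.add h, D.add h _ (n.1 • z0), e_nsmul (D.add h), e_nsmul (D.add h), ← sβ', ← sz, ← sx, conj_pow, conj_pow,
      conj_mul, conj_mul, ← e_nsmul (D.add h), ← e_nsmul (D.add h), ← D.add h, ← D.add h, ← e2, ← sx, ss'])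
  obtain ⟨j, e4, e5⟩ := (by decide +kernel : ∀ m n : Fin 3, ∀ v, v = m.1 • (d2 - d1) + n.1 • z0 →
    d1 + v + (m.1 • (-(d1 + v) + cyc⁻¹ • (d1 + v)) + n.1 • z0) = d1 → ∃ j : Fin 3,
      (cyc ^ j.1 * sw) • d1 = d1 + v ∧ (cyc ^ j.1 * sw) • (d2 - d1) = -(d1 + v) + cyc⁻¹ • (d1 + v)) m n v e2 e3
  have e6 : ∀ j : Fin 3, (cyc ^ j.1 * sw) • d0 = d0 ∧ (cyc ^ j.1 * sw) • z0 = z0 := by decide +kernel
  exact ⟨s, s1, _, act_of (D.add h) (e4 ▸ sx) (by rw [(e6 j).1, ee_d0, sa]) (e5 ▸ sβ') (by rw [(e6 j).2, sz])⟩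

end Dt

/-- notes/O83.md, section Ee -/
theorem Hy.exists_h2 {G : Type*} [Group G] [Finite G] {z : G} {C Q : Subgroup G} {π : C →* S2 × M2}
    (h : Hy z C Q π) {g : G} (hg : g * z * g⁻¹ ∈ Q) (hz : g * z * g⁻¹ ∉ zpowers z) :
    ∃ (e : V → G) (t i b τ : G), H2 e Q t i b τ := by
  have h0 := h.h0
  obtain ⟨p, ρ, σ, d⟩ := h.exists_cr
  obtain ⟨t, x, i, a, b, β, τ, D, k1, k2, y, yC, yQ', yQ, yx, ya, yβ⟩ := d.exists_dt h hg hz
  obtain ⟨q1, q2, q3⟩ := D.quat h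
  obtain ⟨x1, x2, x3⟩ := D.πx h
  have tA : t.1 ∈ NA (ee x.1 a β z) := ⟨_, D.at' h⟩
  have jR : RR (ee x.1 a β z) i = closure {i.1, x * i * x.1⁻¹} := by rw [RR, jj, ee_d1]
  refine ⟨ee x.1 a β z, t, i, b, τ, ⟨D.add h, D.inj h d⟩, D.cj h d, D.at' h, D.ab h, D.aτ h,
    congrArg Subtype.val D.t2, D.tb, congrArg Subtype.val D.ii, ?_, ?_, by rw [ee_d0, D.id], fun c k1 k2 => ?_,
    fun c k => ?_, fun P hP k => ?_, fun c k q hq => h0.conj_mem ((h.memC c).2 (ee_z x.1 a β z ▸ k)) hq, D.QJ h,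
    fun c v e k => ?_, ?_⟩
  · rw [jj, ee_d1]
    exact q1.imp (congrArg Subtype.val) (congrArg Subtype.val)
  · rw [ee_z]; exact (h.memC _).1 i.2
  · rw [ee_z] at k1
    rw [jR]
    exact q2 (⟨c, (h.memC c).2 k1⟩ * i * ⟨c, (h.memC c).2 k1⟩⁻¹) (by
      rw [conj_mul, D.ii]; exact Subtype.ext (mul_inv_eq_iff_eq_mul.2 k2)) (by simp [D.πi])
  · rw [ee_z] at k
    rw [jR]
    have key : ∀ c : C, (π c).2 = 1 → ∃ r ∈ closure {i.1, x * i * x.1⁻¹}, r⁻¹ * c ∈ NA (ee x.1 a β z) := fun c e => by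
      obtain ⟨r, hr, m, n, k⟩ := q3 c e
      exact ⟨r, hr, (mul_mem_cancel_left (inv_mem (mul_mem (pow_mem (D.xA h) m) (pow_mem tA n)))).1 (D.QA h d k)⟩
    by_cases e : (π ⟨c, (h.memC c).2 k⟩).2 = 1
    · exact key _ e
    · obtain ⟨s, s1, s2⟩ := D.extra h d e
      obtain ⟨r, hr, k⟩ := key (⟨c, (h.memC c).2 k⟩ * s) (by
        rw [map_mul, Prod.snd_mul]
        exact (by decide : ∀ a b : M2, a ≠ 1 → b ≠ 1 → a * b = 1) _ _ e s1)
      exact ⟨r, hr, (mul_mem_cancel_right s2).1 (by rw [mul_assoc]; exact k)⟩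
  · rw [ee_z] at k ⊢
    have PC : P ≤ C := fun q hq => (h.memC q).2 (k q hq)
    have cb : ∀ q (hq : q ∈ P), π ⟨q, PC hq⟩ * π ⟨q, PC hq⟩ * π ⟨q, PC hq⟩ = 1 := fun q hq => by
      obtain ⟨n, hn⟩ := hP ⟨q, hq⟩
      have e : π ⟨q, PC hq⟩ ^ 3 ^ n = 1 := by
        rw [← map_pow, show (⟨q, PC hq⟩ : C) ^ 3 ^ n = 1 from
          Subtype.ext (show q ^ 3 ^ n = 1 from congrArg Subtype.val hn), map_one]
      rw [← pow_three', ← orderOf_dvd_iff_pow_eq_one]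
      exact Nat.Coprime.dvd_of_dvd_mul_right (n := 4) (Nat.Coprime.coprime_dvd_left (orderOf_dvd_of_pow_eq_one e)
        (Nat.Coprime.pow_left n (by decide : Nat.Coprime 3 4))) (orderOf_dvd_of_pow_eq_one (s2_e _))
    have c1 := fun q hq => congrArg Prod.fst (cb q hq)
    have c2 := fun q hq => m2_cube _ (congrArg Prod.snd (cb q hq))
    have fin : ∀ c : C, ∀ n : ℕ, (π c).1 = (π x).1 ^ n → (π c).2 = 1 → c.1 ∈ NA (ee x.1 a β z) := fun c n e1 e2 =>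
      (mul_mem_cancel_left (inv_mem (pow_mem (D.xA h) n))).1
        (D.QA h d (h0.mem_Q (a := x ^ n) (Prod.ext (by simp [e1]) (by simp [e2, x3]))))
    by_cases e : ∀ q (hq : q ∈ P), (π ⟨q, PC hq⟩).1 = 1
    · exact ⟨1, by simp, fun q hq => by simpa [mem_NA] using fin ⟨q, PC hq⟩ 0 (e q hq) (c2 q hq)⟩
    · obtain ⟨q0, hq0, e⟩ : ∃ q, ∃ hq : q ∈ P, (π ⟨q, PC hq⟩).1 ≠ 1 := by simpa using e
      obtain ⟨K, hK⟩ := s2_d _ x1 x2 _ e (c1 q0 hq0)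
      obtain ⟨n, hn⟩ : ∃ n : ℕ, K * (π ⟨q0, PC hq0⟩).1 * K⁻¹ = (π x).1 ^ n :=
        hK.elim (fun k => ⟨1, by rw [k, pow_one]⟩) fun k => ⟨2, by rw [k, pow_two]⟩
      obtain ⟨c, hc⟩ := h.sur K
      refine ⟨c, (h.memC _).1 c.2, fun q hq => ?_⟩
      obtain ⟨m, hm⟩ : ∃ m : ℕ, (π ⟨q, PC hq⟩).1 = (π ⟨q0, PC hq0⟩).1 ^ m := by
        rcases s2_cyc _ (π ⟨q, PC hq⟩).1 e (c1 q0 hq0) (c1 q hq)
          (by rw [← Prod.fst_mul (π _), ← map_mul]; exact c1 _ (mul_mem hq0 hq))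
          (by rw [← Prod.fst_mul (π ⟨q, _⟩), ← Prod.fst_mul (π _), ← map_mul, ← map_mul]
              exact c1 _ (mul_mem hq0 (mul_mem hq hq))) with k | k | k
        exacts [⟨0, by rw [k, pow_zero]⟩, ⟨1, by rw [k, pow_one]⟩, ⟨2, by rw [k, pow_two]⟩]
      exact fin (c * ⟨q, PC hq⟩ * c⁻¹) (n * m) (by simp [hc, hm, pow_mul, ← hn]) (by simpa [hc] using c2 q hq)
  · rw [ee_z] at e
    have m := (D.QJ h v).2 k
    have pe := D.pe h d k
    rw [← e] at m pe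
    refine (by decide +kernel : ∀ v : V, dot v z0 = 0 → (v.1 = 0 ↔ v.2.2.1 - v.2.2.2 = 0) → q v = 0) v k ?_
    by_cases hz : c * z * c⁻¹ ∈ zpowers z
    · rw [(d.zero _ m).2 hz] at pe
      exact iff_of_true ((smul_eq_zero.1 (congrArg Prod.fst pe).symm).resolve_right (D.ne0 h d).1)
        ((smul_eq_zero.1 (congrArg Prod.snd pe).symm).resolve_right (D.ne0 h d).2)
    · obtain ⟨-, w1, w2, -⟩ := d.pair h0 m hz
      rw [pe] at w1 w2
      exact iff_of_false (fun e => w1 (by simp [e])) fun e => w2 (by simp [e])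
  · obtain ⟨v, v0, e⟩ := D.J0 h d hg k1 k2
    obtain ⟨u, e'⟩ := D.cj h d y fun v => (((Commute.pow_right yx _).mul_right (Commute.pow_right ya _)).mul_right
      (Commute.pow_right yβ _)).mul_right (Commute.pow_right ((h.memC y).1 yC) _)
    refine ⟨g, v, u, by rwa [ee_z], v0, fun k => hz ?_, fun k => hz ?_, by rw [ee_z]; exact (d.pair h0 hg hz).1,
      e' ▸ yQ', fun k => yQ (e' ▸ (D.QJ h u).2 k)⟩
    · rw [e, k, ee_z]; exact mem_zpowers z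
    · rw [e, k, e_neg (D.add h), ee_z]; exact inv_mem (mem_zpowers z)

end Cfsg.Agent.O83
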