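import Cfsg.Agent.O83.Defs

set_option autoImplicit false
set_option synthInstance.maxSize 4096
set_option maxRecDepth 100000

namespace Cfsg.Agent.O83

open Subgroup

namespace Uqa

/-- the elements of order three -/
def L3 : List O4 := LO.filter fun A => decide (A * A * A = 1) && decide (A ≠ 1)

theorem mem_L3 {A : O4} (h : A * A * A = 1) (h1 : A ≠ 1) : A ∈ L3 :=
  List.mem_filter.2 ⟨mem_LO A, by simp [h, h1]⟩

theorem fix9 {A : O4} (h : A * A * A = 1) (h1 : A ≠ 1) : (LV.filter fun v => decide (A • v = v)).length ≤ 9 :=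
  of_decide_eq_true (List.all_eq_true.1 (by decide +kernel :
    (L3.all fun A => decide ((LV.filter fun v => decide (A • v = v)).length ≤ 9)) = true) A (mem_L3 h h1))

theorem fix3 {A B : O4} (h : A * A * A = 1) (h1 : A ≠ 1) (k : B * B * B = 1) (k1 : B ≠ 1) (c : A * B = B * A) :
    B = A ∨ B = A * A ∨ (LV.filter fun v => decide (A • v = v) && decide (B • v = v)).length ≤ 3 :=
  of_decide_eq_true (List.all_eq_true.1 (List.all_eq_true.1 (by decide +kernel :
    (L3.all fun A => L3.all fun B => decide (A * B = B * A → B = A ∨ B = A * A ∨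
      (LV.filter fun v => decide (A • v = v) && decide (B • v = v)).length ≤ 3)) = true) A (mem_L3 h h1))
    B (mem_L3 k k1)) c

theorem card_le {K α : Type*} [DecidableEq α] (φ : K → α) (inj : Function.Injective φ) (l : List α)
    (hp : ∀ k, φ k ∈ l) : Nat.card K ≤ l.length := by
  refine le_trans (Nat.card_le_card_of_injective (fun k => (⟨φ k, List.mem_toFinset.2 (hp k)⟩ : l.toFinset))
    fun a b k => inj (congrArg Subtype.val k)) ?_
  rw [Nat.card_eq_fintype_card, Fintype.card_coe]
  exact List.toFinset_card_le l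

end Uqa

variable {G : Type*} [Group G] [Finite G] {e : V → G}

/-- notes/O83.md, section Uq: `J` is weakly closed -/
theorem Ad.uq (h : Ad e) (cj : ∀ g, (∀ v, g * e v = e v * g) → ∃ v, g = e v) {g : G}
    (hg : ∀ v, ∃ A, Act e (g * e v * g⁻¹) A) : g ∈ NN e := by
  choose A hA using hg
  have hm : ∀ u v, A (u + v) = A u * A v := fun u v => O4.ext' fun w => h.eq_iff.1 (by
    rw [← hA, mul_smul, ← hA, ← hA, h.add]; group)
  have hk : ∀ v, A v = 1 → ∃ w, g * e v * g⁻¹ = e w := fun v k => cj _ fun w => by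
    rw [← mul_inv_eq_iff_eq_mul, hA, k, one_smul]
  rw [mem_NN h.add]
  intro u
  refine hk u ?_
  by_contra hu
  let f : Multiplicative V →* O4 := MonoidHom.mk' (fun v => A v.toAdd) fun a b => hm _ _
  have h0 : A 0 = 1 := f.map_one
  have h3 : ∀ v, A v * A v * A v = 1 := fun v => by rw [← hm, ← hm, add_three, h0]
  have hc : Nat.card f.ker * Nat.card f.range = 81 := by
    rw [← index_ker, card_mul_index, Nat.card_congr Multiplicative.toAdd]
    simp
  have h9 : Nat.card f.range ≤ 9 := by
    have k1 : Nat.card f.range ∣ 1152 := card_O4 ▸ card_subgroup_dvd_card _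
    have k2 : Nat.card f.range ∣ 81 := Dvd.intro_left _ hc
    exact Nat.le_of_dvd (by norm_num) (Nat.dvd_gcd k1 k2)
  choose φ hφ using fun k : f.ker => hk k.1.toAdd k.2
  have inj : Function.Injective φ := fun a b k => by
    have := hφ a
    rw [k, ← hφ b, mul_left_inj, mul_right_inj, h.eq_iff] at this
    exact Subtype.ext this
  have fx : ∀ v k, A v • φ k = φ k := fun v k => h.eq_iff.1 (by
    rw [← hA, ← hφ, mul_inv_eq_iff_eq_mul]
    calc g * e v * g⁻¹ * (g * e k.1.toAdd * g⁻¹) = g * (e v * e k.1.toAdd) * g⁻¹ := by group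
      _ = _ := by rw [e_comm h.add]; group)
  by_cases hv : ∀ v, A v = 1 ∨ A v = A u ∨ A v = A u * A u
  · have k1 := (Uqa.card_le φ inj _ fun k => List.mem_filter.2 ⟨mem_LV _, decide_eq_true (fx u k)⟩).trans
      (Uqa.fix9 (h3 u) hu)
    have k2 : Nat.card f.range ≤ 3 := Uqa.card_le (fun k : f.range => k.1) Subtype.val_injective
      [1, A u, A u * A u] (by rintro ⟨_, v, rfl⟩; simpa [f] using hv v.toAdd)
    have := Nat.mul_le_mul k1 k2
    omega
  · obtain ⟨v, hv⟩ := not_forall.1 hv
    rw [not_or, not_or] at hv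
    have k0 := ((Uqa.fix3 (h3 u) hu (h3 v) hv.1 (by rw [← hm, ← hm, add_comm])).resolve_left hv.2.1).resolve_left
      hv.2.2
    have k1 := (Uqa.card_le φ inj _ fun k => List.mem_filter.2 ⟨mem_LV _, by simp [fx]⟩).trans k0
    have := Nat.mul_le_mul k1 h9
    omega

end Cfsg.Agent.O83
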