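import Cfsg.Agent.O83.Bas0
import Cfsg.Agent.O83.Uq
import Cfsg.Agent.H23.Basic

set_option autoImplicit false

namespace Cfsg.Agent.O83

open Subgroup

variable {G : Type*} [Group G] [Finite G] {Γ : Subgroup O4} {e : V → G} {σ : O4 → G} {i : G}

/-- W1: weak closure -/
theorem Cf.wc (h : Cf Γ e σ i) {g : G} (hg : ∀ v, g * e v * g⁻¹ ∈ NN e) : g ∈ NN e := by
  refine h.toAd.uq (fun _ => h.cj) fun v => ?_
  obtain ⟨u, A, hA, k⟩ := h.norm _ (hg v)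
  exact ⟨A, fun w => by rw [k, h.conj_e hA]⟩

/-- W2 -/
theorem Cf.p3 (h : Cf Γ e σ i) {P : Subgroup G} (hP : IsPGroup 3 P) (hJ : ∀ v, e v ∈ P) : P ≤ NN e := by
  have : Fact (Nat.Prime 3) := ⟨Nat.prime_three⟩
  by_contra hn
  obtain ⟨x, hx, k1, k2⟩ := H23.exists_mem_normalizer_not_mem (R := P ⊓ NN e) hP
    (lt_of_le_of_ne inf_le_left fun k => hn (inf_eq_left.1 k))
  exact k2 ⟨hx, h.wc fun v => ((mem_normalizer_iff.1 k1 _).1 ⟨hJ v, h.e_mem v⟩).2⟩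

omit [Finite G] in
theorem Bas2a.pJ (h : Ad e) : IsPGroup 3 (JJ e) := fun x => by
  obtain ⟨v, k⟩ := (mem_JJ h.add).1 x.2
  exact ⟨1, Subtype.ext (by rw [pow_one, coe_pow, ← k, e_cube h.add, coe_one])⟩

theorem Bas2a.key (h : Cf Γ e σ i) {E : Subgroup G} (hJ : ∀ v, e v ∈ E) {g : G}
    (hg : ∀ v, g * e v * g⁻¹ ∈ E) : ∃ c ∈ E, c * g ∈ NN e := by
  have : Fact (Nat.Prime 3) := ⟨Nat.prime_three⟩
  have pJ := Bas2a.pJ h.toAd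
  obtain ⟨S, hS⟩ := (pJ.comap_subtype (K := E)).exists_le_sylow
  obtain ⟨R, hR⟩ := ((pJ.map (MulAut.conj g).toMonoidHom).comap_subtype (K := E)).exists_le_sylow
  obtain ⟨c, hc⟩ := MulAction.exists_smul_eq E R S
  have hN : (S : Subgroup E).map E.subtype ≤ NN e := h.p3 (S.2.map _) fun v =>
    ⟨⟨e v, hJ v⟩, hS (show e v ∈ JJ e from (mem_JJ h.add).2 ⟨v, rfl⟩), rfl⟩
  refine ⟨c, c.2, h.wc fun v => hN ⟨c * ⟨_, hg v⟩ * c⁻¹, ?_, by simp [mul_assoc]⟩⟩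
  rw [← hc]
  exact smul_mem_pointwise_smul _ (MulAut.conj c) _
    (hR (show g * e v * g⁻¹ ∈ (JJ e).map _ from ⟨e v, (mem_JJ h.add).2 ⟨v, rfl⟩, rfl⟩))

/-- W3: `N` controls fusion in `J` -/
theorem Cf.frat (h : Cf Γ e σ i) (U : Set V) {g : G} (hg : ∀ v ∈ U, ∃ w, g * e v * g⁻¹ = e w) :
    ∃ A ∈ Γ, ∀ v ∈ U, g * e v * g⁻¹ = e (A • v) := by
  obtain ⟨c, hc, k⟩ := Bas2a.key h (E := centralizer {x | ∃ v ∈ U, g * e v * g⁻¹ = x}) (g := g)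
    (fun v => mem_centralizer_iff.2 (by
      rintro _ ⟨u, hu, rfl⟩
      obtain ⟨w, k⟩ := hg u hu
      rw [k, e_comm h.add]))
    (fun v => mem_centralizer_iff.2 (by
      rintro _ ⟨u, -, rfl⟩
      calc g * e u * g⁻¹ * (g * e v * g⁻¹) = g * (e u * e v) * g⁻¹ := by group
        _ = _ := by rw [e_comm h.add]; group))
  obtain ⟨u, A, hA, k⟩ := h.norm _ k
  refine ⟨A, hA, fun v hv => ?_⟩
  rw [← h.conj_e hA u, ← k]
  calc g * e v * g⁻¹ = g * e v * g⁻¹ * c * c⁻¹ := by group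
    _ = _ := by rw [mem_centralizer_iff.1 hc _ ⟨v, hv, rfl⟩]; group

/-- W4 -/
theorem Cf.fus (h : Cf Γ e σ i) {g : G} {v w : V} (hg : g * e v * g⁻¹ = e w) : ∃ A ∈ Γ, A • v = w := by
  obtain ⟨A, hA, k⟩ := h.frat {v} (g := g) (by rintro _ rfl; exact ⟨w, hg⟩)
  exact ⟨A, hA, h.toAd.eq_iff.1 ((k v rfl).symm.trans hg)⟩

/-- W5 -/
theorem Cf.fus_q (h : Cf Γ e σ i) {g : G} {v w : V} (hg : g * e v * g⁻¹ = e w) : q w = q v := by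
  obtain ⟨A, -, rfl⟩ := h.fus hg
  exact q_smul A v

/-- W6: the Frattini argument -/
theorem Cf.fratN (h : Cf Γ e σ i) {Y : Subgroup G} (hJ : ∀ v, e v ∈ Y) {g : G}
    (hg : g ∈ normalizer (Y : Set G)) : ∃ y ∈ Y, y⁻¹ * g ∈ NN e := by
  obtain ⟨c, hc, k⟩ := Bas2a.key h hJ (g := g) fun v => (mem_normalizer_iff.1 hg _).1 (hJ v)
  exact ⟨c⁻¹, Y.inv_mem hc, by rwa [inv_inv]⟩

end Cfsg.Agent.O83
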