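import Cfsg.Agent.O83.Bas1
import Cfsg.Agent.O83.Bas2
import Cfsg.Agent.S4215
import Cfsg.Agent.H3.PResidual
import Mathlib.GroupTheory.IndexNormal

set_option autoImplicit false
set_option synthInstance.maxSize 4096
set_option maxRecDepth 100000

namespace Cfsg.Agent.O83

open Subgroup

variable {G : Type*} [Group G] [Finite G] {Γ : Subgroup O4} {e : V → G} {σ : O4 → G} {i : G}

namespace Fin1

/-- `J : W(D₄)` -/
def M0 (h : Cf Γ e σ i) : Subgroup G where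
  carrier := {g | ∃ v, ∃ B ∈ Γ0, g = e v * σ B}
  one_mem' := ⟨0, 1, Γ0.one_mem, by rw [e_zero h.add, h.σ_one, mul_one]⟩
  mul_mem' := by
    rintro _ _ ⟨u, B, hB, rfl⟩ ⟨v, C, hC, rfl⟩
    exact ⟨_, _, Γ0.mul_mem hB hC, h.mul_eq (h.Γ1_le (Γ0_le hB)) (h.Γ1_le (Γ0_le hC)) u v⟩
  inv_mem' := by
    rintro _ ⟨u, B, hB, rfl⟩
    have m := h.Γ1_le (Γ0_le hB)
    refine ⟨B⁻¹ • -u, _, Γ0.inv_mem hB, ?_⟩
    rw [← h.σ_e' (Γ.inv_mem m), h.σ_inv m, e_neg h.add, mul_inv_rev]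

omit [Finite G] in
theorem pow_eq (h : Cf Γ e σ i) {B : O4} (hB : B ∈ Γ) (v : V) (n : ℕ) : ∃ w, (e v * σ B) ^ n = e w * σ (B ^ n) := by
  induction n with
  | zero => exact ⟨0, by rw [pow_zero, pow_zero, e_zero h.add, h.σ_one, mul_one]⟩
  | succ n ih =>
    obtain ⟨w, hw⟩ := ih
    exact ⟨_, by rw [pow_succ, hw, h.mul_eq (Γ.pow_mem hB n) hB, pow_succ]⟩

theorem mem_Γ0_of {A : O4} (hA : A ∈ Γ1) {n : ℕ} (hn : n.Coprime 3) (h : A ^ n = 1) : A ∈ Γ0 := by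
  have h3 : φs A ^ 3 = 1 :=
    (by decide : ∀ p : Equiv.Perm (Fin 3), Equiv.Perm.sign p = 1 → p ^ 3 = 1) (φs A) hA
  have h4 : φs A ^ n = 1 := by rw [← map_pow, h, map_one]
  exact orderOf_eq_one_iff.1 (Nat.eq_one_of_dvd_coprimes hn (orderOf_dvd_of_pow_eq_one h4)
    (orderOf_dvd_of_pow_eq_one h3))

theorem cyc_pow {k : ℕ} (h : cyc ^ k ∈ Γ0) : cyc ^ k = 1 := by
  rw [pow_eq_pow_mod k (show cyc ^ 3 = 1 by decide +kernel)] at h ⊢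
  have := Nat.mod_lt k (show 0 < 3 by decide)
  generalize k % 3 = m at h this
  interval_cases m
  exacts [pow_zero _, absurd h (by decide +kernel), absurd h (by decide +kernel)]

theorem res_le (h : Cf Γ e σ i) {G₁ : Subgroup G} (hJ : ∀ v, e v ∈ G₁) (hσ : ∀ A ∈ Γ, σ A ∈ G₁ ↔ A ∈ Γ1) {g : G}
    (hg : g ∈ (pResidual 3 G₁).map G₁.subtype) (hN : g ∈ NN e) : g ∈ M0 h := by
  haveI : Fact (Nat.Prime 3) := ⟨Nat.prime_three⟩
  have JG : JJ e ≤ G₁ := fun x hx => by obtain ⟨v, rfl⟩ := (mem_JJ h.add).1 hx; exact hJ v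
  have J3 : IsPGroup 3 (JJ e) := fun x => by
    obtain ⟨v, hv⟩ := (mem_JJ h.add).1 x.2
    exact ⟨1, Subtype.ext (by rw [Subgroup.coe_pow, ← hv]; exact e_cube h.add v)⟩
  obtain ⟨P, hP⟩ := (J3.comap_subtype (K := G₁)).exists_le_sylow
  have mJ : ∀ v, (⟨e v, hJ v⟩ : G₁) ∈ (JJ e).subgroupOf G₁ := fun v => (mem_JJ h.add).2 ⟨v, rfl⟩
  have PN : ∀ u ∈ (P : Subgroup G₁), (u : G) ∈ NN e := fun u hu =>
    h.p3 (P.isPGroup'.map G₁.subtype) (fun v => ⟨_, hP (mJ v), rfl⟩) ⟨u, hu, rfl⟩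
  have nJ : ∀ u : G₁, u ∈ normalizer ((JJ e).subgroupOf G₁ : Set G₁) ↔ (u : G) ∈ NN e := fun u => by
    rw [← subgroupOf_normalizer_eq JG]; rfl
  have hw := S4215.result P ((JJ e).subgroupOf G₁) ⟨hP, fun u hu => by
      have : (u : G) ∈ NN e := h.wc fun v => PN (u * ⟨e v, hJ v⟩ * u⁻¹) (hu ⟨_, mJ v, rfl⟩)
      exact mem_normalizer_iff_map_conj_eq.1 ((nJ u).2 this)⟩
    fun u hu z hz => by
      obtain ⟨v, hv⟩ := (mem_JJ h.add).1 (show (z : G) ∈ JJ e from hz)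
      obtain ⟨w, hw⟩ := (mem_NN h.add).1 (inv_mem (PN u hu)) (-v)
      show (u⁻¹ * z⁻¹ * u * z)⁻¹ * z⁻¹ * (u⁻¹ * z⁻¹ * u * z) * z = 1
      have : Commute (u⁻¹ * z⁻¹ * u * z) z := Subtype.ext (by
        show (u : G)⁻¹ * (z : G)⁻¹ * u * z * z = z * ((u : G)⁻¹ * (z : G)⁻¹ * u * z)
        rw [inv_inv, e_neg h.add, hv] at hw
        rw [hw, ← hv, ← h.add, e_comm h.add])
      generalize u⁻¹ * z⁻¹ * u * z = w at this
      rw [mul_assoc, mul_assoc, this.eq]; group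
  obtain ⟨x, hx, rfl⟩ := hg
  have m : x ∈ pResidualOf 3 (normalizer ((JJ e).subgroupOf G₁ : Set G₁)) := hw ▸ ⟨hx, (nJ x).2 hN⟩
  obtain ⟨y, hy, rfl⟩ := m
  refine (H3.pResidual_le_iff (N := (M0 h).comap (G₁.subtype.comp (Subgroup.subtype _)))).2 (fun y hy => ?_) hy
  obtain ⟨v, A, hA, k⟩ := h.norm _ ((nJ y).1 y.2)
  refine ⟨v, A, ?_, k⟩
  obtain ⟨w, hw⟩ := pow_eq h hA v (orderOf y)
  have k1 : ((y : G₁) : G) ^ orderOf y = 1 := by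
    rw [← Subgroup.coe_pow, ← Subgroup.coe_pow, pow_orderOf_eq_one]; rfl
  rw [k, hw, ← e_zero h.add, h.eq_e (Γ.pow_mem hA _)] at k1
  exact mem_Γ0_of ((hσ A hA).1 ((G₁.mul_mem_cancel_left (hJ v)).1 (k ▸ (y : G₁).2))) hy k1.2

end Fin1

open Fin1 in
/-- notes/O83.md, section Fin1 -/
theorem Cf.fin1 (h : Cf Γ e σ i) {G₁ : Subgroup G} (hi : G₁.index = 1 ∨ G₁.index = 2)
    (hσ : ∀ A ∈ Γ, σ A ∈ G₁ ↔ A ∈ Γ1) : ∃ G₀ : Subgroup G, G₀.Normal ∧ (G₀.index = 3 ∨ G₀.index = 6) ∧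
      SS e σ i ≤ G₀ ∧ ∀ v, ∀ A ∈ Γ, e v * σ A ∈ G₀ ↔ A ∈ Γ0 := by
  haveI : G₁.Normal := by
    rcases hi with k | k
    · rw [index_eq_one.1 k]; infer_instance
    · exact normal_of_index_eq_two k
  have hJ : ∀ v, e v ∈ G₁ := fun v => by
    rw [← neg_neg v, ← add_self, h.add]
    rcases hi with k | k
    · rw [index_eq_one.1 k]; trivial
    · exact mul_self_mem_of_index_two k _
  set G₀ := (pResidual 3 G₁).map G₁.subtype with hG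
  haveI : G₀.Normal := ConjAct.normal_of_characteristic_of_normal
  have le : G₀ ≤ G₁ := map_subtype_le _
  have inv : ∀ g ∈ G₁, g * g = 1 → g ∈ G₀ := fun g hg k => H3.mem_map_subtype_pResidual_of_coprime hg
    (Nat.Coprime.coprime_dvd_left (orderOf_dvd_of_pow_eq_one (n := 2) (by rw [pow_two, k])) (by decide))
  have invσ : ∀ A ∈ Γ1, A * A = 1 → σ A ∈ G₀ := fun A hA k => inv _ ((hσ A (h.Γ1_le hA)).2 hA)
    (by rw [← h.σ_mul _ (h.Γ1_le hA) _ (h.Γ1_le hA), k, h.σ_one])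
  have mw := h.Γ1_le ng_mem
  have J0 : ∀ v, e v ∈ G₀ := fun v => by
    refine (G₀.mul_mem_cancel_right (invσ ng ng_mem (by decide +kernel))).1
      (inv _ (G₁.mul_mem (hJ v) ((hσ _ mw).2 ng_mem)) ?_)
    rw [h.mul_eq mw mw, ng_smul, add_neg_cancel, e_zero h.add, show ng * ng = 1 by decide +kernel, h.σ_one, mul_one]
  have d1' : ∀ v, ∀ A ∈ Γ, e v * σ A ∈ G₀ → A ∈ Γ0 := fun v A hA k => by
    obtain ⟨w, B, hB, k'⟩ := res_le h hJ hσ k ((NN e).mul_mem (h.e_mem v) (h.σ_mem hA))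
    rwa [((h.eq_iff' hA (h.Γ1_le (Γ0_le hB))).1 k').2]
  have mc := h.Γ1_le cyc_mem
  let M : Subgroup O4 :=
    { carrier := {A | A ∈ Γ ∧ σ A ∈ G₀ ⊔ zpowers (σ cyc)}
      one_mem' := ⟨Γ.one_mem, by rw [h.σ_one]; exact one_mem _⟩
      mul_mem' := fun {A B} hA hB => ⟨Γ.mul_mem hA.1 hB.1, by rw [h.σ_mul _ hA.1 _ hB.1]; exact mul_mem hA.2 hB.2⟩
      inv_mem' := fun {A} hA => ⟨Γ.inv_mem hA.1, by rw [h.σ_inv hA.1]; exact inv_mem hA.2⟩ }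
  have m0 : r0 ∈ M := ⟨h.Γ1_le r0_mem, mem_sup_left (invσ _ r0_mem (by decide +kernel))⟩
  have hM : Γ1 ≤ M := Γ1_le_of m0 ⟨h.Γ1_le r1_mem, mem_sup_left (invσ _ r1_mem (by decide +kernel))⟩
    (by
      have a : r0 * A1 ∈ Γ1 := Γ1.mul_mem r0_mem A1_mem
      exact (M.mul_mem_cancel_left m0).1 ⟨h.Γ1_le a, mem_sup_left (invσ _ a (by decide +kernel))⟩)
    ⟨mc, mem_sup_right (mem_zpowers _)⟩
  have d2' : ∀ A ∈ Γ0, σ A ∈ G₀ := fun A hA => by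
    have mA := h.Γ1_le (Γ0_le hA)
    obtain ⟨o, ho, _, hz, k⟩ := mem_sup_of_normal_left.1 (hM (Γ0_le hA)).2
    obtain ⟨n, rfl⟩ := mem_powers_iff_mem_zpowers.2 hz
    have k1 : o * σ (cyc ^ n) = σ A := by rw [h.σ_pow mc]; exact k
    have k2 : o = e 0 * σ (A * (cyc ^ n)⁻¹) := by
      rw [e_zero h.add, one_mul, h.σ_mul _ mA _ (Γ.inv_mem (Γ.pow_mem mc n)), h.σ_inv (Γ.pow_mem mc n), ← k1,
        mul_inv_cancel_right]
    have k3 := d1' 0 _ (Γ.mul_mem mA (Γ.inv_mem (Γ.pow_mem mc n))) (k2 ▸ ho)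
    rw [cyc_pow (Γ0.inv_mem_iff.1 ((Γ0.mul_mem_cancel_left hA).1 k3)), h.σ_one, mul_one] at k1
    exact k1 ▸ ho
  refine ⟨G₀, inferInstance, ?_, iSup_le fun k => h.Rk_le fun r _ =>
    G₀.mul_mem (Normal.conj_mem inferInstance _ (J0 _) r) (G₀.inv_mem (J0 _)), fun v A hA =>
    ⟨d1' v A hA, fun k => G₀.mul_mem (J0 v) (d2' A k)⟩⟩
  have e1 : G₁ = G₀ ⊔ zpowers (σ cyc) := by
    refine le_antisymm (fun g hg => ?_) (sup_le le (zpowers_le.2 ((hσ _ mc).2 cyc_mem)))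
    obtain ⟨y, hy, hN⟩ := h.fratN J0 (g := g) (by rw [normalizer_eq_top]; trivial)
    obtain ⟨v, A, hA, k⟩ := h.norm _ hN
    have a : A ∈ Γ1 := (hσ A hA).1 ((G₁.mul_mem_cancel_left (hJ v)).1 (k ▸ G₁.mul_mem (G₁.inv_mem (le hy)) hg))
    rw [← mul_inv_cancel_left y g, k]
    exact mul_mem (mem_sup_left hy) (mul_mem (mem_sup_left (J0 v)) (hM a).2)
  have n1 : σ cyc ∉ G₀ := fun k => absurd (d1' 0 cyc mc (by rwa [e_zero h.add, one_mul])) (by decide +kernel)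
  have e2 : G₀.relIndex G₁ = 3 := by
    rw [show G₀.relIndex G₁ = G₀.relIndex (G₀ ⊔ zpowers (σ cyc)) by rw [← e1], relIndex_sup_left]
    have a : G₀.relIndex (zpowers (σ cyc)) ∣ 3 := (relIndex_dvd_card _ _).trans (by
      rw [Nat.card_zpowers]
      exact orderOf_dvd_of_pow_eq_one (by rw [← h.σ_pow mc, show cyc ^ 3 = 1 by decide +kernel, h.σ_one]))
    exact ((Nat.dvd_prime Nat.prime_three).1 a).resolve_left fun k => n1 (relIndex_eq_one.1 k (mem_zpowers _))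
  rw [← relIndex_mul_index le, e2]
  omega

end Cfsg.Agent.O83
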