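import Cfsg.Agent.O83.Bas0

set_option autoImplicit false
set_option synthInstance.maxSize 4096
set_option maxRecDepth 100000

namespace Cfsg.Agent.O83

open Subgroup

variable {G : Type*} [Group G] [Finite G] {Γ : Subgroup O4} {e : V → G} {σ : O4 → G} {i : G} {π : G → V8}

namespace Fra

theorem faith0 : ∀ A : O4, A • d0 = d0 → ∀ v : V, v.1 = 0 →
    ρe v (ρσ A ((1, 0), 0, 0, 0)) = ((1, 0), 0, 0, 0) → ρe v (ρσ A ((0, 1), 0, 0, 0)) = ((0, 1), 0, 0, 0) →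
    ρe v (ρσ A (0, (1, 0), 0, 0)) = (0, (1, 0), 0, 0) → ρe v (ρσ A (0, 0, (1, 0), 0)) = (0, 0, (1, 0), 0) →
    ρe v (ρσ A (0, 0, 0, (1, 0))) = (0, 0, 0, (1, 0)) → v = 0 ∧ A = 1 := by decide +kernel

theorem fix1 : ∀ A : O4, A • d0 = d0 → A • d1 = d1 → A • d2 = d2 → A • d3 = d3 → A = 1 := by decide +kernel

theorem nondeg : ∀ c : V8, b2 c ((1, 0), 0, 0, 0) = 0 → b2 c ((0, 1), 0, 0, 0) = 0 → b2 c (0, (1, 0), 0, 0) = 0 →
    b2 c (0, (0, 1), 0, 0) = 0 → b2 c (0, 0, (1, 0), 0) = 0 → b2 c (0, 0, (0, 1), 0) = 0 →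
    b2 c (0, 0, 0, (1, 0)) = 0 → b2 c (0, 0, 0, (0, 1)) = 0 → c = 0 := by decide +kernel

theorem neg8 : ∀ c : V8, -c = c := by decide +kernel

theorem dgf : ∀ b c d : Bool, b = true ∨ c = true ∨ d = true → ∀ x : V8, ρσ (dg false b c d) x = x →
    x = (x.1, 0, x.2.2.1, 0) + ρσ (dg false b c d) (x.1, 0, x.2.2.1, 0) ∨
    x = (x.1, x.2.1, 0, 0) + ρσ (dg false b c d) (x.1, x.2.1, 0, 0) ∨
    x = ((0, x.1.1), (0, x.2.1.1), (0, x.2.2.1.1), (0, x.2.2.2.1)) +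
      ρσ (dg false b c d) ((0, x.1.1), (0, x.2.1.1), (0, x.2.2.1.1), (0, x.2.2.2.1)) := by decide +kernel

omit [Finite G] in
theorem π_one (s : Sd Γ e σ i π) : π 1 = 0 := (s.zero 1 (one_mem _)).2 (Or.inl rfl)

omit [Finite G] in
theorem π_t (s : Sd Γ e σ i π) : π (σ r0) = 0 := (s.zero _ s.tS).2 (Or.inr rfl)

omit [Finite G] in
theorem π_inv (s : Sd Γ e σ i π) {x : G} (hx : x ∈ SS e σ i) : π x⁻¹ = π x := by
  rw [← neg8 (π x)]
  exact eq_neg_of_add_eq_zero_left (by rw [← s.mul _ (inv_mem hx) _ hx, inv_mul_cancel, π_one s])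

omit [Finite G] in
theorem π_conj (s : Sd Γ e σ i π) {x y : G} (hx : x ∈ SS e σ i) (hy : y ∈ SS e σ i) : π (x * y * x⁻¹) = π y := by
  rw [s.mul _ (mul_mem hx hy) _ (inv_mem hx), s.mul _ hx _ hy, π_inv s hx, add_right_comm]
  nth_rewrite 1 [← neg8 (π x)]
  rw [neg_add_cancel, zero_add]

omit [Finite G] in
theorem S_J (h : Cf Γ e σ i) (s : Sd Γ e σ i π) {w : V} (hw : e w ∈ SS e σ i) : w = 0 := by
  have k : e w ^ 4 = 1 := by
    rw [show 4 = 2 * 2 from rfl, pow_mul, pow_two (e w), s.sq _ hw, ← pow_mul, mul_comm, pow_mul, pow_two, h.t2,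
      one_pow]
  rw [pow_succ, e_cube h.add, one_mul] at k
  exact h.inj _ k

omit [Finite G] in
theorem t_comm (h : Cf Γ e σ i) {v : V} {A : O4} (hA : A ∈ Γ) (v0 : v.1 = 0) (A0 : A • d0 = d0) :
    e v * σ A * σ r0 = σ r0 * (e v * σ A) :=
  (h.comm_σ hA (h.Γ1_le r0_mem)).2 ⟨(r0_fix v).2 v0, (comm_r0 A).2 (Or.inl A0)⟩

end Fra

/-- F1: the action on `Σ / ⟨t⟩` is faithful -/
theorem faith {v : V} (h1 : v.1 = 0) {A : O4} (h2 : A • d0 = d0) (h3 : ∀ c, ρe v (ρσ A c) = c) : v = 0 ∧ A = 1 :=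
  Fra.faith0 A h2 v h1 (h3 _) (h3 _) (h3 _) (h3 _) (h3 _)

/-- F2: `Σ ∩ N = ⟨t⟩` -/
theorem Cf.S_N (h : Cf Γ e σ i) (s : Sd Γ e σ i π) {x : G} (hx : x ∈ SS e σ i) (hN : x ∈ NN e) :
    x = 1 ∨ x = σ r0 := by
  have key : ∀ v : V, ∀ A ∈ Γ, A • d0 = d0 → e v * σ A ∈ SS e σ i → e v * σ A = 1 := fun v A hA A0 k => by
    have k1 : ∀ w : V, w.1 = 0 → A • w = w := fun w hw => add_neg_eq_zero.1 (Fra.S_J h s (by
      have := mul_mem k (s.ae w hw _ (inv_mem k)).1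
      rwa [← mul_assoc, ← mul_assoc, h.conj_e hA, ← e_neg h.add, ← h.add] at this))
    obtain rfl := Fra.fix1 A A0 (k1 _ rfl) (k1 _ rfl) (k1 _ rfl)
    rw [h.σ_one, mul_one] at k ⊢
    rw [Fra.S_J h s k, e_zero h.add]
  obtain ⟨v, A, hA, -, A0, rfl | rfl⟩ := h.mem_NH hN (s.tc x hx)
  · exact Or.inl (key v A hA A0 hx)
  · exact Or.inr (by rw [key v A hA A0 ((mul_mem_cancel_right s.tS).1 hx), one_mul])

/-- F3: `N ∩ C(t)` normalises `Σ` -/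
theorem Cf.NH_S (h : Cf Γ e σ i) (s : Sd Γ e σ i π) {g : G} (hg : g ∈ NN e) (ht : g * σ r0 = σ r0 * g) :
    g ∈ normalizer (SS e σ i : Set G) := by
  obtain ⟨v, A, hA, v0, A0, k⟩ := h.mem_NH hg ht
  have k1 : e v * σ A ∈ normalizer (SS e σ i : Set G) := mul_mem
    (mem_normalizer_fintype fun x hx => (s.ae v v0 x hx).1)
    (mem_normalizer_fintype fun x hx => (s.aσ A hA (Or.inl A0) x hx).1)
  rcases k with rfl | rfl
  · exact k1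
  · exact mul_mem k1 (le_normalizer s.tS)

/-- F4: `Z(Σ) = ⟨t⟩` -/
theorem Cf.S_cen (h : Cf Γ e σ i) (s : Sd Γ e σ i π) {x : G} (hx : x ∈ SS e σ i)
    (hc : ∀ y ∈ SS e σ i, x * y = y * x) : x = 1 ∨ x = σ r0 := by
  have key : ∀ c, b2 (π x) c = 0 := fun c => by
    obtain ⟨y, hy, rfl⟩ := s.sur c
    have k := s.cm x hx y hy
    rw [hc y hy, eq_comm, mul_eq_left] at k
    rcases (by decide : ∀ a : ZMod 2, a = 0 ∨ a.val = 1) (b2 (π x) (π y)) with k1 | k1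
    · exact k1
    · rw [k1, pow_one] at k
      exact absurd k h.t1
  exact (s.zero x hx).1 (Fra.nondeg _ (key _) (key _) (key _) (key _) (key _) (key _) (key _) (key _))

/-- F5: `N(Σ) ≤ C(t)` -/
theorem Cf.NS_t (h : Cf Γ e σ i) (s : Sd Γ e σ i π) {g : G} (hg : g ∈ normalizer (SS e σ i : Set G)) :
    g * σ r0 = σ r0 * g := by
  rcases h.S_cen s ((mem_normalizer_iff.1 hg _).1 s.tS) (fun y hy => by
    have k := s.tc _ ((mem_normalizer_iff.1 (inv_mem hg) _).1 hy)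
    calc g * σ r0 * g⁻¹ * y = g * (σ r0 * (g⁻¹ * y * g⁻¹⁻¹)) * g⁻¹ := by group
      _ = _ := by rw [← k]; group) with k | k
  · exact absurd (conj_eq_one_iff.1 k) h.t1
  · exact mul_inv_eq_iff_eq_mul.1 k

/-- F6: normal form in `Σ (N ∩ C(t))` -/
theorem Cf.nf (h : Cf Γ e σ i) (s : Sd Γ e σ i π) {g x : G} (hx : x ∈ SS e σ i) (hN : x⁻¹ * g ∈ NN e)
    (ht : g * σ r0 = σ r0 * g) : ∃ x' ∈ SS e σ i, ∃ v : V, ∃ A ∈ Γ, v.1 = 0 ∧ A • d0 = d0 ∧ g = x' * (e v * σ A) := by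
  obtain ⟨v, A, hA, v0, A0, k | k⟩ := h.mem_NH hN (Commute.mul_left (Commute.inv_left (s.tc x hx)) ht)
  · exact ⟨x, hx, v, A, hA, v0, A0, by rw [← k, mul_inv_cancel_left]⟩
  · exact ⟨x * σ r0, mul_mem hx s.tS, v, A, hA, v0, A0, by
      rw [mul_assoc, ← Fra.t_comm h hA v0 A0, ← k, mul_inv_cancel_left]⟩

/-- F7: uniqueness of the normal form -/
theorem Cf.nf_uniq (h : Cf Γ e σ i) (s : Sd Γ e σ i π) {x x' : G} (hx : x ∈ SS e σ i) (hx' : x' ∈ SS e σ i)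
    {v v' : V} {A A' : O4} (hA : A ∈ Γ) (hA' : A' ∈ Γ) (h1 : A • d0 = d0) (h1' : A' • d0 = d0)
    (k : x * (e v * σ A) = x' * (e v' * σ A')) : x = x' ∧ v = v' ∧ A = A' := by
  have e1 : x'⁻¹ * x * (e v * σ A) = e v' * σ A' := by rw [mul_assoc, k, inv_mul_cancel_left]
  have h0 := h.Γ1_le r0_mem
  rcases h.S_N s (mul_mem (inv_mem hx') hx) (by
    rw [eq_mul_inv_of_mul_eq e1]
    exact mul_mem (h.mem_N.2 ⟨_, _, hA', rfl⟩) (inv_mem (h.mem_N.2 ⟨_, _, hA, rfl⟩))) with k1 | k1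
  · rw [k1, one_mul, h.eq_iff' hA hA'] at e1
    exact ⟨(inv_mul_eq_one.1 k1).symm, e1⟩
  · rw [k1, ← mul_assoc, h.σ_e' h0, mul_assoc, ← h.σ_mul _ h0 _ hA, h.eq_iff' (mul_mem h0 hA) hA'] at e1
    rw [← e1.2, mul_smul, h1] at h1'
    exact absurd h1' (by decide +kernel)

/-- F8: `C(Σ) = ⟨t⟩` -/
theorem Cf.cS (h : Cf Γ e σ i) (s : Sd Γ e σ i π) {g x : G} (hx : x ∈ SS e σ i) (hN : x⁻¹ * g ∈ NN e)
    (hc : ∀ y ∈ SS e σ i, g * y = y * g) : g = 1 ∨ g = σ r0 := by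
  obtain ⟨x', hx', v, A, hA, v0, A0, rfl⟩ := h.nf s hx hN (hc _ s.tS)
  obtain ⟨rfl, rfl⟩ := faith v0 A0 fun c => by
    obtain ⟨y, hy, rfl⟩ := s.sur c
    have k1 := s.aσ A hA (Or.inl A0) y hy
    have k2 := s.ae v v0 _ k1.1
    rw [← k1.2, ← k2.2, ← Fra.π_conj s hx' k2.1]
    congr 1
    calc x' * (e v * (σ A * y * (σ A)⁻¹) * (e v)⁻¹) * x'⁻¹ = x' * (e v * σ A) * y * (x' * (e v * σ A))⁻¹ := by group
      _ = y := by rw [hc y hy, mul_inv_cancel_right]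
  rw [h.σ_one, e_zero h.add, mul_one, mul_one] at hc ⊢
  exact h.S_cen s hx' hc

/-- F9: free involutions -/
theorem Cf.free (h : Cf Γ e σ i) (s : Sd Γ e σ i π) {A : O4} (hA : A ∈ Γ) (h1 : A • d0 = d0) (h2 : A * A = 1)
    (hf : ∀ c, ρσ A c = c → ∃ c', c = c' + ρσ A c') {x : G} (hx : x ∈ SS e σ i)
    (hsq : x * σ A * (x * σ A) = 1 ∨ x * σ A * (x * σ A) = σ r0) :
    ∃ ρ ∈ SS e σ i, ρ * (x * σ A) * ρ⁻¹ = σ A ∨ ρ * (x * σ A) * ρ⁻¹ = σ A * σ r0 := by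
  have a2 : (σ A)⁻¹ = σ A := inv_eq_of_mul_eq_one_right (by rw [← h.σ_mul _ hA _ hA, h2, h.σ_one])
  have k1 := s.aσ A hA (Or.inl h1) x hx
  have k2 : π (x * (σ A * x * (σ A)⁻¹)) = 0 := (s.zero _ (mul_mem hx k1.1)).2 (by
    rwa [a2, ← mul_assoc, ← mul_assoc, mul_assoc _ x])
  rw [s.mul _ hx _ k1.1, k1.2] at k2
  obtain ⟨c', k3⟩ := hf (π x) ((eq_neg_of_add_eq_zero_right k2).trans (Fra.neg8 _))
  obtain ⟨ρ, hρ, rfl⟩ := s.sur c'
  have k4 := s.aσ A hA (Or.inl h1) _ (inv_mem hρ)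
  have k5 : π (ρ * x * (σ A * ρ⁻¹ * (σ A)⁻¹)) = 0 := by
    rw [s.mul _ (mul_mem hρ hx) _ k4.1, s.mul _ hρ _ hx, k4.2, Fra.π_inv s hρ, add_right_comm, ← k3]
    nth_rewrite 1 [← Fra.neg8 (π x)]
    rw [neg_add_cancel]
  have e1 : ρ * (x * σ A) * ρ⁻¹ = ρ * x * (σ A * ρ⁻¹ * (σ A)⁻¹) * σ A := by group
  refine ⟨ρ, hρ, ((s.zero _ (mul_mem (mul_mem hρ hx) k4.1)).1 k5).imp (fun k => ?_) fun k => ?_⟩
  · rw [e1, k, one_mul]
  · rw [e1, k, (h.σ_t hA).2 (Or.inl h1)]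

/-- F10: the diagonal involutions are free -/
theorem dg_free {b c d : Bool} (h : b = true ∨ c = true ∨ d = true) (x : V8) (hx : ρσ (dg false b c d) x = x) :
    ∃ x', x = x' + ρσ (dg false b c d) x' := by
  rcases Fra.dgf b c d h x hx with k | k | k <;> exact ⟨_, k⟩

/-- F11: the order of the preimage of a subgroup of `V8` -/
theorem Cf.card_pre (h : Cf Γ e σ i) (s : Sd Γ e σ i π) (p : V8 → Prop) [DecidablePred p] {U : Subgroup G}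
    (hU : ∀ x, x ∈ U ↔ x ∈ SS e σ i ∧ p (π x)) : Nat.card U = 2 * (Finset.univ.filter p).card := by
  choose f hf hπ using s.sur
  have m : ∀ b : Bool, (if b then σ r0 else 1) ∈ SS e σ i := fun b => by cases b; exacts [one_mem _, s.tS]
  have k : ∀ c (b : Bool), π (f c * if b then σ r0 else 1) = c := fun c b => by
    rw [s.mul _ (hf c) _ (m b), hπ]
    cases b
    · simp [Fra.π_one s]
    · simp [Fra.π_t s]
  let F : Bool × {c // p c} → U := fun a => ⟨f a.2.1 * if a.1 then σ r0 else 1,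
    (hU _).2 ⟨mul_mem (hf _) (m _), by rw [k]; exact a.2.2⟩⟩
  rw [← Nat.card_congr (Equiv.ofBijective F ⟨?_, ?_⟩), Nat.card_prod, Nat.card_eq_fintype_card,
    Nat.card_eq_fintype_card, Fintype.card_bool, Fintype.card_subtype]
  · rintro ⟨b, c, hc⟩ ⟨b', c', hc'⟩ k1
    have k2 : (f c * if b then σ r0 else 1) = f c' * if b' then σ r0 else 1 := congrArg Subtype.val k1
    obtain rfl : c = c' := by rw [← k c b, k2, k]
    have k3 := mul_left_cancel k2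
    have := h.t1
    cases b <;> cases b' <;> simp_all
  · rintro ⟨x, hx⟩
    obtain ⟨h1, h2⟩ := (hU x).1 hx
    rcases (s.zero ((f (π x))⁻¹ * x) (mul_mem (inv_mem (hf _)) h1)).1 (by
      rw [s.mul _ (inv_mem (hf _)) _ h1, Fra.π_inv s (hf _), hπ]
      nth_rewrite 1 [← Fra.neg8 (π x)]
      rw [neg_add_cancel]) with k1 | k1
    · exact ⟨(false, ⟨π x, h2⟩), Subtype.ext (by simpa [F] using inv_mul_eq_one.1 k1)⟩
    · exact ⟨(true, ⟨π x, h2⟩), Subtype.ext (by simpa [F] using (inv_mul_eq_iff_eq_mul.1 k1).symm)⟩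

end Cfsg.Agent.O83
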