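import Cfsg.Agent.O83.Bas1
import Cfsg.Agent.O83.Bas2
import Cfsg.Agent.O83.Fr
import Cfsg.Agent.S3345
import Cfsg.Agent.H71.CharP
import Cfsg.Agent.H57.ES
import Cfsg.Agent.H22.Core
import Cfsg.Agent.H3.PResidual
import Cfsg.Statements.S3372

set_option autoImplicit false
set_option synthInstance.maxSize 4096
set_option maxRecDepth 100000

namespace Cfsg.Agent.O83

open Subgroup

namespace Fin2

/-- `S₃` -/
abbrev P3 := Equiv.Perm (Fin 3)

/-- affine maps of the field -/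
def aff (a : F) (b : Bool) : P3 := (Equiv.addLeft a * if b then Equiv.neg F else 1 : Equiv.Perm F)

/-- parameters of the diagonal matrices -/
abbrev B3 := Bool × Bool × Bool

/-- the diagonal matrices fixing `d0` -/
def dd (b : B3) : O4 := dg false b.1 b.2.1 b.2.2

/-- the image in `S₃³` -/
def fS (p : V × B3) : P3 × P3 × P3 := (aff p.1.2.1 p.2.1, aff p.1.2.2.1 p.2.2.1, aff p.1.2.2.2 p.2.2.2)

/-- the product of the signs -/
def xo (b c : B3) : B3 := (xor b.1 c.1, xor b.2.1 c.2.1, xor b.2.2 c.2.2)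

theorem dd_mul : ∀ b c, dd b * dd c = dd (xo b c) := by decide +kernel
theorem dd_inj : ∀ b c, dd b = dd c → b = c := by decide +kernel
theorem dd_d0 : ∀ b, dd b • d0 = d0 := by decide +kernel
theorem dd_ex : ∀ A : O4, A • d0 = d0 → A ∈ Γ0 → ∃ b, A = dd b := by decide +kernel
theorem dd_smul : ∀ (b : B3) (v : V), dd b • v = (v.1, if b.1 then -v.2.1 else v.2.1,
    if b.2.1 then -v.2.2.1 else v.2.2.1, if b.2.2 then -v.2.2.2 else v.2.2.2) := by decide +kernel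
theorem aff_mul : ∀ (a a' : F) (b b' : Bool),
    aff (a + if b then -a' else a') (xor b b') = aff a b * aff a' b' := by decide +kernel
theorem aff_one : ∀ (a : F) (b : Bool), aff a b = 1 ↔ a = 0 ∧ b = false := by decide +kernel
theorem aff_sur : ∀ s : P3, ∃ a b, aff a b = s := by decide +kernel
theorem p3_comm : ∀ s τ : P3, (s * τ * s⁻¹ * τ⁻¹) ^ 3 = 1 := by decide +kernel
theorem p3_cen : ∀ s : P3, (∀ τ, s * τ * s⁻¹ * τ⁻¹ = 1) → s = 1 := by decide +kernel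
theorem rf_conj : ∀ B : O4, B * r0 * B⁻¹ = rf (B • d0) := by decide +kernel
theorem rf_two : ∀ w : V, q w = 1 → ∃ u : V, q u = 1 ∧ ∃ u' : V, q u' = 1 ∧ (rf u * rf u') • d0 = w := by
  decide +kernel
theorem dd_rf : ∀ b : B3, dd b = (if b.1 then rf d1 else 1) * (if b.2.1 then rf d2 else 1) *
    if b.2.2 then rf d3 else 1 := by decide +kernel

theorem fS_mul (v v' : V) (b b' : B3) : fS (v + dd b • v', xo b b') = fS (v, b) * fS (v', b') := by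
  rw [dd_smul]
  exact Prod.ext (aff_mul ..) (Prod.ext (aff_mul ..) (aff_mul ..))

theorem core_bot : pCore 2 (P3 × P3 × P3) = ⊥ := by
  refine (eq_bot_iff_forall _).2 fun n hn => ?_
  have k : ∀ τ, n * τ * n⁻¹ * τ⁻¹ = 1 := fun τ => by
    have h1 : n * τ * n⁻¹ * τ⁻¹ ∈ pCore 2 (P3 × P3 × P3) := by
      rw [mul_assoc, mul_assoc, ← mul_assoc τ]
      exact mul_mem hn ((inferInstance : (pCore 2 (P3 × P3 × P3)).Normal).conj_mem _ (inv_mem hn) τ)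
    obtain ⟨m, hm⟩ := H22.isPGroup_pCore (p := 2) ⟨_, h1⟩
    exact (pow_eq_one_iff_of_coprime (Nat.Coprime.pow_left m (by norm_num : Nat.Coprime 2 3))).1
      ⟨congrArg Subtype.val hm, Prod.ext (p3_comm ..) (Prod.ext (p3_comm ..) (p3_comm ..))⟩
  exact Prod.ext (p3_cen _ fun τ => congrArg (·.1) (k (τ, 1, 1)))
    (Prod.ext (p3_cen _ fun τ => congrArg (·.2.1) (k (1, τ, 1))) (p3_cen _ fun τ => congrArg (·.2.2) (k (1, 1, τ))))

theorem Γ0_le_of {K : Subgroup O4} (hK : K ≤ Γ0) (h : ∀ u, q u = 1 → rf u ∈ K) : Γ0 ≤ K := fun A hA => by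
  obtain ⟨u, hu, u', hu', k⟩ := rf_two (A • d0) (by rw [q_smul]; decide)
  have h1 := K.mul_mem (h u hu) (h u' hu')
  obtain ⟨b, hb⟩ := dd_ex ((rf u * rf u')⁻¹ * A) (by rw [mul_smul, ← k, inv_smul_smul])
    (mul_mem (inv_mem (hK h1)) hA)
  refine (mul_mem_cancel_left (inv_mem h1)).1 ?_
  rw [hb, dd_rf]
  refine mul_mem (mul_mem ?_ ?_) ?_ <;> split_ifs
  exacts [h _ (by decide), one_mem _, h _ (by decide), one_mem _, h _ (by decide), one_mem _]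

end Fin2

open Fin2

variable {G : Type*} [Group G] [Finite G] {Γ : Subgroup O4} {e : V → G} {σ : O4 → G} {i : G} {π : G → V8}

theorem Cf.res_top (h : Cf Γ e σ i) (s : Sd Γ e σ i π) {G₀ : Subgroup G} (hn : G₀.Normal)
    (hN : ∀ v, ∀ A ∈ Γ, e v * σ A ∈ G₀ ↔ A ∈ Γ0) : pResidual 2 G₀ = ⊤ := by
  set M := (pResidual 2 G₀).map G₀.subtype with hM
  have nM : M.Normal := inferInstance
  have eM : ∀ v, e v ∈ M := fun v => by
    have h1 : e v ∈ G₀ := by simpa [h.σ_one] using (hN v 1 Γ.one_mem).2 Γ0.one_mem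
    refine ⟨⟨_, h1⟩, H3.mem_pResidual_of_coprime (Nat.Coprime.coprime_dvd_left
      (orderOf_dvd_of_pow_eq_one (n := 3) (Subtype.ext (e_cube h.add v))) (by norm_num)), rfl⟩
  have tM : σ r0 ∈ M := (iSup_le fun k => h.Rk_le fun r _ =>
    mul_mem (nM.conj_mem _ (eM _) r) (inv_mem (eM _)) : SS e σ i ≤ M) s.tS
  let K : Subgroup O4 :=
    { carrier := {A | A ∈ Γ ∧ σ A ∈ M}
      mul_mem' := fun a b => ⟨mul_mem a.1 b.1, by rw [h.σ_mul _ a.1 _ b.1]; exact mul_mem a.2 b.2⟩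
      one_mem' := ⟨one_mem _, by rw [h.σ_one]; exact one_mem _⟩
      inv_mem' := fun a => ⟨inv_mem a.1, by rw [h.σ_inv a.1]; exact inv_mem a.2⟩ }
  have hK : Γ0 ≤ K := Γ0_le_of (fun A hA => (hN 0 A hA.1).1 (by
      rw [e_zero h.add, one_mul]; exact map_subtype_le _ hA.2)) fun u hu => by
    obtain ⟨B, hB, rfl⟩ := tr_d hu
    have b := h.Γ1_le hB
    have r := h.Γ1_le r0_mem
    rw [← rf_conj]
    exact ⟨mul_mem (mul_mem b r) (inv_mem b), by rw [← h.σ_conj b r]; exact nM.conj_mem _ tM _⟩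
  refine eq_top_iff.2 fun g _ => (mem_map_iff_mem G₀.subtype_injective).1 ?_
  obtain ⟨y, hy, k⟩ := h.fratN eM (g := g) (mem_normalizer_iff.2 fun x =>
    ⟨fun a => nM.conj_mem _ a _, fun a => by simpa [mul_assoc] using nM.conj_mem _ a (g : G)⁻¹⟩)
  obtain ⟨v, A, hA, k1⟩ := h.norm _ k
  refine (mul_mem_cancel_left (inv_mem hy)).1 ?_
  change y⁻¹ * g ∈ M
  rw [k1]
  exact mul_mem (eM v) (hK ((hN v A hA).1 (k1 ▸ mul_mem (inv_mem (map_subtype_le _ hy)) g.2))).2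

theorem Cf.exists_psi (h : Cf Γ e σ i) (s : Sd Γ e σ i π)
    (hm : ∀ g, g * σ r0 = σ r0 * g → ∃ x ∈ SS e σ i, x⁻¹ * g ∈ NN e)
    {G₀ : Subgroup G} (hS : SS e σ i ≤ G₀) (hN : ∀ v, ∀ A ∈ Γ, e v * σ A ∈ G₀ ↔ A ∈ Γ0)
    {C : Type*} [Group C] (ι : C →* G) (hι : ∀ g, g ∈ ι.range ↔ g ∈ G₀ ∧ g * σ r0 = σ r0 * g) :
    ∃ ψ : C →* P3 × P3 × P3, Function.Surjective ψ ∧ ∀ c, ψ c = 1 ↔ ι c ∈ SS e σ i := by
  have dΓ : ∀ b, dd b ∈ Γ := fun b => h.Γ1_le (Γ0_le (dg_mem ..))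
  have hnf : ∀ c, ∃ p : V × B3, p.1.1 = 0 ∧ ∃ x ∈ SS e σ i, ι c = x * (e p.1 * σ (dd p.2)) := fun c => by
    obtain ⟨a, b⟩ := (hι _).1 ⟨c, rfl⟩
    obtain ⟨x, hx, k⟩ := hm _ b
    obtain ⟨x, hx, v, A, hA, k1, k2, k3⟩ := h.nf s hx k b
    obtain ⟨b, rfl⟩ := dd_ex A k2 ((hN v A hA).1 ((mul_mem_cancel_left (hS hx)).1 (k3 ▸ a)))
    exact ⟨(v, b), k1, x, hx, k3⟩
  choose P h0 hP using hnf
  have hu : ∀ c v b, ∀ x ∈ SS e σ i, ι c = x * (e v * σ (dd b)) → P c = (v, b) := fun c v b x hx k => by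
    obtain ⟨y, hy, k1⟩ := hP c
    obtain ⟨-, a, a'⟩ := h.nf_uniq s hy hx (dΓ _) (dΓ _) (dd_d0 _) (dd_d0 _) (k1.symm.trans k)
    exact Prod.ext a (dd_inj _ _ a')
  refine ⟨MonoidHom.mk' (fun c => fS (P c)) fun c c' => ?_, ?_, fun c => ⟨fun k => ?_, fun k => ?_⟩⟩
  · obtain ⟨x, hx, k⟩ := hP c
    obtain ⟨x', hx', k'⟩ := hP c'
    refine (congrArg fS (hu _ _ _ _ (mul_mem hx (s.ae _ (h0 c) _
      (s.aσ _ (dΓ (P c).2) (Or.inl (dd_d0 _)) x' hx').1).1) ?_)).trans (fS_mul ..)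
    rw [map_mul, k, k', ← dd_mul, ← h.mul_eq (dΓ _) (dΓ _)]
    group
  · rintro ⟨s1, s2, s3⟩
    obtain ⟨a1, b1, rfl⟩ := aff_sur s1
    obtain ⟨a2, b2, rfl⟩ := aff_sur s2
    obtain ⟨a3, b3, rfl⟩ := aff_sur s3
    obtain ⟨c, hc⟩ := (hι (e (0, a1, a2, a3) * σ (dd (b1, b2, b3)))).2 ⟨(hN _ _ (dΓ _)).2 (dg_mem ..), by
      rw [mul_assoc, (h.σ_t (dΓ _)).2 (Or.inl (dd_d0 _)), ← mul_assoc, h.e_t.2 rfl, mul_assoc]⟩
    exact ⟨c, congrArg fS (hu c _ _ 1 (one_mem _) (hc.trans (one_mul _).symm))⟩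
  · obtain ⟨x, hx, k1⟩ := hP c
    obtain ⟨a1, b1⟩ := (aff_one ..).1 (congrArg (·.1) k)
    obtain ⟨a2, b2⟩ := (aff_one ..).1 (congrArg (·.2.1) k)
    obtain ⟨a3, b3⟩ := (aff_one ..).1 (congrArg (·.2.2) k)
    rw [k1, show (P c).1 = 0 from Prod.ext (h0 c) (Prod.ext a1 (Prod.ext a2 a3)),
      show (P c).2 = (false, false, false) from Prod.ext b1 (Prod.ext b2 b3), e_zero h.add,
      show dd (false, false, false) = 1 by decide +kernel, h.σ_one, mul_one, mul_one]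
    exact hx
  · refine (congrArg fS (hu c 0 (false, false, false) _ k ?_)).trans (by decide +kernel)
    rw [e_zero h.add, show dd (false, false, false) = 1 by decide +kernel, h.σ_one, mul_one, mul_one]

/-- notes/O83.md, section Fin2 -/
theorem Cf.fin2 (h : Cf Γ e σ i) (s : Sd Γ e σ i π)
    (hm : ∀ g, g * σ r0 = σ r0 * g → ∃ x ∈ SS e σ i, x⁻¹ * g ∈ NN e)
    {G₀ : Subgroup G} (hn : G₀.Normal) (hS : SS e σ i ≤ G₀) (hN : ∀ v, ∀ A ∈ Γ, e v * σ A ∈ G₀ ↔ A ∈ Γ0) :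
    Nonempty (G₀ ≃* Cfsg.Omega (ZMod 2) (Cfsg.quadFormPlus 4 (ZMod 2))) ∧ centralizer (G₀ : Set G) = ⊥ := by
  have : Fact (Nat.Prime 2) := ⟨Nat.prime_two⟩
  have Γ01 : Γ0 ≤ Γ := Γ0_le.trans h.Γ1_le
  have hσ : ∀ A ∈ Γ0, σ A ∈ G₀ := fun A hA => by simpa [e_zero h.add] using (hN 0 A (Γ01 hA)).2 hA
  refine ⟨?_, (eq_bot_iff_forall _).2 fun g hg => ?_⟩
  swap
  · obtain ⟨v, rfl⟩ := h.cj (g := g) fun v =>
      (hg (e v) (by simpa [h.σ_one] using (hN v 1 Γ.one_mem).2 Γ0.one_mem)).symm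
    have k := hg _ (hσ ng (dg_mem ..))
    rw [h.σ_e' (h.Γ1_le ng_mem), mul_left_inj, h.toAd.eq_iff, ng_smul] at k
    rw [(by decide +kernel : ∀ v : V, -v = v → v = 0) v k, e_zero h.add]
  let t : G₀ := ⟨σ r0, hS s.tS⟩
  let ι : centralizer ({t} : Set G₀) →* G := G₀.subtype.comp (Subgroup.subtype _)
  have hi : Function.Injective ι := G₀.subtype_injective.comp (subtype_injective _)
  have hι : ∀ g, g ∈ ι.range ↔ g ∈ G₀ ∧ g * σ r0 = σ r0 * g := fun g =>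
    ⟨by rintro ⟨c, rfl⟩; exact ⟨c.1.2, congrArg Subtype.val (mem_centralizer_singleton_iff.1 c.2)⟩,
      fun k => ⟨⟨⟨g, k.1⟩, mem_centralizer_singleton_iff.2 (Subtype.ext k.2)⟩, rfl⟩⟩
  obtain ⟨ψ, hs, hk⟩ := h.exists_psi s hm hS hN ι hι
  have hr : ψ.ker.map ι = SS e σ i := by
    refine le_antisymm ?_ fun x hx => ?_
    · rintro _ ⟨c, hc, rfl⟩; exact (hk c).1 hc
    · obtain ⟨c, rfl⟩ := (hι x).2 ⟨hS hx, s.tc x hx⟩
      exact ⟨c, (hk c).2 hx, rfl⟩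
  have hc : Nat.card ψ.ker = 2 ^ 9 := by rw [← card_map_of_injective hi, hr, s.card]; rfl
  have hO : pCore 2 (centralizer ({t} : Set G₀)) = ψ.ker := by
    refine le_antisymm ((Subgroup.map_eq_bot_iff _).1 (eq_bot_iff.2 ?_)) (H22.le_pCore inferInstance (IsPGroup.of_card hc))
    exact core_bot ▸ H22.map_pCore_le_of_surjective ψ hs
  have hcs : ∀ g ∈ G₀, (∀ c ∈ ψ.ker, ι c * g = g * ι c) → g ∈ SS e σ i := fun g _ k => by
    have k1 : ∀ y ∈ SS e σ i, g * y = y * g := by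
      rw [← hr]; rintro _ ⟨c, a, rfl⟩; exact (k c a).symm
    obtain ⟨x, hx, k2⟩ := hm g (k1 _ s.tS)
    rcases h.cS s hx k2 k1 with rfl | rfl
    exacts [one_mem _, s.tS]
  have hF : generalizedFittingSubgroup (centralizer ({t} : Set G₀)) = ψ.ker := by
    rw [← hO, H71.gfitting_eq_pCore_iff, hO]
    exact fun g hg => (hk g).2 (hcs _ g.1.2 fun c a => by rw [← map_mul, hg c a, map_mul])
  refine (S3345.result (h.res_top s hn hN) t
    (orderOf_eq_prime (Subtype.ext ((pow_two _).trans h.t2)) fun k => h.t1 (congrArg Subtype.val k)) _ rfl ?_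
    (hF ▸ hc) ((QuotientGroup.quotientMulEquivOfEq hO).trans (QuotientGroup.quotientKerEquivOfSurjective ψ hs))
    fun g hg => ?_).resolve_left fun k => ?_
  · rw [hF]
    refine H57.isExtraspecial_of_hom (ι.comp ψ.ker.subtype) (hi.comp (subtype_injective _))
      (by rw [MonoidHom.range_comp, range_subtype, hr]) (e := 9) s.card s.tS h.t1
      (fun g hg => ⟨fun k => h.S_cen s hg fun y hy => (k y hy).symm, ?_⟩) (fun g hg => ?_) ?_
    · rintro (rfl | rfl) a ha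
      exacts [by simp, s.tc a ha]
    · rw [pow_two, s.sq g hg]
      rcases (by decide : ∀ c : ZMod 2, c.val = 0 ∨ c.val = 1) (q2 (π g)) with k | k <;> simp [k]
    · obtain ⟨x, hx, k1⟩ := s.sur ((1, 0), 0)
      obtain ⟨y, hy, k2⟩ := s.sur ((0, 1), 0)
      refine ⟨x, hx, y, hy, fun k => h.t1 ?_⟩
      have := s.cm x hx y hy
      rwa [k1, k2, show (b2 ((1, 0), 0) ((0, 1), 0)).val = 1 from rfl, pow_one, k, left_eq_mul] at this
  · rw [hO] at hg ⊢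
    obtain ⟨c, hc, k⟩ := hr.ge (hcs g g.2 fun c a => congrArg Subtype.val (hg _ ⟨c, a, rfl⟩))
    exact ⟨c, hc, Subtype.ext k⟩
  · let B : O4 := ⟨(d1, d0, d3, d2), by decide⟩
    have hB : B ∈ Γ0 := by decide +kernel
    have r := h.Γ1_le r0_mem
    have r' := h.Γ1_le r1_mem
    have k1 := k ⟨σ B, hσ B hB⟩
    have k2 : σ B * σ r0 * (σ B)⁻¹ * (σ r0)⁻¹ = σ (r1 * r0⁻¹) := by
      rw [h.σ_conj (Γ01 hB) r, show B * r0 * B⁻¹ = r1 by decide +kernel, h.σ_mul _ r' _ (inv_mem r), h.σ_inv r]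
    have k3 := (Nat.Coprime.coprime_dvd_left (orderOf_dvd_natCard _ k1) H22.coprime_card_pPrimeCore).eq_one_of_dvd
      (orderOf_dvd_of_pow_eq_one (Subtype.ext (by
        change (σ B * σ r0 * (σ B)⁻¹ * (σ r0)⁻¹) ^ 2 = 1
        rw [k2, ← h.σ_pow (mul_mem r' (inv_mem r)), show (r1 * r0⁻¹) ^ 2 = 1 by decide +kernel, h.σ_one])))
    have k4 : σ (r1 * r0⁻¹) = σ 1 := k2.symm.trans ((congrArg Subtype.val (orderOf_eq_one_iff.1 k3)).trans h.σ_one.symm)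
    exact absurd ((h.σ_inj (mul_mem r' (inv_mem r)) Γ.one_mem).1 k4) (by decide +kernel)

end Cfsg.Agent.O83
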