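import Cfsg.Agent.O83.L9
import Cfsg.Agent.O83.Fr

/-! Project O83, section HM: the quotient `C(t) / ⟨t⟩`. -/

set_option autoImplicit false
set_option synthInstance.maxSize 4096
set_option maxRecDepth 100000

namespace Cfsg.Agent.O83.HM

open Subgroup

variable {G : Type*} [Group G]

/-- the centraliser -/
abbrev HH (t : G) : Subgroup G := centralizer ({t} : Set G)

theorem mem_HH {t g : G} : g ∈ HH t ↔ g * t = t * g := mem_centralizer_singleton_iff

instance (t : G) : ((zpowers t).subgroupOf (HH t)).Normal := ⟨by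
  rintro ⟨_, hx⟩ ⟨n, rfl⟩ g
  refine ⟨n, ?_⟩
  show t ^ n = g * t ^ n * (g : G)⁻¹
  rw [(Commute.zpow_right (mem_HH.1 g.2) n).eq, mul_inv_cancel_right]⟩

/-- the quotient -/
abbrev YY (t : G) := HH t ⧸ (zpowers t).subgroupOf (HH t)

/-- the projection -/
def φ (t : G) : HH t →* YY t := QuotientGroup.mk' _

theorem φ_sur (t : G) (y : YY t) : ∃ x, φ t x = y := QuotientGroup.mk'_surjective _ y

theorem φ_one {t : G} (t2 : t * t = 1) (x : HH t) : φ t x = 1 ↔ x.1 = 1 ∨ x.1 = t := by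
  rw [φ, QuotientGroup.mk'_apply, QuotientGroup.eq_one_iff, mem_subgroupOf]
  refine ⟨?_, ?_⟩
  · rintro ⟨n, hn⟩
    rw [← hn]
    show t ^ n = 1 ∨ t ^ n = t
    rw [zpow_eq_zpow_emod n (show t ^ (2 : ℤ) = 1 by rw [zpow_two, t2])]
    rcases Int.emod_two_eq_zero_or_one n with k | k <;> simp [k]
  · rintro (k | k) <;> rw [k]
    exacts [one_mem _, mem_zpowers _]

/-- images -/
def bar (t : G) (U : Subgroup G) : Subgroup (YY t) := (U.subgroupOf (HH t)).map (φ t)

theorem mem_bar {t : G} {U : Subgroup G} {x : HH t} (h : x.1 ∈ U) : φ t x ∈ bar t U := ⟨x, h, rfl⟩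

theorem bar_iff {t : G} (t2 : t * t = 1) {U : Subgroup G} (hU : t ∈ U) {x : HH t} : φ t x ∈ bar t U ↔ x.1 ∈ U := by
  refine ⟨?_, mem_bar⟩
  rintro ⟨y, hy, k⟩
  have : φ t (y⁻¹ * x) = 1 := by rw [map_mul, map_inv, k, inv_mul_cancel]
  have m : (y : G)⁻¹ * x ∈ U := by
    rcases (φ_one t2 _).1 this with a | a
    · exact (show (y : G)⁻¹ * x = 1 from a) ▸ U.one_mem
    · rw [show (y : G)⁻¹ * x = t from a]; exact hU
  exact (U.mul_mem_cancel_left (U.inv_mem hy)).1 m

/-- preimages -/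
def pre (t : G) (K : Subgroup (YY t)) : Subgroup G := (K.comap (φ t)).map (HH t).subtype

theorem pre_le (t : G) (K : Subgroup (YY t)) : pre t K ≤ HH t := map_subtype_le _

theorem mem_pre {t : G} {K : Subgroup (YY t)} {x : HH t} : x.1 ∈ pre t K ↔ φ t x ∈ K :=
  mem_map_iff_mem (HH t).subtype_injective

theorem pre_conj {t : G} {K : Subgroup (YY t)} [hK : K.Normal] {g x : G} (hg : g ∈ HH t) (hx : x ∈ pre t K) :
    g * x * g⁻¹ ∈ pre t K := by
  obtain ⟨x, hx, rfl⟩ := hx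
  exact ⟨⟨g, hg⟩ * x * ⟨g, hg⟩⁻¹, (hK.comap (φ t)).conj_mem x hx _, rfl⟩

variable [Finite G]

theorem norm_bar {t : G} (t2 : t * t = 1) {U : Subgroup G} (hU : t ∈ U) (hH : U ≤ HH t) {g : HH t} :
    φ t g ∈ normalizer (bar t U : Set (YY t)) ↔ g.1 ∈ normalizer (U : Set G) := by
  refine ⟨fun h => mem_normalizer_fintype fun x hx => ?_, fun h => mem_normalizer_fintype ?_⟩
  · have := (mem_normalizer_iff.1 h _).1 (mem_bar (x := ⟨x, hH hx⟩) hx)
    rw [← map_inv, ← map_mul, ← map_mul] at this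
    exact (bar_iff t2 hU).1 this
  · rintro _ ⟨x, hx, rfl⟩
    rw [← map_inv, ← map_mul, ← map_mul]
    exact mem_bar ((mem_normalizer_iff.1 h _).1 hx)

theorem pre_cop {t : G} (t2 : t * t = 1) {K : Subgroup (YY t)} (hK : ¬ 3 ∣ Nat.card K) :
    (Nat.card (pre t K)).Coprime 3 := by
  haveI : Fact (Nat.Prime 3) := ⟨Nat.prime_three⟩
  refine ((Nat.Prime.coprime_iff_not_dvd Nat.prime_three).2 fun h => hK ?_).symm
  obtain ⟨⟨_, x, hx, rfl⟩, h3⟩ := exists_prime_orderOf_dvd_card' 3 h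
  rw [← Subgroup.orderOf_coe] at h3
  have h3' : orderOf (x : G) = 3 := h3
  have a : φ t x ^ 3 = 1 := by
    rw [← map_pow, show x ^ 3 = 1 from Subtype.ext (by rw [← h3']; exact pow_orderOf_eq_one _), map_one]
  have b : φ t x ≠ 1 := fun k => by
    rcases (φ_one t2 x).1 k with k | k <;> rw [k] at h3'
    · simp at h3'
    · exact absurd (h3' ▸ orderOf_dvd_of_pow_eq_one (n := 2) (by rw [pow_two, t2])) (by decide)
  exact orderOf_eq_prime a b ▸ orderOf_dvd_natCard K hx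

/-- a `p`-group centralises an element of a normal subgroup of order divisible by `p` -/
theorem exists_fix {Y : Type*} [Group Y] [Finite Y] {p : ℕ} [Fact p.Prime] {D K : Subgroup Y} [hK : K.Normal]
    (hD : IsPGroup p D) (h : p ∣ Nat.card K) : ∃ z ∈ K, z ≠ 1 ∧ ∀ d ∈ D, d * z = z * d := by
  letI : MulAction D K := MulAction.compHom K ((MulAut.conjNormal (H := K)).comp D.subtype)
  obtain ⟨b, hb, hb1⟩ := hD.exists_fixed_point_of_prime_dvd_card_of_fixed_point K h
    (a := 1) (fun g => map_one (MulAut.conjNormal (g : Y)))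
  refine ⟨b, b.2, fun h => hb1 (Subtype.ext h.symm), fun d hd => ?_⟩
  have : d * b * d⁻¹ = b := congrArg Subtype.val (hb ⟨d, hd⟩)
  rw [← mul_inv_eq_iff_eq_mul, this]

end Cfsg.Agent.O83.HM
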