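import Cfsg.Agent.O83.L9a

set_option autoImplicit false
set_option synthInstance.maxSize 4096
set_option maxRecDepth 100000

namespace Cfsg.Agent.O83

open Subgroup

variable {G : Type*} [Group G] [Finite G] {Γ : Subgroup O4} {e : V → G} {σ : O4 → G} {i : G}

namespace L9

theorem stabA : ∀ A : O4, A • d0 = d0 → A • y0 = y0 → A ∈ Γ1 → A = 1 ∨ A = r1 := by decide +kernel

theorem r1_sub : ∀ v : V, -v + r1 • v = v.2.1.val • d1 := by decide +kernel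

theorem pow_norm {N : Subgroup G} {x n : G} (hx : x ∈ normalizer (N : Set G)) (hn : n ∈ N) (k : ℕ) :
    (n * x) ^ k * (x ^ k)⁻¹ ∈ N := by
  induction k with
  | zero => simp
  | succ k ih =>
    rw [show (n * x) ^ (k + 1) * (x ^ (k + 1))⁻¹ = n * (x * ((n * x) ^ k * (x ^ k)⁻¹) * x⁻¹) by
      rw [pow_succ', pow_succ' x]; group]
    exact N.mul_mem hn ((mem_normalizer_iff.1 hx _).1 ih)

theorem Rk_four (h : Cf Γ e σ i) {k : Fin 4} {r : G} (hr : r ∈ Rk e σ i k) : r ^ 4 = 1 := by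
  rw [show r ^ 4 = r * r * (r * r) by simp only [pow_succ, pow_zero, one_mul, mul_assoc]]
  rcases h.Rk_sq hr with rfl | rfl | a
  · simp
  · rw [h.t2, mul_one]
  · rw [a, h.t2]

theorem Rk_n (h : Cf Γ e σ i) (k : Fin 4) (v : V) (hv : v.1 = 0) : e v ∈ normalizer (Rk e σ i k : Set G) :=
  mem_normalizer_fintype fun _ hr => h.Rk_e hr hv

/-- a `D`-invariant `3'`-subgroup of `C(t) ∩ C(y)` is a `2`-group -/
theorem two_group (h : Cf Γ e σ i) {M : Subgroup G} (hM : (Nat.card M).Coprime 3)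
    (hn : ∀ v : V, v.1 = 0 → e v ∈ normalizer (M : Set G)) (ht : ∀ g ∈ M, g * σ r0 = σ r0 * g)
    (hy : ∀ g ∈ M, g * e y0 = e y0 * g) : IsPGroup 2 M := by
  haveI : Fact (Nat.Prime 3) := ⟨Nat.prime_three⟩
  refine IsPGroup.of_card (Nat.eq_prime_pow_of_unique_prime_dvd Nat.card_pos.ne' fun {d} hd hdvd => ?_)
  by_contra d2
  haveI : Fact d.Prime := ⟨hd⟩
  obtain ⟨Q, -, hQ⟩ := H46.exists_invariant_sylow_ge (A := eS h UD) (X := M) (eS_p h UD)
    (fun k => by simpa using Nat.Coprime.eq_one_of_dvd hM.symm k) (by rintro _ ⟨v, hv, rfl⟩; exact hn v hv) d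
    (R := ⊥) IsPGroup.of_bot bot_le (fun g _ => by rw [normalizer_eq_top]; trivial)
  have le : (Q : Subgroup M).map M.subtype ≤ M := map_subtype_le _
  have hb : (Q : Subgroup M).map M.subtype ≤ ⊥ := by
    refine gen h (Nat.Coprime.coprime_dvd_left (card_dvd_of_le le) hM) (fun v hv => hQ ⟨v, hv, rfl⟩)
      (fun g hg => ht g (le hg)) (fun g hg => hy g (le hg)) fun r hr hr' => ?_
    obtain ⟨k, hk⟩ := Q.isPGroup'.map M.subtype ⟨r, hr⟩
    have r4 : r ^ 2 ^ 2 = 1 := hr'.elim (Rk_four h) (Rk_four h)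
    exact orderOf_eq_one_iff.1 (Nat.eq_one_of_dvd_coprimes
      (Nat.Coprime.pow k 2 ((Nat.coprime_primes hd Nat.prime_two).2 d2))
      (orderOf_dvd_of_pow_eq_one (congrArg Subtype.val hk)) (orderOf_dvd_of_pow_eq_one r4))
  exact Q.ne_bot_of_dvd_card hdvd ((map_eq_bot_iff_of_injective _ M.subtype_injective).1 (le_bot_iff.1 hb))

theorem norm_of (h : Cf Γ e σ i) {M : Subgroup G} (hM : (Nat.card M).Coprime 3)
    (hn : ∀ v : V, v.1 = 0 → e v ∈ normalizer (M : Set G)) (ht : ∀ g ∈ M, g * σ r0 = σ r0 * g)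
    (hy : ∀ g ∈ M, g * e y0 = e y0 * g) {k l : Fin 4} (hkl : ∀ r, r ∈ Rk e σ i 1 ∨ r ∈ Rk e σ i 2 →
      r ∈ Rk e σ i k ∨ r ∈ Rk e σ i l) (hk : Rk e σ i k ≤ M) (hl : Rk e σ i l ≤ M) :
    Rk e σ i l ≤ normalizer (Rk e σ i k : Set G) := by
  haveI : Fact (Nat.Prime 2) := ⟨Nat.prime_two⟩
  rcases hk.eq_or_lt with k1 | k1
  · exact (hl.trans k1.ge).trans le_normalizer
  have k2 := H46.lt_inf_normalizer_of_isPGroup (two_group h hM hn ht hy) k1
  have hn' : ∀ v : V, v.1 = 0 → e v ∈ normalizer ((M ⊓ normalizer (Rk e σ i k : Set G) : Subgroup G) : Set G) :=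
    fun v hv => inf_normalizer_le_normalizer_inf ⟨hn v hv, le_normalizer (Rk_n h k v hv)⟩
  by_contra hne
  refine k2.not_ge (gen h (Nat.Coprime.coprime_dvd_left (card_dvd_of_le inf_le_left) hM) hn'
    (fun g hg => ht g hg.1) (fun g hg => hy g hg.1) fun r hr hr' => (hkl r hr').elim id fun a => ?_)
  by_contra b
  exact hne ((Rk_of h (hn' d1 rfl) hr a (by rintro rfl; exact b (one_mem _))
    (by rintro rfl; exact b (t_mem h k))).trans inf_le_right)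

theorem comm12 (h : Cf Γ e σ i) {M : Subgroup G} (hM : (Nat.card M).Coprime 3)
    (hn : ∀ v : V, v.1 = 0 → e v ∈ normalizer (M : Set G)) (ht : ∀ g ∈ M, g * σ r0 = σ r0 * g)
    (hy : ∀ g ∈ M, g * e y0 = e y0 * g) (h1 : Rk e σ i 1 ≤ M) (h2 : Rk e σ i 2 ≤ M) :
    ∀ a ∈ Rk e σ i 1, ∀ b ∈ Rk e σ i 2, a * b = b * a := by
  have n1 := norm_of h hM hn ht hy (k := 1) (l := 2) (fun _ => id) h1 h2
  have n2 := norm_of h hM hn ht hy (k := 2) (l := 1) (fun _ => Or.symm) h2 h1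
  intro a ha b hb
  refine (mem_centralizer_singleton_iff.1 (h.Rk_le (Y := centralizer ({a} : Set G)) (fun r hr => ?_) hb)).symm
  rw [mem_centralizer_singleton_iff]
  have m1 : a * r * a⁻¹ * r⁻¹ ∈ Rk e σ i 1 := by
    rw [show a * r * a⁻¹ * r⁻¹ = a * (r * a⁻¹ * r⁻¹) by group]
    exact mul_mem ha ((mem_normalizer_iff.1 (n1 hr) _).1 (inv_mem ha))
  have m2 : a * r * a⁻¹ * r⁻¹ ∈ Rk e σ i 2 := mul_mem ((mem_normalizer_iff.1 (n2 ha) _).1 hr) (inv_mem hr)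
  have c1 : Commute a (e (-zk 1)) := h.Rk_B ha (by decide) (by decide)
  have c2 : Commute r (e (zk 1 + d1)) := h.Rk_B hr (by decide) (by decide)
  have c3 : Commute (σ r0) (e (-zk 1)) := (h.e_t.2 (by decide)).symm
  have c4 : Commute (σ r0) r := (h.Rk_t hr).symm
  have ex : e d1 = e (-zk 1) * e (zk 1 + d1) := by rw [← h.add, neg_add_cancel_left]
  have e1 : r * e d1 * r⁻¹ * (e d1)⁻¹ = r * e (-zk 1) * r⁻¹ * (e (-zk 1))⁻¹ := by
    rw [ex, mul_inv_rev, ← mul_assoc, ← mul_assoc, mul_assoc _ _ r⁻¹, c2.inv_left.eq.symm]; group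
  rw [e1]
  generalize e (-zk 1) = c at c1 c3 hr
  have e2 : a * (r * c * r⁻¹ * c⁻¹) * a⁻¹ = r * c * r⁻¹ * c⁻¹ := by
    have e3 : a * (r * c * r⁻¹ * c⁻¹) * a⁻¹ =
        (a * r * a⁻¹ * r⁻¹) * (r * (a * c * a⁻¹) * r⁻¹) * (a * r * a⁻¹ * r⁻¹)⁻¹ * (a * c * a⁻¹)⁻¹ := by group
    rw [e3, c1.eq, mul_inv_cancel_right]
    rcases h.Rk_fix m2 (v := zk 1) (by decide) (by decide) (h.Rk_B m1 (by decide) (by decide)) with k | k <;> rw [k]
    · group
    · rw [((c4.mul_right c3).mul_right c4.inv_right).eq, mul_inv_cancel_right]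
  rw [← e2, inv_mul_cancel_right, e2]

end L9

open L9 in
/-- notes/O83.md, section L9 -/
theorem Cf.l9 (h : Cf Γ e σ i) {Y : Subgroup G} (h1 : ∀ g ∈ Y, g * e y0 = e y0 * g)
    (h2 : ∀ g, g * e y0 = e y0 * g → g * g ∈ Y) (h3 : ∀ v, ∀ A ∈ Γ, e v * σ A ∈ Y → A ∈ Γ1) :
    (∀ a ∈ Rk e σ i 1, ∀ b ∈ Rk e σ i 2, a * b = b * a) ∧
      ∀ g ∈ Y, g * σ r0 = σ r0 * g → ∃ x ∈ SS e σ i, x⁻¹ * g ∈ NN e := by
  have nY : ∀ g, g * e y0 = e y0 * g → ∀ a ∈ Y, g * a * g⁻¹ ∈ Y := fun g hg a ha => by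
    rw [show g * a * g⁻¹ = g * a * (g * a) * a⁻¹ * (g⁻¹ * g⁻¹) by group]
    exact Y.mul_mem (Y.mul_mem (h2 _ (Commute.mul_left hg (h1 a ha))) (Y.inv_mem ha)) (h2 _ (Commute.inv_left hg))
  have eY : ∀ v, e v ∈ Y := fun v => by
    rw [← neg_neg v, ← add_self, h.add]
    exact h2 _ (e_comm h.add _ _)
  have Ry : ∀ k : Fin 4, k = 1 ∨ k = 2 → ∀ r ∈ Rk e σ i k, r * e y0 = e y0 * r := fun k hk r hr =>
    h.Rk_B hr rfl (by rcases hk with rfl | rfl <;> decide)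
  have tY : σ r0 ∈ Y := by
    rw [← ik_sq h 1]
    exact h2 _ (Ry 1 (Or.inl rfl) _ (ik_mem 1))
  have m0 := h.Γ1_le r0_mem
  have m1 := h.Γ1_le r1_mem
  have uY : σ r1 ∈ Y := by
    have mB : sw01 * sw ∈ Γ := h.Γ1_le (by decide +kernel)
    rw [show r1 = sw01 * sw * r0 * (sw01 * sw)⁻¹ by decide +kernel, ← h.σ_conj mB m0]
    exact nY _ (by rw [h.σ_e' mB, show (sw01 * sw) • y0 = y0 by decide +kernel]) _ tY
  set E : Subgroup G := Y ⊓ centralizer ({σ r0} : Set G) with hE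
  have mE : ∀ g, g ∈ E ↔ g ∈ Y ∧ g * σ r0 = σ r0 * g := fun g => and_congr_right fun _ => mem_centralizer_singleton_iff
  have DE : ∀ v : V, v.1 = 0 → e v ∈ E := fun v hv => (mE _).2 ⟨eY v, h.e_t.2 hv⟩
  have RE : ∀ k : Fin 4, k = 1 ∨ k = 2 → Rk e σ i k ≤ E := fun k hk r hr =>
    (mE _).2 ⟨h.Rk_le (fun r hr => Y.mul_mem (nY r (Ry k hk r hr) _ (eY _)) (Y.inv_mem (eY _))) hr, h.Rk_t hr⟩
  have EN : ∀ g ∈ E, g ∈ NN e → ∃ v : V, v.1 = 0 ∧ ∃ A, (A = 1 ∨ A = r1) ∧ (g = e v * σ A ∨ g = e v * σ A * σ r0) ∧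
      ∀ d : V, d.1 = 0 → g * e d * g⁻¹ = e (A • d) := fun g hg hN => by
    obtain ⟨v, A, hA, v1, A0, hg'⟩ := h.mem_NH hN ((mE g).1 hg).2
    have mY : e v * σ A ∈ Y := by
      rcases hg' with rfl | rfl
      exacts [hg.1, (Y.mul_mem_cancel_right tY).1 hg.1]
    refine ⟨v, v1, A, stabA A A0 ((h.comm_e hA).1 (h1 _ mY)) (h3 v A hA mY), hg', fun d hd => ?_⟩
    rcases hg' with rfl | rfl
    · exact h.conj_e hA _ _
    · rw [mul_assoc _ (σ r0), ← (h.e_t.2 hd), ← h.conj_e hA v d]; group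
  have nN : ∀ g, g ∈ normalizer (eS h UD : Set G) → g ∈ NN e := fun g hg => by
    obtain ⟨w, -, hw⟩ := (mem_normalizer_iff.1 hg (e d1)).1 ⟨d1, rfl, rfl⟩
    exact h.dN (v := d1) (by decide) hw.symm
  have tE : ∀ g ∈ E, g * σ r0 * g⁻¹ = σ r0 := fun g hg => by rw [((mE g).1 hg).2, mul_inv_cancel_right]
  obtain ⟨N0, -, NE, EN0, hN0, hx⟩ := OR.ft_amb (E := E) (P := eS h UD) (by rintro _ ⟨v, hv, rfl⟩; exact DE v hv)
    (eS_p h UD) (eS_comm h UD)
    (fun g hg hn k hk => by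
      refine OR.mem_of_sq ?_ k hk
      obtain ⟨v, v1, A, hA, hg', act⟩ := EN g hg (nN g hn)
      have mA : A ∈ Γ := by rcases hA with rfl | rfl; exacts [Γ.one_mem, m1]
      have AA : A * A = 1 := by rcases hA with rfl | rfl <;> decide +kernel
      have sq : e v * σ A * (e v * σ A) = e (v + A • v) := by rw [h.mul_eq mA mA, AA, h.σ_one, mul_one]
      have hv : v + A • v ∈ UD := by
        refine UD.add_mem v1 ?_
        rcases hA with rfl | rfl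
        · rwa [one_smul]
        · exact (by decide +kernel : ∀ v : V, v.1 = 0 → (r1 • v).1 = 0) v v1
      rcases hg' with k | k
      · rw [k, sq]; exact ⟨_, hv, rfl⟩
      · have c := ((mE g).1 hg).2
        have : g * g = e v * σ A * (e v * σ A) := by
          rw [← mul_inv_eq_iff_eq_mul] at k
          rw [← k, mul_assoc, ← mul_assoc _ g, (Commute.inv_right c).eq.symm, mul_assoc, ← mul_inv_rev, h.t2, inv_one,
            mul_one]
        rw [this, sq]; exact ⟨_, hv, rfl⟩)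
    (z := e d1) (u := σ r1) ⟨d1, rfl, rfl⟩ (e_cube h.add _) (e_ne1 h (by decide))
    ((mE _).2 ⟨uY, (h.σ_t m1).2 (Or.inl (by decide +kernel))⟩)
    (by rw [← h.σ_mul _ m1 _ m1, show r1 * r1 = 1 by decide +kernel, h.σ_one])
    (by rw [h.σ_e _ m1, ← e_neg h.add, show r1 • d1 = -d1 by decide +kernel])
    (fun g hg hn y hy => by
      obtain ⟨v, v1, A, hA, -, act⟩ := EN g hg (nN g hn)
      obtain ⟨w, hw, rfl⟩ := hy
      rw [act w hw, ← e_neg h.add, ← h.add]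
      rcases hA with rfl | rfl
      · rw [one_smul, neg_add_cancel, e_zero h.add]; exact one_mem _
      · rw [r1_sub, e_nsmul h.add]; exact pow_mem (mem_zpowers _) _)
    (zpowers (σ r0)) (zpowers_le.2 ((mE _).2 ⟨tY, rfl⟩))
    (fun g hg => mem_normalizer_fintype (by
      rintro _ ⟨n, rfl⟩
      refine ⟨n, ?_⟩
      show σ r0 ^ n = g * σ r0 ^ n * g⁻¹
      rw [← conj_zpow, tE g hg]))
    (by rw [Nat.card_zpowers, orderOf_eq_prime (p := 2) (hp := ⟨Nat.prime_two⟩) (by rw [pow_two, h.t2]) h.t1]; decide)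
    (fun g hg hc => by
      obtain ⟨v, v1, A, hA, hg', act⟩ := EN g hg (h.dN (v := d1) (w := d1) (by decide) (by rw [hc, mul_inv_cancel_right]))
      have a1 := act d1 rfl
      rw [hc, mul_inv_cancel_right, h.toAd.eq_iff] at a1
      obtain rfl : A = 1 := hA.resolve_right (by rintro rfl; exact absurd a1 (by decide +kernel))
      rw [h.σ_one, mul_one] at hg'
      rcases hg' with rfl | rfl
      · exact ⟨1, one_mem _, v, v1, (mul_one _).symm⟩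
      · exact ⟨_, mem_zpowers _, v, v1, by rw [mul_assoc, h.t2, mul_one]⟩)
    (eS h UT) (by rintro _ ⟨v, hv, rfl⟩; exact DE v hv.1) (eS_p h UT) (card_T h) (m := 2 ^ 10 * 3 ^ 7) (by norm_num)
    (by
      rintro _ ⟨v, hv, rfl⟩ v1 f hf hc
      rcases cases_T h hv.1 hv.2 (by rintro rfl; exact v1 (e_zero h.add)) with k | ⟨k, hk⟩
      · exact h.n23 (h.dN k (w := v) (by rw [hc, mul_inv_cancel_right]))
      · exact h.c23 (v := zk k) ((by decide : ∀ k, q (zk k) = 0) k) ((by decide : ∀ k, zk k ≠ 0) k) (hk f (h1 f hf.1) hc))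
  have xN : e d1 ∈ normalizer (N0 : Set G) := EN0 (DE d1 rfl)
  have x3 := e_cube h.add d1
  have RN : ∀ k : Fin 4, k = 1 ∨ k = 2 → Rk e σ i k ≤ N0 := fun k hk => h.Rk_le fun r hr => by
    refine (hx r (RE k hk hr)).elim (fun a => a) fun a => ?_
    have m : r * e d1 * r⁻¹ * (e d1)⁻¹ ∈ Rk e σ i k := by
      rw [show r * e d1 * r⁻¹ * (e d1)⁻¹ = r * (e d1 * r⁻¹ * (e d1)⁻¹) by group]
      exact mul_mem hr (h.Rk_e (inv_mem hr) rfl)
    have p := pow_norm xN a 4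
    rw [show r * e d1 * r⁻¹ * e d1 * e d1 = r * e d1 * r⁻¹ * (e d1)⁻¹ * e d1 ^ 3 by
      rw [pow_three']; group, x3, mul_one, Rk_four h m, one_mul, pow_succ, x3, one_mul] at p
    exact N0.mul_mem ((mem_normalizer_iff.1 (EN0 (RE k hk hr)) _).1 (N0.inv_mem_iff.1 p)) p
  have hn : ∀ v : V, v.1 = 0 → e v ∈ normalizer (N0 : Set G) := fun v hv => EN0 (DE v hv)
  have ht : ∀ g ∈ N0, g * σ r0 = σ r0 * g := fun g hg => ((mE g).1 (NE hg)).2
  refine ⟨comm12 h hN0 hn ht (fun g hg => h1 g (NE hg).1) (RN 1 (Or.inl rfl)) (RN 2 (Or.inr rfl)), fun g hg gt => ?_⟩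
  have key : ∀ w : V, w.1 = 0 → g * e d1 * g⁻¹ * (e w)⁻¹ ∈ N0 → ∃ x ∈ SS e σ i, x⁻¹ * g ∈ NN e := fun w hw a => by
    obtain ⟨k, hk, m, hm, c1, c2⟩ := OR.exists_conj_cent hN0 (e_cube h.add w) (hn w hw) a
    rw [inv_mul_cancel_right] at c2
    have m3 : m ^ 3 = 1 := by
      have : (m * e w) ^ 3 = 1 := by rw [← c2, conj_pow, conj_pow, x3]; group
      rwa [Commute.mul_pow c1, e_cube h.add, mul_one] at this
    rw [eq_one3 hN0 hm m3, one_mul] at c2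
    refine ⟨k⁻¹, h.sigD hN0 hn ht (N0.inv_mem hk), h.dN (v := d1) (w := w) (by decide) ?_⟩
    rw [← c2]; group
  rcases hx g ((mE g).2 ⟨hg, gt⟩) with a | a
  · exact key d1 rfl a
  · exact key (-d1) (by decide) (by rwa [e_neg h.add, inv_inv])

end Cfsg.Agent.O83
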