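import Mathlib.Algebra.Group.Subgroup.Pointwise
import Mathlib.Algebra.Group.Commute.Basic
import Mathlib.Tactic.Group

/-! Project O83: the quaternion group generated by an orbit of an element of order three. -/

set_option autoImplicit false

namespace Cfsg.Agent.O83

open Subgroup

variable {G : Type*} [Group G]

/-- the elements of `⟨i, j⟩` -/
theorem q8_list {i j t : G} (t2 : t * t = 1) (ii : i * i = t) (jj : j * j = t) (ji : j * i = i * j * t) (r : G) :
    r ∈ closure ({i, j} : Set G) ↔ r = 1 ∨ r = t ∨ r = i ∨ r = i * t ∨ r = j ∨ r = j * t ∨ r = i * j ∨ r = i * j * t := by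
  have ti : t * i = i * t := by rw [← ii, mul_assoc]
  have tj : t * j = j * t := by rw [← jj, mul_assoc]
  have t2' : ∀ x, t * (t * x) = x := fun x => by rw [← mul_assoc, t2, one_mul]
  have ii' : ∀ x, i * (i * x) = t * x := fun x => by rw [← mul_assoc, ii]
  have jj' : ∀ x, j * (j * x) = t * x := fun x => by rw [← mul_assoc, jj]
  have ji' : ∀ x, j * (i * x) = i * (j * (t * x)) := fun x => by rw [← mul_assoc, ji]; simp only [mul_assoc]
  have ti' : ∀ x, t * (i * x) = i * (t * x) := fun x => by rw [← mul_assoc, ti, mul_assoc]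
  have tj' : ∀ x, t * (j * x) = j * (t * x) := fun x => by rw [← mul_assoc, tj, mul_assoc]
  have mi : i ∈ closure ({i, j} : Set G) := subset_closure (by simp)
  have mj : j ∈ closure ({i, j} : Set G) := subset_closure (by simp)
  have mt : t ∈ closure ({i, j} : Set G) := ii ▸ mul_mem mi mi
  refine ⟨fun h => ?_, ?_⟩
  · have i1 : i⁻¹ = i * t := inv_eq_of_mul_eq_one_right (by rw [ii', t2])
    have j1 : j⁻¹ = j * t := inv_eq_of_mul_eq_one_right (by rw [jj', t2])
    induction h using closure_induction_left with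
    | one => exact Or.inl rfl
    | mul_left x hx y _ ih =>
      rcases hx with rfl | rfl <;> rcases ih with rfl | rfl | rfl | rfl | rfl | rfl | rfl | rfl <;>
        simp only [mul_assoc, mul_one, t2, ii, jj, ji, ti, tj, t2', ii', jj', ji', ti', tj', true_or, or_true]
    | inv_mul_cancel x hx y _ ih =>
      rcases hx with rfl | rfl <;> rcases ih with rfl | rfl | rfl | rfl | rfl | rfl | rfl | rfl <;>
        simp only [i1, j1, mul_assoc, mul_one, t2, ii, jj, ji, ti, tj, t2', ii', jj', ji', ti', tj', true_or, or_true]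
  · rintro (rfl | rfl | rfl | rfl | rfl | rfl | rfl | rfl)
    exacts [one_mem _, mt, mi, mul_mem mi mt, mj, mul_mem mj mt, mul_mem mi mj, mul_mem (mul_mem mi mj) mt]

/-- the relations, from `x j x⁻¹ = i j` or `j i` for `j = x i x⁻¹` -/
theorem q8 {x i t : G} (t2 : t * t = 1) (xt : x * t = t * x) (ii : i * i = t)
    (ij : x * (x * i * x⁻¹) * x⁻¹ = i * (x * i * x⁻¹) ∨ x * (x * i * x⁻¹) * x⁻¹ = x * i * x⁻¹ * i) :
    x * i * x⁻¹ * (x * i * x⁻¹) = t ∧ x * i * x⁻¹ * i = i * (x * i * x⁻¹) * t := by
  have c : ∀ a, a * a = t → x * a * x⁻¹ * (x * a * x⁻¹) = t := fun a h => by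
    rw [show x * a * x⁻¹ * (x * a * x⁻¹) = x * (a * a) * x⁻¹ by group, h, xt, mul_inv_cancel_right]
  have jj := c i ii
  have kk := c _ jj
  generalize x * i * x⁻¹ = j at *
  refine ⟨jj, ?_⟩
  have tj : t * j = j * t := by rw [← jj, mul_assoc]
  have ti : t * i = i * t := by rw [← ii, mul_assoc]
  rcases ij with h | h <;> rw [h] at kk
  · have : j * i * j = i := mul_left_cancel (a := i) (by rw [ii, ← kk]; group)
    calc j * i = j * i * j * (j * (j * j)) := by rw [mul_assoc _ j, ← mul_assoc j j, jj, t2, mul_one]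
      _ = _ := by rw [this, jj, mul_assoc]
  · have : i * j * i = j := mul_left_cancel (a := j) (by rw [jj, ← kk]; group)
    calc j * i = i * j * i * i := by rw [this]
      _ = _ := by rw [mul_assoc _ i, ii]

end Cfsg.Agent.O83
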