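import Cfsg.Agent.O83.Bas0
import Cfsg.Agent.O83.Uq
import Cfsg.Agent.O83.Q8
import Mathlib.Algebra.Module.ZMod

set_option autoImplicit false
set_option synthInstance.maxSize 4096
set_option maxRecDepth 100000

namespace Cfsg.Agent.O83

open Subgroup

namespace Mk1

/-! ### Linear algebra -/

theorem smul_dot (c : F) (u v : V) : dot (c • u) v = c * dot u v := by
  simp only [dot_def, Prod.smul_fst, Prod.smul_snd, smul_eq_mul]; ring

theorem dot_smul' (c : F) (u v : V) : dot u (c • v) = c * dot u v := by rw [dot_comm, smul_dot, dot_comm]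

theorem q_add (u v : V) : q (u + v) = q u + q v + 2 * dot u v := by
  simp only [q, dot_add, add_dot, dot_comm v u]; ring

theorem tri {a b c : V} (h1 : q (a + b + c) = 0) (h2 : q (a + b + -c) = 0) (h3 : q (a + -b + c) = 0)
    (h4 : q (a + -b + -c) = 0) : dot a b = 0 ∧ dot a c = 0 ∧ dot b c = 0 ∧ q a + q b + q c = 0 := by
  simp only [q_add, q_neg, add_dot, dot_neg, neg_dot] at h1 h2 h3 h4
  generalize q a = x, q b = y, q c = z, dot a b = u, dot a c = v, dot b c = w at *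
  revert x y z u v w
  decide +kernel

/-- an additive map preserving the singular vectors is a similitude -/
theorem sim (L : V ≃+ V) (h : ∀ v, q v = 0 → q (L v) = 0) :
    ∃ ε : F, ε * ε = 1 ∧ ∀ u v, dot (L u) (L v) = ε * dot u v := by
  have k : ∀ a b c : V, q (a + b + c) = 0 → q (a + b + -c) = 0 → q (a + -b + c) = 0 → q (a + -b + -c) = 0 →
      dot (L a) (L b) = 0 ∧ dot (L a) (L c) = 0 ∧ dot (L b) (L c) = 0 ∧ q (L a) + q (L b) + q (L c) = 0 :=
    fun a b c h1 h2 h3 h4 => tri (by simpa using h _ h1) (by simpa using h _ h2) (by simpa using h _ h3)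
      (by simpa using h _ h4)
  obtain ⟨a01, a02, a12, s3⟩ := k d0 d1 d2 (by decide) (by decide) (by decide) (by decide)
  obtain ⟨-, a03, a13, s2⟩ := k d0 d1 d3 (by decide) (by decide) (by decide) (by decide)
  obtain ⟨-, -, a23, s1⟩ := k d0 d2 d3 (by decide) (by decide) (by decide) (by decide)
  obtain ⟨-, -, -, s0⟩ := k d1 d2 d3 (by decide) (by decide) (by decide) (by decide)
  have e : ∀ v : V, L v = v.1 • L d0 + v.2.1 • L d1 + v.2.2.1 • L d2 + v.2.2.2 • L d3 := fun v => by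
    simp only [← ZMod.map_smul, ← map_add]
    congr 1
    simp [d0, d1, d2, d3]
  have main : ∀ u v, dot (L u) (L v) = q (L d0) * dot u v := fun u v => by
    rw [e u, e v, dot_def u v]
    simp only [q] at s0 s1 s2 s3 ⊢
    simp only [dot_add, add_dot, smul_dot, dot_smul', dot_comm (L d1) (L d0), dot_comm (L d2) (L d0),
      dot_comm (L d3) (L d0), dot_comm (L d2) (L d1), dot_comm (L d3) (L d1), dot_comm (L d3) (L d2), a01, a02, a03,
      a12, a13, a23]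
    linear_combination u.2.1 * v.2.1 * (s0 - s1) + u.2.2.1 * v.2.2.1 * (s0 - s2) + u.2.2.2 * v.2.2.2 * (s0 - s3)
  refine ⟨_, ?_, main⟩
  have : q (L d0) ≠ 0 := fun k => by
    obtain ⟨w, hw⟩ := L.surjective d0
    have := main w w
    rw [k, zero_mul, hw] at this
    exact absurd this (by decide)
  revert this
  generalize q (L d0) = x
  revert x
  decide

/-- the shift -/
def sh (c : F) (v : V) : V := v + (c * dot v z0) • z0

theorem sh_add (c : F) (u v : V) : sh c (u + v) = sh c u + sh c v := by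
  rw [sh, sh, sh, add_dot, mul_add, add_smul]; abel

theorem sh_dot (c : F) (v : V) : dot (sh c v) z0 = dot v z0 := by
  rw [sh, add_dot, smul_dot, show dot z0 z0 = 0 by decide, mul_zero, add_zero]

theorem sh_sh (c : F) (v : V) : sh c (sh (-c) v) = v := by
  rw [sh, sh_dot, sh, neg_mul, neg_smul, neg_add_cancel_right]

theorem sh_perp (c : F) {v : V} (h : dot v z0 = 0) : sh c v = v := by rw [sh, h, mul_zero, zero_smul, add_zero]

theorem sh_smul (c : F) {A : O4} (h : A • z0 = z0) (v : V) : A • sh c v = sh c (A • v) := by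
  rw [sh, sh, smul_add, ← dot_smul A v, h]
  congr 1
  exact (ZMod.map_smul (DistribSMul.toAddMonoidHom V A) _ z0).trans (congrArg _ h)

theorem sh_ex : ∀ v : V, dot v z0 = 1 → ∃ c : F, q (sh (-c) v) = 0 := by decide +kernel

/-- the group `⟨A1, cyc⟩` -/
def B9 (m k : Fin 3) : O4 := A1 ^ m.val * cyc ^ k.val

theorem tr9 : ∀ v : V, dot v z0 = 1 → ∀ w : V, dot w z0 = 1 → q v = q w → ∃ m k, B9 m k • v = w := by decide +kernel

theorem tr12 : ∀ v : V, dot v z0 = 0 → q v = 0 → v.1 ≠ 0 → ∀ w : V, dot w z0 = 0 → q w = 0 → w ≠ 0 →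
    w = z0 ∨ w = -z0 ∨ ∃ k, B9 0 k • v = w ∨ B9 0 k • r0 • v = w ∨ -(B9 0 k • v) = w ∨ -(B9 0 k • r0 • v) = w := by
  decide +kernel

theorem fst_ne : ∀ v : V, dot v z0 = 0 → q v = 0 → v ≠ 0 → v ≠ z0 → v ≠ -z0 → v.1 ≠ 0 := by decide +kernel

theorem addz : ∀ v : V, dot v z0 = 0 → v.1 ≠ 0 → ∃ m, B9 m 0 • v = v + -z0 := by decide +kernel

theorem span3 : ∀ v : V, dot v z0 = 0 → ∃ a b c : F, v = a • z0 + b • (1, 1, 2, 0) + c • (2, 1, 2, 0) := by
  decide +kernel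

theorem plane : ∀ a : V, dot a z0 = 0 → q a = 0 → a.1 ≠ 0 → ∀ s : V, dot s z0 = 0 → q s = 0 → dot s a = 0 →
    ∃ k l : F, s = k • z0 + l • a := by decide +kernel

theorem to_r1 : ∀ a : V, dot a z0 ≠ 0 → q a ≠ 0 → ∃ m k, B9 m k * rf a * (B9 m k)⁻¹ = r1 ∨
    B9 m k * rf a * (B9 m k)⁻¹ * r0 * (B9 m k * rf a * (B9 m k)⁻¹) = r1 := by decide +kernel

theorem r0_smul : ∀ v : V, r0 • v = v + dot v d0 • d0 := by decide +kernel

/-! ### The action on `J` -/

variable {G : Type*} [Group G] {e : V → G} {Q : Subgroup G} {t i b τ : G}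

theorem act_mul {g g' : G} {A B : O4} (h : Act e g A) (h' : Act e g' B) : Act e (g * g') (A * B) := fun v => by
  rw [mul_smul, ← h, ← h']; group

theorem act_inv {g : G} {A : O4} (h : Act e g A) : Act e g⁻¹ A⁻¹ := fun v => by
  conv_lhs => rw [← smul_inv_smul A v, ← h]
  group

/-- the orthogonal matrices induced on `J` -/
def MM (e : V → G) : Subgroup O4 where
  carrier := {A | ∃ g, Act e g A}
  one_mem' := ⟨1, fun v => by simp⟩
  mul_mem' := fun ⟨_, h⟩ ⟨_, h'⟩ => ⟨_, act_mul h h'⟩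
  inv_mem' := fun ⟨_, h⟩ => ⟨_, act_inv h⟩

theorem B9_mem (h : H2 e Q t i b τ) (m k : Fin 3) : B9 m k ∈ MM e :=
  (MM e).mul_mem ((MM e).pow_mem ⟨_, h.ab⟩ _) ((MM e).pow_mem ⟨_, h.aτ⟩ _)

theorem om_M {A : O4} (hA : A ∈ MM e) {v : V} (hv : IsConj (e z0) (e v)) : IsConj (e z0) (e (A • v)) :=
  let ⟨g, hg⟩ := hA; hv.trans (isConj_iff.2 ⟨g, hg v⟩)

theorem om_q (h : H2 e Q t i b τ) {v : V} (hv : IsConj (e z0) (e v)) (k : dot v z0 = 0) : q v = 0 ∧ v ≠ 0 := by
  obtain ⟨g, hg⟩ := isConj_iff.1 hv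
  refine ⟨h.om g v hg k, ?_⟩
  rintro rfl
  rw [e_zero h.add, conj_eq_one_iff] at hg
  exact absurd (h.inj _ hg) (by decide)

theorem fix_z (h : Ad e) {g : G} {A : O4} (hA : Act e g A) (hg : g * e z0 = e z0 * g) : A • z0 = z0 :=
  h.eq_iff.1 (by rw [← hA, hg, mul_inv_cancel_right])

theorem R_z (h : H2 e Q t i b τ) {r : G} (hr : r ∈ RR e i) : r * e z0 = e z0 * r := by
  refine mem_centralizer_singleton_iff.1 ((closure_le (centralizer {e z0})).2 ?_ hr)
  have c : Commute (e d1) (e z0) := e_comm h.add _ _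
  rintro _ (rfl | rfl)
  exacts [mem_centralizer_singleton_iff.2 h.iz,
    mem_centralizer_singleton_iff.2 ((c.mul_left h.iz).mul_left c.inv_left)]

theorem shift (h : H2 e Q t i b τ) (c : F) : H2 (fun v => e (sh c v)) Q t i b τ := by
  have ez : e (sh c z0) = e z0 := by rw [sh_perp c (by decide)]
  have act : ∀ g A, Act e g A → g * e z0 = e z0 * g → Act (fun v => e (sh c v)) g A := fun g A hA hg v => by
    simp only [← sh_smul c (fix_z h.toAd hA hg), hA _]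
  have cz : ∀ g A, Act e g A → A • z0 = z0 → g * e z0 = e z0 * g := fun g A hA k => by
    rw [← mul_inv_eq_iff_eq_mul, hA, k]
  have cj : ∀ g, g * e z0 = e z0 * g → e (sh c d1) * g * (e (sh c d1))⁻¹ = e d1 * g * (e d1)⁻¹ := fun g hg => by
    rw [sh, h.add, ← ZMod.natCast_zmod_val (c * _), Nat.cast_smul_eq_nsmul, e_nsmul h.add, mul_assoc (e d1),
      ← (Commute.pow_right hg _).eq]
    group
  have ej : jj (fun v => e (sh c v)) i = jj e i := cj i h.iz
  have eR : RR (fun v => e (sh c v)) i = RR e i := by rw [RR, ej, RR]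
  refine ⟨⟨fun u v => by rw [sh_add, h.add], fun v k => ?_⟩, fun g hg => ?_, act _ _ h.at' (cz _ _ h.at' (by decide)),
    act _ _ h.ab (cz _ _ h.ab (by decide)), act _ _ h.aτ (cz _ _ h.aτ (by decide)), h.t2, h.tb, h.ii, ?_, ?_, ?_, ?_,
    ?_, ?_, ?_, fun v => by rw [h.QJ, sh_dot], fun g v => ?_, ?_⟩
  · have k1 := h.inj _ k
    have k2 := sh_dot c v
    rw [k1, show dot 0 z0 = 0 by decide] at k2
    rwa [sh_perp c k2.symm] at k1
  · obtain ⟨v, rfl⟩ := h.cj g fun v => by simpa only [sh_sh] using hg (sh (-c) v)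
    exact ⟨sh (-c) v, by rw [sh_sh]⟩
  · rw [ej, cj _ (R_z h (subset_closure (by simp)))]; exact h.ij
  · rw [ez]; exact h.iz
  · rw [sh_perp c (by decide)]; exact h.id
  · rw [ez, eR]; exact h.Rn
  · rw [ez, eR]
    intro g hg
    obtain ⟨r, hr, A, hA⟩ := h.cz g hg
    exact ⟨r, hr, A, act _ _ hA ((Commute.inv_left (R_z h hr)).mul_left hg)⟩
  · rw [ez]
    intro P hP hc
    obtain ⟨x, hx, k⟩ := h.syl P hP hc
    exact ⟨x, hx, fun p hp => (k p hp).imp fun A hA =>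
      act _ _ hA ((Commute.mul_left hx (hc p hp)).mul_left (Commute.inv_left hx))⟩
  · rw [ez]; exact h.QN
  · intro k hv
    rw [ez, sh_perp c hv] at k
    exact h.om g v k hv
  · obtain ⟨g, v, u, h1, h2, h3, h4, h5, h6, h7⟩ := h.ex
    exact ⟨g, v, sh (-c) u, by rw [ez, sh_perp c h2, h1], h2, h3, h4, by rwa [ez], by rwa [sh_sh], by rwa [sh_dot]⟩

variable [Finite G]

theorem act_N (h : Ad e) {g : G} {A : O4} (hA : Act e g A) : g ∈ NN e := (mem_NN h.add).2 fun v => ⟨_, hA v⟩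

theorem exL (h : Ad e) {n : G} (hn : n ∈ NN e) : ∃ L : V ≃+ V, ∀ w, n * e w * n⁻¹ = e (L w) := by
  choose f hf using (mem_NN h.add).1 hn
  refine ⟨AddEquiv.ofBijective (AddMonoidHom.mk' f fun u v => h.eq_iff.1 ?_)
    (Finite.injective_iff_bijective.1 fun u v k => h.eq_iff.1 ?_), hf⟩
  · rw [h.add, ← hf, ← hf, ← hf, h.add, conj_mul]
  · have : n * e u * n⁻¹ = n * e v * n⁻¹ := by rw [hf, hf]; exact congrArg e k
    simpa using this

/-- (a) -/
theorem cz_act (h : H2 e Q t i b τ) {g : G} (hN : g ∈ NN e) (hg : g * e z0 = e z0 * g) : ∃ A, Act e g A := by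
  obtain ⟨r, hr, A, hA⟩ := h.cz g hg
  have rN : r ∈ NN e := by simpa using (NN e).mul_mem hN ((NN e).inv_mem (act_N h.toAd hA))
  have tN := act_N h.toAd h.at'
  have xN : e d1 ∈ NN e := (mem_NN h.add).2 fun v => ⟨v, by rw [e_comm h.add, mul_inv_cancel_right]⟩
  have cx : ∀ y, e d1 * y * (e d1)⁻¹ ∈ NN e ↔ y ∈ NN e := fun y => by
    rw [(NN e).mul_mem_cancel_right ((NN e).inv_mem xN), (NN e).mul_mem_cancel_left xN]
  have hi : i ∉ NN e := fun k => by
    obtain ⟨w, hw⟩ := (mem_NN h.add).1 k d0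
    have := h.ab d0
    rw [← h.id, hw, e_comm h.add, mul_inv_cancel_right] at this
    exact absurd (h.eq_iff.1 this) (by decide)
  have hj : jj e i ∉ NN e := fun k => hi ((cx i).1 k)
  obtain ⟨jj2, ji⟩ := q8 (x := e d1) h.t2 (by rw [eq_comm, ← mul_inv_eq_iff_eq_mul, h.at']; rfl) h.ii h.ij
  have hk : i * jj e i ∉ NN e := fun k => hj ((cx _).1 (by
    rcases h.ij with c | c <;> rw [c]
    · exact k
    · exact (show jj e i * i = i * jj e i * t from ji) ▸ (NN e).mul_mem k tN))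
  rw [← mul_inv_cancel_left r g]
  rcases (q8_list h.t2 h.ii jj2 ji r).1 hr with k | k | k | k | k | k | k | k <;> rw [k] at rN
  · exact ⟨A, by rw [k, one_mul]; exact k ▸ hA⟩
  · exact ⟨_, act_mul (k ▸ h.at') hA⟩
  exacts [absurd rN hi, absurd (((NN e).mul_mem_cancel_right tN).1 rN) hi, absurd rN hj,
    absurd (((NN e).mul_mem_cancel_right tN).1 rN) hj, absurd rN hk, absurd (((NN e).mul_mem_cancel_right tN).1 rN) hk]

/-- (b) -/
theorem fac (h : H2 e Q t i b τ) {g : G} {v : V} (hg : g * e z0 * g⁻¹ = e v) :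
    ∃ c, c * e z0 = e z0 * c ∧ g * c⁻¹ ∈ NN e := by
  obtain ⟨c, hc, k⟩ := h.syl ((JJ e).map (MulAut.conj g⁻¹).toMonoidHom) (IsPGroup.map (fun x => by
      obtain ⟨w, hw⟩ := (mem_JJ h.add).1 x.2
      exact ⟨1, Subtype.ext (by rw [pow_one, coe_pow, ← hw]; exact e_cube h.add w)⟩) _) (by
    rintro _ ⟨x, hx, rfl⟩
    obtain ⟨w, rfl⟩ := (mem_JJ h.add).1 hx
    have := e_comm h.add w v
    rw [← hg] at this
    show g⁻¹ * e w * g⁻¹⁻¹ * e z0 = e z0 * (g⁻¹ * e w * g⁻¹⁻¹)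
    calc _ = g⁻¹ * (e w * (g * e z0 * g⁻¹)) * g := by group
      _ = _ := by rw [this]; group)
  have := h.uq h.cj (g := c * g⁻¹) fun w => by
    obtain ⟨A, hA⟩ := k _ ⟨e w, (mem_JJ h.add).2 ⟨w, rfl⟩, rfl⟩
    exact ⟨A, by convert hA using 1; simp [mul_assoc]⟩
  exact ⟨c, hc, by simpa using (NN e).inv_mem this⟩

/-- (c), (d) -/
theorem base (h : H2 e Q t i b τ) : (∀ w, IsConj (e z0) (e w) → IsConj (e z0) (e (-w))) ∧
    (∀ w, dot w z0 = 0 → q w = 0 → w ≠ 0 → IsConj (e z0) (e w)) ∧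
    ∃ (n : G) (L : V ≃+ V) (a s : V), (∀ w, n * e w * n⁻¹ = e (L w)) ∧ L a = z0 ∧ dot a z0 = 0 ∧ q a = 0 ∧ a.1 ≠ 0 ∧
      dot (L z0) z0 = 0 ∧ dot s z0 = 0 ∧ q s = 0 ∧ dot (L s) z0 = 1 := by
  obtain ⟨g, v, u, h1, h2, h3, h4, h5, h6, h7⟩ := h.ex
  obtain ⟨c, hc, hn⟩ := fac h h1
  obtain ⟨L, hL⟩ := exL h.toAd hn
  have Lz : L z0 = v := h.eq_iff.1 (by rw [← hL, ← h1, mul_assoc g, (Commute.inv_left hc).eq]; group)
  have pull : ∀ w, g⁻¹ * e (L w) * g ∈ Q → dot w z0 = 0 := fun w hw => by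
    have := h.QN c hc _ hw
    rw [← hL] at this
    exact (h.QJ w).1 (by convert this using 1; group)
  have oL : ∀ w, IsConj (e z0) (e w) ↔ IsConj (e z0) (e (L w)) := fun w =>
    ⟨fun k => k.trans (isConj_iff.2 ⟨_, hL w⟩), fun k => k.trans (isConj_iff.2 ⟨_, hL w⟩).symm⟩
  obtain ⟨a, ha⟩ := L.surjective z0
  obtain ⟨u, rfl⟩ := L.surjective u
  have a0 : dot a z0 = 0 := pull a (by rwa [ha])
  have oa : IsConj (e z0) (e a) := (oL a).2 (by rw [ha])
  have ov : IsConj (e z0) (e v) := isConj_iff.2 ⟨g, h1⟩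
  have a1 : a.1 ≠ 0 := fst_ne a a0 (om_q h oa a0).1 (om_q h oa a0).2 (by rintro rfl; exact h3 (Lz.symm.trans ha))
    (by rintro rfl; exact h4 (by rw [map_neg, Lz] at ha; exact neg_eq_iff_eq_neg.1 ha))
  have v1 : v.1 ≠ 0 := fst_ne v h2 (om_q h ov h2).1 (om_q h ov h2).2 h3 h4
  have neg : ∀ w, IsConj (e z0) (e w) → IsConj (e z0) (e (-w)) := by
    obtain ⟨m, hm⟩ := addz v h2 v1
    obtain ⟨m', hm'⟩ := addz a a0 a1
    have k1 := om_M (B9_mem h m 0) ov
    have k2 := (oL _).1 (om_M (B9_mem h m' 0) oa)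
    rw [hm] at k1
    rw [hm', map_add, map_neg, ha, Lz, show z0 + -v = -(v + -z0) by abel, e_neg h.add] at k2
    have inv : ∀ x y : G, IsConj x y → IsConj x⁻¹ y⁻¹ := fun x y k => by
      obtain ⟨c, rfl⟩ := isConj_iff.1 k
      exact isConj_iff.2 ⟨c, conj_inv.symm⟩
    intro w hw
    rw [e_neg h.add]
    exact (k2.trans (inv _ _ k1).symm).trans (inv _ _ hw)
  have all : ∀ w, dot w z0 = 0 → q w = 0 → w ≠ 0 → IsConj (e z0) (e w) := fun w w1 w2 w3 => by
    have k0 := om_M (⟨_, h.at'⟩ : r0 ∈ MM e) ov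
    rcases tr12 v h2 (om_q h ov h2).1 v1 w w1 w2 w3 with rfl | rfl | ⟨k, rfl | rfl | rfl | rfl⟩
    exacts [IsConj.refl _, neg _ (IsConj.refl _), om_M (B9_mem h 0 k) ov, om_M (B9_mem h 0 k) k0,
      neg _ (om_M (B9_mem h 0 k) ov), neg _ (om_M (B9_mem h 0 k) k0)]
  obtain ⟨s, s1, s2, s3⟩ : ∃ s, dot s z0 = 0 ∧ q s = 0 ∧ dot (L s) z0 ≠ 0 := by
    by_contra hne
    push Not at hne
    obtain ⟨x, y, w, rfl⟩ := span3 u (pull u h6)
    apply h7
    simp only [map_add, ZMod.map_smul, add_dot, smul_dot, hne z0 (by decide) (by decide),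
      hne (1, 1, 2, 0) (by decide) (by decide), hne (2, 1, 2, 0) (by decide) (by decide), mul_zero, add_zero]
  refine ⟨neg, all, g * c⁻¹, L, a, ?_⟩
  rcases (by decide : ∀ x : F, x ≠ 0 → x = 1 ∨ -x = 1) _ s3 with k | k
  · exact ⟨s, hL, ha, a0, (om_q h oa a0).1, a1, Lz ▸ h2, s1, s2, k⟩
  · exact ⟨-s, hL, ha, a0, (om_q h oa a0).1, a1, Lz ▸ h2, by rw [neg_dot, s1, neg_zero], by rwa [q_neg],
      by rwa [map_neg, neg_dot]⟩

theorem main (h : H2 e Q t i b τ) {ω : V} (h1 : IsConj (e z0) (e ω)) (h2 : dot ω z0 = 1) (h3 : q ω = 0) :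
    (∀ g ∈ NN e, ∃ A, Act e g A) ∧ ∃ g, Act e g r1 := by
  obtain ⟨neg, all, n, L, a, s, hL, ha, a0, qa, a1, Lz, s0, qs, Ls⟩ := base h
  have three : ∀ x : F, x = 0 ∨ x = 1 ∨ -x = 1 := by decide
  have cls : ∀ v, IsConj (e z0) (e v) → dot v z0 = 1 → ∀ w, dot w z0 = 1 → q v = q w → IsConj (e z0) (e w) :=
    fun v hv v1 w w1 k => by
      obtain ⟨m, l, rfl⟩ := tr9 v v1 w w1 k
      exact om_M (B9_mem h m l) hv
  have sing : ∀ w, q w = 0 → w ≠ 0 → IsConj (e z0) (e w) := fun w qw w0 => by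
    rcases three (dot w z0) with k | k | k
    · exact all w k qw w0
    · exact cls ω h1 h2 w k (h3.trans qw.symm)
    · simpa using neg _ (cls ω h1 h2 (-w) (by rwa [neg_dot]) (by rw [h3, q_neg, qw]))
  have oL : ∀ {n : G} {L : V ≃+ V}, (∀ w, n * e w * n⁻¹ = e (L w)) → ∀ w,
      IsConj (e z0) (e w) ↔ IsConj (e z0) (e (L w)) := fun hL w =>
    ⟨fun k => k.trans (isConj_iff.2 ⟨_, hL w⟩), fun k => k.trans (isConj_iff.2 ⟨_, hL w⟩).symm⟩
  have sa : dot s a ≠ 0 := fun k => by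
    obtain ⟨x, y, rfl⟩ := plane a a0 qa a1 s s0 qs k
    rw [map_add, ZMod.map_smul, ZMod.map_smul, ha, add_dot, smul_dot, smul_dot, Lz] at Ls
    exact absurd Ls (by simp [show dot z0 z0 = 0 by decide])
  have no : ∀ v, IsConj (e z0) (e v) → dot v z0 = 1 → q v ≠ q (L s) + 2 ∧ q v ≠ q (L s) + -2 := fun v hv v1 => by
    constructor <;> intro k
    · have := (oL hL (s + a)).2 (cls v hv v1 _ (by rw [map_add, ha, add_dot, Ls]; decide)
        (by rw [map_add, ha, q_add, Ls, k, show q z0 = 0 by decide]; ring))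
      have := (om_q h this (by rw [add_dot, s0, a0, add_zero])).1
      rw [q_add, qs, qa, zero_add, zero_add] at this
      exact sa ((mul_eq_zero.1 this).resolve_left (by decide))
    · have := (oL hL (s + -a)).2 (cls v hv v1 _ (by rw [map_add, map_neg, ha, add_dot, Ls]; decide)
        (by rw [map_add, map_neg, ha, q_add, dot_neg, Ls, k, show q (-z0) = 0 by decide]; ring))
      have := (om_q h this (by rw [add_dot, neg_dot, s0, a0, neg_zero, add_zero])).1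
      rw [q_add, q_neg, qs, qa, zero_add, zero_add, dot_neg] at this
      exact sa (neg_eq_zero.1 ((mul_eq_zero.1 this).resolve_left (by decide)))
  have one : ∀ v, IsConj (e z0) (e v) → dot v z0 = 1 → q v = 0 := fun v hv v1 =>
    (by decide : ∀ x y : F, x ≠ y + 2 ∧ x ≠ y + -2 → 0 ≠ y + 2 ∧ 0 ≠ y + -2 → x = 0) _ _ (no v hv v1)
      (h3 ▸ no ω h1 h2)
  have sq : ∀ v, IsConj (e z0) (e v) → q v = 0 := fun v hv => by
    rcases three (dot v z0) with k | k | k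
    · exact (om_q h hv k).1
    · exact one v hv k
    · rw [← q_neg]; exact one _ (neg v hv) (by rwa [neg_dot])
  obtain ⟨ε, ε2, hε⟩ := sim L fun v hv => by
    by_cases v0 : v = 0
    · rw [v0, map_zero]; decide
    · exact sq _ ((oL hL v).1 (sing v hv v0))
  have ε0 : ε ≠ 0 := by rintro rfl; exact absurd ε2 (by decide)
  have rfM : rf (L d0) ∈ MM e := ⟨n * t * n⁻¹, fun w => by
    obtain ⟨w, rfl⟩ := L.surjective w
    rw [rf_smul, q, hε, hε, show dot d0 d0 = 1 by decide, mul_one, ← mul_assoc ε, ε2, one_mul, ← ZMod.map_smul,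
      ← map_add, ← r0_smul, ← hL, ← hL, ← h.at']
    group⟩
  have r1M : r1 ∈ MM e := by
    obtain ⟨m, k, c⟩ := to_r1 (L d0) (by
        rw [← ha, hε]
        exact mul_ne_zero ε0 (by simpa [dot_def, d0] using a1))
      (by rw [q, hε]; exact mul_ne_zero ε0 (by decide))
    have := mul_mem (mul_mem (B9_mem h m k) rfM) (inv_mem (B9_mem h m k))
    rcases c with c | c <;> rw [← c]
    exacts [this, mul_mem (mul_mem this ⟨_, h.at'⟩) this]
  refine ⟨fun g hg => ?_, r1M⟩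
  obtain ⟨w, hw⟩ := (mem_NN h.add).1 hg z0
  obtain ⟨A, hA, rfl⟩ := tr_z (v := w) (sq w (isConj_iff.2 ⟨g, hw⟩)) (by
    rintro rfl
    rw [e_zero h.add, conj_eq_one_iff] at hw
    exact absurd (h.inj _ hw) (by decide))
  obtain ⟨x, hx⟩ := Γ1_le_of (M := MM e) ⟨_, h.at'⟩ r1M ⟨_, h.ab⟩ ⟨_, h.aτ⟩ hA
  obtain ⟨B, hB⟩ := cz_act h (g := x⁻¹ * g) ((NN e).mul_mem ((NN e).inv_mem (act_N h.toAd hx)) hg) (by
    rw [← hx] at hw
    calc _ = x⁻¹ * (g * e z0 * g⁻¹) * g := by group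
      _ = _ := by rw [hw]; group)
  exact ⟨_, by simpa using act_mul hx hB⟩

end Mk1

open Mk1

variable {G : Type*} [Group G] [Finite G] {e : V → G} {Q : Subgroup G} {t i b τ : G}

/-- notes/O83.md, section Mk1: `N(J)` acts orthogonally in suitable coordinates -/
theorem H2.mk1 (h : H2 e Q t i b τ) :
    ∃ e' : V → G, H2 e' Q t i b τ ∧ (∀ g ∈ NN e', ∃ A, Act e' g A) ∧ ∃ g, Act e' g r1 := by
  obtain ⟨-, all, n, L, a, s, hL, -, -, -, -, -, s0, qs, Ls⟩ := base h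
  obtain ⟨c, hc⟩ := sh_ex _ Ls
  refine ⟨_, shift h c, main (shift h c) ?_ (by rwa [sh_dot]) hc⟩
  rw [sh_sh, sh_perp c (by decide)]
  refine (all s s0 qs ?_).trans (isConj_iff.2 ⟨_, hL s⟩)
  rintro rfl
  rw [map_zero] at Ls
  exact absurd Ls (by decide)

end Cfsg.Agent.O83
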