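import Cfsg.Agent.O83.Cd
import Cfsg.Agent.O83.Fr

set_option autoImplicit false
set_option synthInstance.maxSize 4096
set_option maxRecDepth 100000

namespace Cfsg.Agent.O83

open Subgroup

variable {G : Type*} [Group G] [Finite G] {Γ : Subgroup O4} {e : V → G} {σ : O4 → G} {i : G} {π : G → V8}

namespace NSa

omit [Finite G] in
/-- elements of order three in one coset of a `3'`-group are conjugate -/
theorem lift3 {N : Subgroup G} (hN : (Nat.card N).Coprime 3) {x a : G} (x3 : x ^ 3 = 1) (a3 : a ^ 3 = 1)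
    (hx : x ∈ normalizer (N : Set G)) (h : a * x⁻¹ ∈ N) : ∃ k ∈ N, k * a * k⁻¹ = x := by
  obtain ⟨k, hk, m, hm, c, e⟩ := OR.exists_conj_cent hN x3 hx h
  rw [inv_mul_cancel_right] at e
  have : (m * x) ^ 3 = 1 := by rw [← e, conj_pow, a3, mul_one, mul_inv_cancel]
  rw [Commute.mul_pow c, x3, mul_one] at this
  rw [Cd.eq_one3 hN hm this, one_mul] at e
  exact ⟨k, hk, e⟩

theorem smul_tl : ∀ A : O4, A • d0 = d0 → ∀ v : V, A • ((0, v.2) : V) = (0, (A • v).2) := by decide +kernel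

theorem kinds : ∀ v : V, v.1 = 0 → v ≠ 0 → q v = 1 ∨ (∃ l, v = zk l ∨ v = -zk l) ∨
    ∃ A : O4, A • d0 = d0 ∧ A • y0 = v ∧ A ∈ Γ1 := by decide +kernel

/-- the normaliser of `Σ` -/
abbrev HH (e : V → G) (σ : O4 → G) (i : G) : Subgroup G := normalizer (SS e σ i : Set G)

/-- the projection -/
abbrev pr (e : V → G) (σ : O4 → G) (i : G) : HH e σ i →* HH e σ i ⧸ (SS e σ i).subgroupOf (HH e σ i) :=
  QuotientGroup.mk' _

variable (h : Cf Γ e σ i) (s : Sd Γ e σ i π)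
include h s

theorem eH (v : V) : e (0, v.2) ∈ HH e σ i := h.NH_S s (h.e_mem _) (h.e_t.2 rfl)

theorem σH {A : O4} (hA : A ∈ Γ ∧ A • d0 = d0) : σ A ∈ HH e σ i :=
  h.NH_S s (h.σ_mem hA.1) ((h.σ_t hA.1).2 (Or.inl hA.2))

/-- the image of `e v` -/
def εε (v : V) : HH e σ i ⧸ (SS e σ i).subgroupOf (HH e σ i) := pr e σ i ⟨e (0, v.2), eH h s v⟩

open Classical in
/-- the image of `σ A` -/
noncomputable def ςς (A : O4) : HH e σ i ⧸ (SS e σ i).subgroupOf (HH e σ i) :=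
  if hA : A ∈ Γ ∧ A • d0 = d0 then pr e σ i ⟨σ A, σH h s hA⟩ else 1

theorem ςς_eq {A : O4} (hA : A ∈ Γ) (h0 : A • d0 = d0) : ςς h s A = pr e σ i ⟨σ A, σH h s ⟨hA, h0⟩⟩ :=
  dif_pos ⟨hA, h0⟩

omit [Finite G] h in
theorem cop : (Nat.card (SS e σ i)).Coprime 3 := by rw [s.card]; norm_num

theorem lift {a : HH e σ i} (a3 : a.1 ^ 3 = 1) {w : V} (k : pr e σ i a = εε h s w) :
    ∃ c ∈ SS e σ i, c * a.1 * c⁻¹ = e (0, w.2) := by
  refine lift3 (cop s) (e_cube h.add _) a3 (eH h s w) ?_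
  rw [εε, ← mul_inv_eq_one, ← map_inv, ← map_mul] at k
  exact mem_subgroupOf.1 ((QuotientGroup.eq_one_iff _).1 k)

theorem lift' {g : HH e σ i} {v w : V} (k : pr e σ i g * εε h s v * (pr e σ i g)⁻¹ = εε h s w) :
    ∃ c ∈ SS e σ i, c * g * e (0, v.2) * (c * g)⁻¹ = e (0, w.2) := by
  conv_lhs at k => rw [εε, ← map_inv, ← map_mul, ← map_mul]
  obtain ⟨c, hc, k⟩ := lift h s (by
    show (g.1 * e _ * g.1⁻¹) ^ 3 = 1
    rw [conj_pow, e_cube h.add, mul_one, mul_inv_cancel]) k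
  exact ⟨c, hc, by rw [← k]; simp [mul_assoc]⟩

theorem εε_add (u v : V) : εε h s (u + v) = εε h s u * εε h s v := by
  rw [εε, εε, εε, ← map_mul]
  exact congrArg _ (Subtype.ext ((congrArg e (Prod.ext (add_zero 0).symm rfl)).trans (h.add (0, u.2) (0, v.2))))

theorem εε_act {A : O4} (hA : A ∈ Γ) (a : A • d0 = d0) (v : V) :
    ςς h s A * εε h s v * (ςς h s A)⁻¹ = εε h s (A • v) := by
  rw [ςς_eq h s hA a, εε, εε, ← map_inv, ← map_mul, ← map_mul]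
  exact congrArg _ (Subtype.ext ((h.σ_e A hA _).trans (congrArg e (smul_tl A a v))))

theorem form {g : HH e σ i} (hg : ∃ x ∈ SS e σ i, x⁻¹ * g ∈ NN e) :
    ∃ v, ∃ A ∈ Γ, A • d0 = d0 ∧ pr e σ i g = εε h s v * ςς h s A := by
  obtain ⟨x, hx, hN⟩ := hg
  obtain ⟨x, hx, v, A, hA, v0, a, k⟩ := h.nf s hx hN (h.NS_t s g.2)
  refine ⟨v, A, hA, a, ?_⟩
  rw [ςς_eq h s hA a, εε, ← map_mul, ← mul_inv_eq_one, ← map_inv, ← map_mul]
  refine (QuotientGroup.eq_one_iff _).2 (show g.1 * (e (0, v.2) * σ A)⁻¹ ∈ SS e σ i from ?_)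
  rwa [k, show ((0, v.2) : V) = v from Prod.ext v0.symm rfl, mul_inv_cancel_right]

omit [Finite G] h s in
theorem drop {g c : G} (hc : c ∈ SS e σ i) (hg : ∃ x ∈ SS e σ i, x⁻¹ * (c * g) ∈ NN e) :
    ∃ x ∈ SS e σ i, x⁻¹ * g ∈ NN e := by
  obtain ⟨x, hx, k⟩ := hg
  exact ⟨c⁻¹ * x, mul_mem (inv_mem hc) hx, by rwa [mul_inv_rev, inv_inv, mul_assoc]⟩

theorem mem_NNε {g : HH e σ i} : pr e σ i g ∈ NN (εε h s) ↔ ∃ x ∈ SS e σ i, x⁻¹ * g ∈ NN e := by
  rw [mem_NN (εε_add h s)]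
  refine ⟨fun k => ?_, fun k v => ?_⟩
  · obtain ⟨w, k⟩ := k d1
    obtain ⟨c, hc, k⟩ := lift' h s k
    exact drop hc ⟨1, one_mem _, by rw [inv_one, one_mul]; exact h.dN (by decide) k⟩
  · obtain ⟨u, A, hA, a, k⟩ := form h s k
    refine ⟨A • v, ?_⟩
    rw [k]
    calc _ = εε h s u * (ςς h s A * εε h s v * (ςς h s A)⁻¹) * (εε h s u)⁻¹ := by group
      _ = _ := by rw [εε_act h s hA a, e_comm (εε_add h s), mul_inv_cancel_right]

theorem wr : Wr Γ (εε h s) (ςς h s) where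
  add := εε_add h s
  ker v := by
    rw [εε, QuotientGroup.mk'_apply, QuotientGroup.eq_one_iff, mem_subgroupOf]
    refine ⟨fun k => congrArg Prod.snd (h.inj _ (Cd.eq_one3 (cop s) k (e_cube h.add _))), fun k => ?_⟩
    show e (0, v.2) ∈ _
    rw [k, show ((0, 0) : V) = 0 from rfl, e_zero h.add]
    exact one_mem _
  mul A hA B hB a b := by
    rw [ςς_eq h s hA a, ςς_eq h s hB b, ςς_eq h s (Γ.mul_mem hA hB) (by rw [mul_smul, b, a]), ← map_mul]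
    exact congrArg _ (Subtype.ext (h.σ_mul A hA B hB))
  act A hA a v := εε_act h s hA a v
  norm g hg := by
    obtain ⟨g, rfl⟩ := QuotientGroup.mk'_surjective _ g
    exact form h s ((mem_NNε h s).1 hg)

omit s in
theorem zc {l : Fin 4} {g : G} (hg : g * e (zk l) = e (zk l) * g) : ∃ x ∈ SS e σ i, x⁻¹ * g ∈ NN e :=
  (h.czk hg).imp fun _ k => ⟨le_iSup (Rk e σ i) l k.1, k.2⟩

theorem sigε (K : Subgroup (HH e σ i ⧸ (SS e σ i).subgroupOf (HH e σ i))) (hK : (Nat.card K).Coprime 3)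
    (hn : ∀ v, εε h s v ∈ normalizer (K : Set (HH e σ i ⧸ (SS e σ i).subgroupOf (HH e σ i)))) : K = ⊥ := by
  have le : (K.comap (pr e σ i)).map (HH e σ i).subtype ≤ SS e σ i := by
    refine h.sigD (H22.coprime_card_map _ (H22.coprime_card_comap _ ?_ hK))
      (fun v hv => mem_normalizer_fintype ?_) fun g hg => h.NS_t s (map_subtype_le _ hg)
    · rw [QuotientGroup.ker_mk', Nat.card_congr (subgroupOfEquivOfLe le_normalizer).toEquiv]
      exact cop s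
    · rintro _ ⟨x, hx, rfl⟩
      rw [show v = (0, v.2) from Prod.ext hv rfl]
      refine ⟨⟨_, eH h s v⟩ * x * ⟨_, eH h s v⟩⁻¹, ?_, rfl⟩
      rw [SetLike.mem_coe, mem_comap, map_mul, map_mul, map_inv]
      exact (mem_normalizer_iff.1 (hn v) _).1 hx
  refine eq_bot_iff.2 fun x hx => ?_
  obtain ⟨x, rfl⟩ := QuotientGroup.mk'_surjective _ x
  exact (QuotientGroup.eq_one_iff x).2 (le ⟨x, hx, rfl⟩)

end NSa

open NSa in
/-- notes/O83.md, section NS -/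
theorem Cf.ns (h : Cf Γ e σ i) (s : Sd Γ e σ i π)
    (hy : Γ = Γ1 → ∀ g, g * e y0 = e y0 * g → g * σ r0 = σ r0 * g → ∃ x ∈ SS e σ i, x⁻¹ * g ∈ NN e)
    {g : G} (hg : g ∈ normalizer (SS e σ i : Set G)) : ∃ x ∈ SS e σ i, x⁻¹ * g ∈ NN e := by
  refine (mem_NNε h s (g := ⟨g, hg⟩)).1 ?_
  rcases h.hΓ with rfl | rfl
  · refine (wr h s).wa (fun v hv x hx => ?_) _
    obtain ⟨x, rfl⟩ := QuotientGroup.mk'_surjective _ x
    obtain ⟨c, hc, k⟩ := lift' h s (mul_inv_eq_iff_eq_mul.2 hx)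
    refine (mem_NNε h s).2 (drop hc ?_)
    rcases kinds (0, v.2) rfl (fun k => hv (((wr h s).ker _).2 (congrArg Prod.snd k))) with
      k1 | ⟨l, k1 | k1⟩ | ⟨A, a, k1, hA⟩
    · exact ⟨1, one_mem _, by rw [inv_one, one_mul]; exact h.dN k1 k⟩
    · exact zc h (mul_inv_eq_iff_eq_mul.1 (k1 ▸ k))
    · rw [k1, e_neg h.add, mul_inv_eq_iff_eq_mul] at k
      exact zc h (Commute.inv_right_iff.1 k)
    · have ct : c * x * σ r0 = σ r0 * (c * x) := h.NS_t s (mul_mem (le_normalizer hc) x.2)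
      have σt := (h.σ_t hA).2 (Or.inl a)
      rw [← k1, ← h.σ_e A hA] at k
      obtain ⟨y, hy, k2⟩ := hy rfl ((σ A)⁻¹ * (c * x) * σ A) (by
        calc _ = (σ A)⁻¹ * (c * x * (σ A * e y0 * (σ A)⁻¹) * (c * x)⁻¹) * (c * x) * σ A := by group
          _ = _ := by rw [k]; group) (Commute.mul_left (Commute.mul_left (Commute.inv_left σt) ct) σt)
      refine ⟨σ A * y * (σ A)⁻¹, (s.aσ A hA (Or.inl a) y hy).1, ?_⟩
      have := mul_mem (mul_mem (h.σ_mem hA) k2) (inv_mem (h.σ_mem hA))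
      rwa [show σ A * (y⁻¹ * ((σ A)⁻¹ * (c * x) * σ A)) * (σ A)⁻¹ = (σ A * y * (σ A)⁻¹)⁻¹ * (c * x) by group] at this
  · refine (wr h s).wb (fun x hx => ?_) (sigε h s) (fun x v k => ?_) _
    · obtain ⟨x, rfl⟩ := QuotientGroup.mk'_surjective _ x
      obtain ⟨c, hc, k⟩ := lift' h s (mul_inv_eq_iff_eq_mul.2 hx)
      exact (mem_NNε h s).2 (drop hc (zc h (l := 0) (mul_inv_eq_iff_eq_mul.1 k)))
    · obtain ⟨x, rfl⟩ := QuotientGroup.mk'_surjective _ x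
      rw [ςς_eq h s (mem_top cyc) (by decide +kernel), ← map_inv, ← map_mul, ← map_mul] at k
      obtain ⟨c, -, k⟩ := lift h s (by
        show (x.1 * σ cyc * x.1⁻¹) ^ 3 = 1
        rw [conj_pow, ← h.σ_pow (mem_top _), show cyc ^ 3 = 1 by decide +kernel, h.σ_one, mul_one, mul_inv_cancel]) k
      exact h.nτ (c * x) _ (by rw [← k]; simp [mul_assoc])

end Cfsg.Agent.O83
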