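import Cfsg.Agent.O83.Defs
import Cfsg.Agent.L43.Red
import Cfsg.Statements.S3372

set_option autoImplicit false

/-! Project O83: reduction of the hypotheses of the statement to `Hy`. -/

namespace Cfsg.Agent.O83

open Subgroup Module

open Cfsg

namespace RedAux

open L43.RedAux (x0 y0 gen tv3)

/-- the Weyl element -/
def w0 : S2 := ⟨!![0, 1; 2, 0], by decide⟩

set_option synthInstance.maxSize 4096 in
set_option maxRecDepth 100000 in
theorem bruhat : ∀ k : S2, ∃ i l : Fin 3, ∃ j : Fin 4, k = x0 ^ i.1 * w0 ^ j.1 * x0 ^ l.1 := by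
  decide +kernel

variable {V : Type*} [AddCommGroup V] [Module F V]

/-- a faithful simple module of `SL₂(3)` over `𝔽₃` has dimension at most three -/
theorem small (ρ : Representation F S2 V) (neg : ∀ v, ρ (-1) v = -v)
    (min : ∀ B : Submodule F V, (∀ s, ∀ b ∈ B, ρ s b ∈ B) → B = ⊥ ∨ B = ⊤) : finrank F V ≤ 3 := by
  rcases subsingleton_or_nontrivial V with h | h
  · rw [finrank_zero_of_subsingleton]; omega
  have m : ∀ s t v, ρ s (ρ t v) = ρ (s * t) v := fun s t v => by rw [map_mul, End.mul_apply]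
  have three : ∀ v : V, v + v + v = 0 := fun v => by
    rw [← one_smul F v, ← add_smul, ← add_smul, show (1 + 1 + 1 : F) = 0 from rfl, zero_smul]
  obtain ⟨a, a0, ha⟩ : ∃ a, a ≠ 0 ∧ ρ x0 a = a := by
    have c := L43.cube (ρ x0) (by rw [← map_mul, ← map_mul, show x0 * x0 * x0 = 1 by decide, map_one])
    by_contra! hc
    have inj : ∀ v, (ρ x0 - 1) v = 0 → v = 0 := fun v hv => by
      by_contra h0
      exact hc v h0 (sub_eq_zero.1 hv)
    obtain ⟨v, hv⟩ := exists_ne (0 : V)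
    exact hv (inj _ (inj _ (inj _ (LinearMap.congr_fun c v))))
  have e3 : ∀ v, ρ x0 (ρ x0 (ρ x0 v)) = v := fun v => by
    rw [m, m, show x0 * x0 * x0 = 1 by decide, map_one, End.one_apply]
  have ww : ∀ v, ρ w0 (ρ w0 v) = -v := fun v => by rw [m, show w0 * w0 = -1 by decide, neg]
  have w1 : ∀ v, ρ x0 v = v → ρ w0 (ρ x0 (ρ w0 v)) = -ρ x0 (ρ x0 (ρ w0 v)) := fun v hv => by
    conv_rhs => rw [← hv, ← hv, ← neg]
    simp only [m]
    exact congrArg (fun s => ρ s v) (by decide)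
  have w2 : ∀ v, ρ x0 v = v → ρ w0 (ρ x0 (ρ x0 (ρ w0 v))) = ρ x0 (ρ w0 v) := fun v hv => by
    conv_rhs => rw [← hv]
    simp only [m]
    exact congrArg (fun s => ρ s v) (by decide)
  obtain ⟨b, b0, hb, hT⟩ : ∃ b, b ≠ 0 ∧ ρ x0 b = b ∧ ρ x0 (ρ x0 (ρ w0 b)) = -ρ w0 b - ρ x0 (ρ w0 b) := by
    by_cases hT : ρ w0 a + ρ x0 (ρ w0 a) + ρ x0 (ρ x0 (ρ w0 a)) = 0
    · exact ⟨a, a0, ha, by rw [← sub_eq_zero, ← hT]; abel⟩
    · refine ⟨_, hT, by simp only [map_add, e3]; abel, ?_⟩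
      simp only [map_add, ww, w1 a ha, w2 a ha, map_neg, ha, e3]
      rw [← sub_eq_zero, ← neg_eq_zero, ← three a]
      abel
  let f : Fin 3 → V := ![b, ρ w0 b, ρ x0 (ρ w0 b)]
  have f0 : b ∈ Submodule.span F (Set.range f) := Submodule.subset_span ⟨0, rfl⟩
  have f1 : ρ w0 b ∈ Submodule.span F (Set.range f) := Submodule.subset_span ⟨1, rfl⟩
  have f2 : ρ x0 (ρ w0 b) ∈ Submodule.span F (Set.range f) := Submodule.subset_span ⟨2, rfl⟩
  have st : ∀ s, (∀ i, ρ s (f i) ∈ Submodule.span F (Set.range f)) →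
      ∀ n : ℕ, ∀ v ∈ Submodule.span F (Set.range f), ρ (s ^ n) v ∈ Submodule.span F (Set.range f) := by
    intro s hs n
    induction n with
    | zero => intro v hv; simpa using hv
    | succ n ih =>
      intro v hv
      rw [pow_succ', ← m]
      exact (Submodule.span_le (p := (Submodule.span F (Set.range f)).comap (ρ s))).2
        (by rintro _ ⟨i, rfl⟩; exact hs i) (ih v hv)
  have sx := st x0 fun i => by
    fin_cases i
    · exact hb.symm ▸ f0
    · exact f2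
    · show ρ x0 (ρ x0 (ρ w0 b)) ∈ _
      rw [hT]; exact sub_mem (neg_mem f1) f2
  have sw := st w0 fun i => by
    fin_cases i
    · exact f1
    · show ρ w0 (ρ w0 b) ∈ _
      rw [ww]; exact neg_mem f0
    · show ρ w0 (ρ x0 (ρ w0 b)) ∈ _
      rw [w1 b hb, hT]; exact neg_mem (sub_mem (neg_mem f1) f2)
  rcases min (Submodule.span F (Set.range f)) (fun s v hv => by
    obtain ⟨i, l, j, rfl⟩ := bruhat s
    rw [← m, ← m]
    exact sx _ _ (sw _ _ (sx _ _ hv))) with e | e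
  · rw [e] at f0; exact absurd f0 b0
  · have := finrank_range_le_card (R := F) f
    rw [Set.finrank, e, finrank_top] at this
    simpa using this

/-- one noncentral chief factor -/
theorem one_fac (ρ : Representation F S2 V) (h4 : finrank F V = 4) {r : ℕ}
    (W : Fin (r + 1) → Submodule F V) (W0 : W 0 = ⊥) (Wl : W (Fin.last r) = ⊤)
    (mono : ∀ i : Fin r, W i.castSucc < W i.succ) (inv : ∀ i s, ∀ a ∈ W i, ρ s a ∈ W i)
    (max : ∀ (i : Fin r) B, W i.castSucc < B → B < W i.succ → ∃ s, ∃ b ∈ B, ρ s b ∉ B)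
    {i0 : Fin r} (cen : ∀ i, i ≠ i0 → ∀ s, ∀ a ∈ W i.succ, ρ s a - a ∈ W i.castSucc)
    (ne : ∃ v, ρ (-1) v ≠ v) :
    (∃ v, v ≠ 0 ∧ ρ (-1) v = v) ∧ ∀ s, s * s = -1 → ∀ v, ρ (-1) v = v → ρ s v = v := by
  have m : ∀ s t v, ρ s (ρ t v) = ρ (s * t) v := fun s t v => by rw [map_mul, End.mul_apply]
  have cc : ∀ v, ρ (-1) (ρ (-1) v) = v := fun v => by
    rw [m, neg_mul_neg, one_mul, map_one, End.one_apply]
  have cs : ∀ s v, ρ (-1) (ρ s v) = ρ s (ρ (-1) v) := fun s v => by rw [m, m, neg_one_mul, mul_neg_one]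
  have hB : ∀ a ∈ W i0.succ, ρ (-1) a - a ∈ W i0.castSucc → a ∈ W i0.castSucc := by
    let B := W i0.succ ⊓ (W i0.castSucc).comap (ρ (-1) - 1)
    have mB : ∀ a, a ∈ B ↔ a ∈ W i0.succ ∧ ρ (-1) a - a ∈ W i0.castSucc := fun a => Iff.rfl
    have l1 : W i0.castSucc ≤ B := fun a ha => (mB a).2 ⟨(mono i0).le ha, sub_mem (inv _ _ a ha) ha⟩
    intro a ha hc
    by_contra hn
    have e : B = W i0.succ := by
      by_contra e
      obtain ⟨s, b, hb, hs⟩ := max i0 B (lt_of_le_of_ne l1 fun k => hn (k.ge ((mB a).2 ⟨ha, hc⟩)))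
        (lt_of_le_of_ne inf_le_left e)
      exact hs ((mB _).2 ⟨inv _ _ b hb.1, by rw [cs, ← map_sub]; exact inv _ _ _ ((mB b).1 hb).2⟩)
    have all : ∀ i : Fin (r + 1), ∀ a ∈ W i, ρ (-1) a = a := fun i => by
      induction i using Fin.induction with
      | zero => intro a ha; rw [W0, Submodule.mem_bot] at ha; rw [ha, map_zero]
      | succ i ih =>
        intro a ha
        have d : ρ (-1) a - a ∈ W i.castSucc := by
          by_cases k : i = i0
          · exact k ▸ ((mB a).1 (e.ge (k ▸ ha))).2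
          · exact cen i k _ a ha
        have := ih _ d
        rw [map_sub, cc] at this
        exact sub_eq_zero.1 (L43.eq_zero_of_neg (by rw [neg_sub, this]))
    obtain ⟨v, hv⟩ := ne
    exact hv (all (Fin.last r) v (Wl.ge Submodule.mem_top))
  refine ⟨?_, fun s hs v hv => ?_⟩
  · by_cases k : ∃ i, i ≠ i0
    · obtain ⟨i, hi⟩ := k
      obtain ⟨a, ha, hn⟩ := SetLike.exists_of_lt (mono i)
      refine ⟨a + ρ (-1) a, fun e => hn ?_, by rw [map_add, cc, add_comm]⟩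
      have d := cen i hi (-1) a ha
      rw [eq_neg_of_add_eq_zero_right e] at d
      have : a = -a - a := by
        rw [← sub_eq_zero, ← one_smul F a, ← neg_smul, ← sub_smul, ← sub_smul,
          show (1 - (-1 - 1) : F) = 0 from rfl, zero_smul]
      rwa [← this] at d
    · push Not at k
      have h0 : i0.castSucc = 0 := by rw [← k ⟨0, i0.pos⟩]; rfl
      have hl : i0.succ = Fin.last r := by
        rw [← k ⟨r - 1, Nat.sub_lt i0.pos one_pos⟩]
        exact Fin.ext (Nat.sub_add_cancel i0.pos)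
      by_contra! hc
      have := small ρ (fun v => eq_neg_of_add_eq_zero_right (by
        by_contra h
        exact hc _ h (by rw [map_add, cc, add_comm]))) fun B hB => by
          by_contra! hn
          obtain ⟨s, b, hb, hs⟩ := max i0 B (by rw [h0, W0]; exact bot_lt_iff_ne_bot.2 hn.1)
            (by rw [hl, Wl]; exact lt_top_iff_ne_top.2 hn.2)
          exact hs (hB s b hb)
      omega
  · have all : ∀ i : Fin (r + 1), ∀ a ∈ W i, ρ (-1) a = a → ρ s a = a := fun i => by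
      induction i using Fin.induction with
      | zero => intro a ha _; rw [W0, Submodule.mem_bot] at ha; rw [ha, map_zero]
      | succ i ih =>
        intro a ha hc
        by_cases k : i = i0
        · subst k; exact ih a (hB a ha (by rw [hc, sub_self]; exact zero_mem _)) hc
        have := ih _ (cen i k s a ha) (by rw [map_sub, cs, hc])
        rw [map_sub, m, hs, hc] at this
        exact sub_eq_zero.1 (L43.eq_zero_of_neg (by rw [neg_sub, this]))
    exact all (Fin.last r) v (Wl.ge Submodule.mem_top) hv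

universe u

theorem exists_rep {G : Type u} [Group G] [Finite G] {z : G} {C Q : Subgroup G} {π : C →* S2}
    (memC : ∀ g ∈ C, g * z = z * g) (oz : orderOf z = 3) (zQ : z ∈ Q) (QC : Q ≤ C)
    (exp : ∀ a ∈ Q, a ^ 3 = 1) (card : Nat.card Q = 243)
    (comm : ∀ a ∈ Q, ∀ b ∈ Q, a * b * a⁻¹ * b⁻¹ ∈ zpowers z) (sur : Function.Surjective π)
    (ker : ∀ c, π c = 1 ↔ c.1 ∈ Q) : ∃ (V : Type u) (_ : AddCommGroup V) (_ : Module F V)
      (_ : FiniteDimensional F V) (p : Q →* Multiplicative V) (ρ : Representation F S2 V),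
      finrank F V = 4 ∧ Function.Surjective p ∧ (∀ a, p a = 1 ↔ a.1 ∈ zpowers z) ∧
      ∀ (c : C) (a b : Q), b.1 = c.1 * a.1 * c.1⁻¹ → ρ (π c) (p a).toAdd = (p b).toAdd := by
  have : Fact (Nat.Prime 3) := ⟨Nat.prime_three⟩
  have mz : ∀ a : Q, a ∈ zpowers (⟨z, zQ⟩ : Q) ↔ a.1 ∈ zpowers z := fun a => by
    simp only [mem_zpowers_iff, Subtype.ext_iff, coe_zpow]
  obtain ⟨V, _, _, D, -, h2⟩ := H3.exists_esData (p := 3) (⟨z, zQ⟩ : Q)
    (mem_center_iff.2 fun a => Subtype.ext (memC _ (QC a.2))) (by rw [orderOf_mk, oz])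
    (by rw [commutator_def, commutator_le]; exact fun a _ b _ => (mz _).2 (comm a a.2 b b.2))
    fun a => (mz _).2 (by rw [coe_pow, exp a a.2]; exact one_mem _)
  have := D.finite_V
  have key : ∀ c : C, ∀ a ∈ Q, c.1 * a * c.1⁻¹ ∈ Q := fun c a ha =>
    (ker (c * ⟨a, QC ha⟩ * c⁻¹)).1 (by
      rw [map_mul, map_mul, (ker ⟨a, QC ha⟩).2 ha, map_inv, mul_one, mul_inv_cancel])
  have ex : ∀ c : C, ∃ R : End F V, ∀ a : Q, R (D.π a) = D.π ⟨_, key c a a.2⟩ := fun c => by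
    let f : Q →* Multiplicative V := D.πHom.comp (MonoidHom.mk' (fun a => ⟨_, key c a a.2⟩)
      fun a b => Subtype.ext (by simp [mul_assoc]))
    let f' := D.πHom.liftOfRightInverse _ (Function.rightInverse_surjInv D.πHom_surjective)
      ⟨f, fun a ha => by
        obtain ⟨n, hn⟩ := mem_zpowers_iff.1 ((mz a).1 ((h2 a).1 ha))
        exact (h2 _).2 ((mz _).2 (by
          change c.1 * a * c.1⁻¹ ∈ _
          rw [← hn, ← conj_zpow, memC _ c.2, mul_inv_cancel_right]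
          exact zpow_mem (mem_zpowers z) n))⟩
    let f'' : V →+ V := MonoidHom.toAdditive f'
    exact ⟨f''.toZModLinearMap 3, fun a =>
      congrArg Multiplicative.toAdd (D.πHom.liftOfRightInverse_comp_apply _ _ _ a)⟩
  choose R hR using ex
  have ext : ∀ {S T : End F V}, (∀ a, S (D.π a) = T (D.π a)) → S = T := fun h =>
    LinearMap.ext fun v => by obtain ⟨a, rfl⟩ := D.π_surj v; exact h a
  have R1 : ∀ c c', R (c * c') = R c * R c' := fun c c' => ext fun a => by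
    rw [End.mul_apply, hR, hR, hR]
    exact congrArg D.π (Subtype.ext (by simp [mul_assoc]))
  have R2 : ∀ c, π c = 1 → R c = 1 := fun c hc => ext fun a => by
    have hz := comm _ ((ker c).1 hc) _ a.2
    have := D.π_mul ⟨_, zpowers_le.2 zQ hz⟩ a
    rw [(h2 ⟨_, zpowers_le.2 zQ hz⟩).2 ((mz _).2 hz), zero_add] at this
    rw [hR, End.one_apply, ← this]
    exact congrArg D.π (Subtype.ext (by simp))
  have R3 : ∀ c c', π c = π c' → R c = R c' := fun c c' h => by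
    rw [← mul_inv_cancel_left c' c, R1, R2 (c'⁻¹ * c) (by rw [map_mul, map_inv, h, inv_mul_cancel]),
      mul_one]
  choose l hl using sur
  refine ⟨V, _, _, inferInstance, D.πHom, ⟨⟨fun s => R (l s), R2 _ (hl 1)⟩, fun s t => by
    rw [← R1]; exact R3 _ _ (by rw [map_mul, hl, hl, hl])⟩, ?_, D.πHom_surjective,
    fun a => (h2 a).trans (mz a), fun c a b e => ?_⟩
  · have e := D.card_eq
    rw [card, Module.natCard_eq_pow_finrank (K := F), Nat.card_zmod] at e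
    exact Nat.pow_right_injective (by decide : 2 ≤ 3) (show 3 ^ _ = 3 ^ 4 by omega)
  · change R (l (π c)) (D.π a) = D.π b
    rw [R3 _ c (hl _), hR]
    exact congrArg D.π (Subtype.ext e.symm)

theorem mem_res {X : Type*} [Group X] (ι : X →* S2 × M2) (inj : Function.Injective ι)
    (sur : ∀ A, ∃ x, ι x = (A, 1)) (x : X) : x ∈ pResidual 2 X ↔ (ι x).2 = 1 := by
  have : Fact (Nat.Prime 2) := ⟨Nat.prime_two⟩
  refine ⟨fun h => H3.pResidual_le_ker (p := 2) ((MonoidHom.snd S2 M2).comp ι)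
    (IsPGroup.of_card (n := 1) (by simp)) h, fun h => ?_⟩
  have top : ((pResidual 2 X).map ι).comap (MonoidHom.inl S2 M2) = ⊤ :=
    H9.sl_subgroup_eq_top_of_transvection _ fun i j hij t => by
      obtain ⟨y, hy⟩ := sur (Matrix.SpecialLinearGroup.transvection hij t)
      refine ⟨y, H3.mem_pResidual_of_coprime (Nat.Coprime.coprime_dvd_left
        (orderOf_dvd_of_pow_eq_one (n := 3) (inj ?_)) (by decide)), hy⟩
      rw [map_pow, hy, map_one, Prod.pow_mk, tv3, one_pow]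
      rfl
  obtain ⟨y, hy, e⟩ := top.ge (mem_top (ι x).1)
  rwa [← inj (e.trans (Prod.ext rfl h.symm))]

end RedAux

open RedAux

/-- notes/O83.md, section Red -/
theorem red {G : Type*} [Group G] [Finite G]
    (S : Sylow 3 G) (Z : Subgroup G) (hZ : Z = (S : Subgroup G) ⊓ Subgroup.centralizer ((S : Subgroup G) : Set G))
    (C : Subgroup G) (hCZ : C = Subgroup.centralizer (Z : Set G))
    (Q : Subgroup G) (hQ : Q = (Cfsg.pCore 3 C).map C.subtype)
    (hQex : Cfsg.IsExtraspecial 3 Q) (hQcard : Nat.card Q = 3 ^ 5) (hQexp : ∀ a ∈ Q, a ^ 3 = 1)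
    (hCQ : Subgroup.centralizer (Q : Set G) ≤ Q)
    (hZQ : ∃ x : G, Z.map (MulAut.conj x).toMonoidHom ≤ Q ∧ Z.map (MulAut.conj x).toMonoidHom ≠ Z)
    (K : Subgroup G) (hK : K = ((Cfsg.pResidual 2 (C ⧸ Cfsg.pCore 3 C)).comap (QuotientGroup.mk' (Cfsg.pCore 3 C))).map C.subtype)
    (r : ℕ) (A : Fin (r + 1) → Subgroup G) (hA0 : A 0 = Z) (hAr : A (Fin.last r) = Q)
    (hmono : ∀ i : Fin r, A i.castSucc < A i.succ)
    (hinv : ∀ i : Fin (r + 1), ∀ k ∈ K, ∀ a ∈ A i, k * a * k⁻¹ ∈ A i)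
    (hmax : ∀ i : Fin r, ∀ B : Subgroup G, A i.castSucc < B → B < A i.succ → ∃ k ∈ K, ∃ b ∈ B, k * b * k⁻¹ ∉ B)
    (e : Nonempty (C ⧸ Cfsg.pCore 3 C ≃* Matrix.SpecialLinearGroup (Fin 2) (ZMod 3)) ∨
      Nonempty (C ⧸ Cfsg.pCore 3 C ≃* Matrix.SpecialLinearGroup (Fin 2) (ZMod 3) × Multiplicative (ZMod 2)))
    (hone : ∃! i : Fin r, (∃ k ∈ K, ∃ a ∈ A i.succ, k * a * k⁻¹ * a⁻¹ ∉ A i.castSucc)) :
    ∃ (z : G) (π : C →* S2 × M2), Hy z C Q π ∧ ∃ g : G, g * z * g⁻¹ ∈ Q ∧ g * z * g⁻¹ ∉ zpowers z := by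
  have _ := hZ
  have mono : Monotone A := (Fin.strictMono_iff_lt_succ.2 hmono).monotone
  have ZA : ∀ i, Z ≤ A i := fun i => hA0 ▸ mono (Fin.zero_le i)
  have AQ : ∀ i, A i ≤ Q := fun i => hAr ▸ mono (Fin.le_last i)
  have ZQ : Z ≤ Q := (ZA 0).trans (AQ 0)
  have QC : Q ≤ C := hQ ▸ map_subtype_le _
  obtain ⟨x, x1, x2⟩ := hZQ
  obtain ⟨⟨z, zZ⟩, z1⟩ := ne_bot_iff_exists_ne_one.1 fun h : Z = ⊥ => x2 (by rw [h, Subgroup.map_bot])
  have : Fact (Nat.Prime 3) := ⟨Nat.prime_three⟩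
  have oz : orderOf z = 3 := orderOf_eq_prime (hQexp z (ZQ zZ)) fun h => z1 (Subtype.ext h)
  have Zc : Z.subgroupOf Q ≤ center Q := fun a ha =>
    mem_center_iff.2 fun b => Subtype.ext ((hCZ ▸ QC b.2 : b.1 ∈ centralizer (Z : Set G)) _ ha).symm
  have cz : (zpowers z).subgroupOf Q = center Q :=
    eq_of_le_of_card_ge ((comap_mono (zpowers_le.2 zZ)).trans Zc) (by
      rw [hQex.2, Nat.card_congr (subgroupOfEquivOfLe (zpowers_le.2 (ZQ zZ))).toEquiv,
        Nat.card_zpowers, oz])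
  obtain rfl : zpowers z = Z := le_antisymm (zpowers_le.2 zZ) fun a ha => cz.ge (Zc (x := ⟨a, ZQ ha⟩) ha)
  have memC : ∀ g, g ∈ C ↔ g * z = z * g := fun g => by
    rw [hCZ, zpowers_eq_closure, centralizer_closure, mem_centralizer_singleton_iff]
  have comm : ∀ a ∈ Q, ∀ b ∈ Q, a * b * a⁻¹ * b⁻¹ ∈ zpowers z := fun a ha b hb =>
    cz.ge (hQex.1.2.2.le (commutator_mem_commutator (mem_top (⟨a, ha⟩ : Q)) (mem_top ⟨b, hb⟩)))
  obtain ⟨ι, inj, sι⟩ : ∃ ι : C ⧸ pCore 3 C →* S2 × M2, Function.Injective ι ∧ ∀ B, ∃ x, ι x = (B, 1) := by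
    rcases e with ⟨⟨e⟩⟩ | ⟨⟨e⟩⟩
    · exact ⟨(MonoidHom.inl S2 M2).comp e.toMonoidHom, fun a b h => e.injective (congrArg Prod.fst h),
        fun B => ⟨e.symm B, Prod.ext (e.apply_symm_apply B) rfl⟩⟩
    · exact ⟨e.toMonoidHom, e.injective, fun B => e.surjective _⟩
  let π : C →* S2 × M2 := ι.comp (QuotientGroup.mk' _)
  have sur : ∀ B, ∃ c, π c = (B, 1) := fun B => by
    obtain ⟨x, hx⟩ := sι B
    obtain ⟨c, rfl⟩ := QuotientGroup.mk'_surjective _ x
    exact ⟨c, hx⟩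
  have ker : ∀ c, π c = 1 ↔ c.1 ∈ Q := fun c => by
    rw [hQ, ← mem_subgroupOf, subgroupOf, comap_map_eq_self_of_injective C.subtype_injective,
      ← QuotientGroup.eq_one_iff]
    exact map_eq_one_iff _ inj
  have KC : K ≤ C := hK ▸ map_subtype_le _
  have mK : ∀ c : C, c.1 ∈ K ↔ (π c).2 = 1 := fun c => by
    rw [hK, ← mem_subgroupOf, subgroupOf, comap_map_eq_self_of_injective C.subtype_injective]
    exact mem_res ι inj sι _
  have cen : ∀ g, (∀ a ∈ Q, g * a = a * g) → g ∈ zpowers z := fun g hg =>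
    cz.ge (x := ⟨g, hCQ fun a ha => (hg a ha).symm⟩) (mem_center_iff.2 fun a => Subtype.ext (hg a a.2).symm)
  let π' : K →* S2 := (MonoidHom.fst S2 M2).comp (π.comp (inclusion KC))
  have e' : ∀ k : K, π ⟨k.1, KC k.2⟩ = (π' k, 1) := fun k => Prod.ext rfl ((mK ⟨k.1, KC k.2⟩).1 k.2)
  have sur' : Function.Surjective π' := fun B => by
    obtain ⟨c, hc⟩ := sur B
    exact ⟨⟨c.1, (mK c).2 (by rw [hc])⟩, congrArg Prod.fst hc⟩
  have ker' : ∀ k, π' k = 1 ↔ k.1 ∈ Q := fun k => by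
    rw [← ker ⟨k.1, KC k.2⟩, e', Prod.mk_eq_one, and_iff_left rfl]
  have QK : Q ≤ K := fun a ha => (mK ⟨a, QC ha⟩).2 (by rw [(ker ⟨a, QC ha⟩).2 ha]; rfl)
  obtain ⟨V, _, _, _, p, ρ, h4, p1, p2, p3⟩ :=
    exists_rep (fun g hg => (memC g).1 (KC hg)) oz (ZQ zZ) QK hQexp hQcard comm sur' ker'
  have key : ∀ c : K, ∀ a : Q, c.1 * a * c.1⁻¹ ∈ Q := fun c a => hAr.le (hinv _ c c.2 a (hAr.ge a.2))
  let W : Subgroup G → Submodule F V := fun B =>
    AddSubgroup.toZModSubmodule 3 (Subgroup.toAddSubgroup' ((B.subgroupOf Q).map p))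
  have hW : ∀ i (a : Q), (p a).toAdd ∈ W (A i) ↔ a.1 ∈ A i := fun i a =>
    SetLike.ext_iff.1 (comap_map_eq_self (f := p) (H := (A i).subgroupOf Q)
      fun b hb => ZA i ((p2 b).1 hb)) a
  have sv : ∀ v : V, ∃ a, (p a).toAdd = v := p1
  have dl : ∀ (k : K) (a : Q), ρ (π' k) (p a).toAdd - (p a).toAdd = (p (⟨_, key k a⟩ * a⁻¹)).toAdd :=
    fun k a => by rw [map_mul, map_inv, toAdd_mul, toAdd_inv, ← sub_eq_add_neg, ← p3 k a ⟨_, key k a⟩ rfl]
  have fx : ∀ (k : K) (a : Q), ρ (π' k) (p a).toAdd = (p a).toAdd ↔ k.1 * a * k.1⁻¹ * (a.1)⁻¹ ∈ zpowers z :=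
    fun k a => by rw [← sub_eq_zero, dl, toAdd_eq_zero, p2]; rfl
  obtain ⟨i0, -, hi0⟩ := hone
  obtain ⟨⟨v, v0, hv⟩, L⟩ := one_fac ρ h4 (fun i => W (A i))
    ((Submodule.eq_bot_iff _).2 fun v hv => by
      obtain ⟨a, rfl⟩ := sv v
      rw [toAdd_eq_zero, p2, ← hA0]
      exact (hW _ a).1 hv)
    (Submodule.eq_top_iff'.2 fun v => by
      obtain ⟨a, rfl⟩ := sv v
      exact (hW _ a).2 (hAr.ge a.2))
    (fun i => lt_of_le_of_ne (fun v hv => by
      obtain ⟨a, rfl⟩ := sv v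
      exact (hW _ a).2 ((hmono i).le ((hW _ a).1 hv))) fun e => (hmono i).not_ge fun a ha =>
        (hW _ ⟨a, AQ _ ha⟩).1 (e.ge ((hW _ ⟨a, AQ _ ha⟩).2 ha)))
    (fun i s v hv => by
      obtain ⟨a, rfl⟩ := sv v
      obtain ⟨c, rfl⟩ := sur' s
      rw [p3 c a ⟨_, key c a⟩ rfl, hW]
      exact hinv i c c.2 a ((hW _ a).1 hv))
    (fun i B h1 h2 => by
      let B' := ((AddSubgroup.toSubgroup B.toAddSubgroup).comap p).map Q.subtype
      have hB : ∀ a : Q, a.1 ∈ B' ↔ (p a).toAdd ∈ B := fun a =>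
        ⟨fun ⟨b, hb, e⟩ => (show b = a from Subtype.ext e) ▸ hb, fun ha => ⟨a, ha, rfl⟩⟩
      obtain ⟨k, hk, _, ⟨b, hb, rfl⟩, h⟩ := hmax i B' (lt_of_le_of_ne
        (fun a ha => (hB ⟨a, AQ _ ha⟩).2 (h1.le ((hW _ _).2 ha))) fun e => h1.not_ge fun v hv => by
          obtain ⟨a, rfl⟩ := sv v
          exact (hW _ a).2 (e.ge ((hB a).2 hv)))
        (lt_of_le_of_ne (by rintro _ ⟨a, ha, rfl⟩; exact (hW _ a).1 (h2.le ha))
          fun e => h2.not_ge fun v hv => by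
            obtain ⟨a, rfl⟩ := sv v
            exact (hB a).1 (e.ge ((hW _ a).1 hv)))
      exact ⟨π' ⟨k, hk⟩, _, hb, fun c => h ((hB ⟨_, key ⟨k, hk⟩ b⟩).2 (by
        rwa [← p3 ⟨k, hk⟩ b _ rfl]))⟩) (i0 := i0)
    (fun i hi s v hv => by
      obtain ⟨a, rfl⟩ := sv v
      obtain ⟨k, rfl⟩ := sur' s
      rw [dl, hW]
      by_contra hn
      exact hi (hi0 i ⟨k.1, k.2, a.1, (hW _ a).1 hv, hn⟩))
    (by
      by_contra! hc
      obtain ⟨k, hk⟩ := sur' (-1)
      have h3 := (ker' (k ^ 3)).2 (ZQ (cen _ fun a ha => by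
        obtain ⟨n, hn⟩ := mem_zpowers_iff.1 ((fx k ⟨a, ha⟩).1 (by rw [hk, hc]))
        have e1 : k.1 * a = z ^ n * a * k.1 := by rw [hn]; group
        have e2 : Commute (z ^ n) k.1 := (Commute.symm ((memC _).1 (KC k.2))).zpow_left n
        have e4 : z ^ n * z ^ n * z ^ n = 1 := by
          rw [← pow_three', hQexp _ (zpow_mem (ZQ zZ) n)]
        have e5 : ∀ y, k.1 * (z ^ n * y) = z ^ n * (k.1 * y) := fun y => by
          rw [← mul_assoc, ← e2.eq, mul_assoc]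
        have e6 : ∀ y, k.1 * (a * y) = z ^ n * (a * (k.1 * y)) := fun y => by
          rw [← mul_assoc, e1, mul_assoc, mul_assoc]
        rw [coe_pow, pow_three, mul_assoc, mul_assoc, ← mul_one a, e6, e5, e6, e5, e5, e6, ← mul_assoc,
          ← mul_assoc, e4]
        simp only [one_mul, mul_one]))
      rw [map_pow, hk] at h3
      exact absurd h3 (by decide))
  refine ⟨z, π, ⟨memC, oz, ZQ zZ, QC, hQexp, hQcard, comm, cen, sur, ker, fun c hc => ?_,
    fun c c' hc hc' h2 a ha h => ?_⟩, x, x1 ⟨z, zZ, rfl⟩, fun h => x2 ?_⟩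
  · obtain ⟨a, rfl⟩ := sv v
    refine ⟨a.1, a.2, fun h => v0 (by rw [toAdd_eq_zero, p2]; exact h),
      (fx ⟨c.1, (mK c).2 (by rw [hc])⟩ a).1 ?_⟩
    rwa [show π' ⟨c.1, (mK c).2 (by rw [hc])⟩ = -1 from congrArg Prod.fst hc]
  · refine (fx ⟨c'.1, (mK c').2 h2⟩ ⟨a, ha⟩).1 (L _ (congrArg Prod.fst hc') _ ?_)
    rw [← show π' ⟨c.1, (mK c).2 (by rw [hc])⟩ = -1 from congrArg Prod.fst hc]
    exact (fx _ ⟨a, ha⟩).2 h
  · rw [MonoidHom.map_zpowers]
    exact eq_of_le_of_card_ge (zpowers_le.2 h) (by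
      rw [Nat.card_zpowers, Nat.card_zpowers]
      exact (orderOf_injective _ (MulAut.conj x).injective z).ge)

end Cfsg.Agent.O83
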