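import Cfsg.Agent.O83.Defs
import Cfsg.Agent.H42.Index2

/-! Strong closure of the extraspecial group (notes/O83.md, SC). -/

set_option autoImplicit false

namespace Cfsg.Agent.O83

open Subgroup
open Cfsg.Agent.H42 (cj mem_cj conj_mem_cj SylIn)

variable {G : Type*} [Group G] [Finite G] {t : G} {S S' : Subgroup G}

namespace SC

omit [Finite G] in
theorem card_comap (φ : G ≃* G) (X : Subgroup G) : Nat.card (X.comap φ.toMonoidHom) = Nat.card X := by
  rw [comap_equiv_eq_map_symm', card_map_of_injective φ.symm.injective]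

theorem UU_comap (h : Ok t S) (φ : G ≃* G) (ht : φ t = t) (u : G) :
    UU t (S.comap φ.toMonoidHom) u = (UU t S (φ u)).comap φ.toMonoidHom := by
  ext x
  by_cases hx : φ x ∈ S
  · have e := h.tc _ hx
    change _ ↔ φ x ∈ UU t S (φ u)
    rw [mem_UU h.t2 e, mem_UU h.t2 (φ.injective (by rw [map_mul, map_mul, ht, e])), ← φ.injective.eq_iff,
      ← φ.injective.eq_iff (a := x * u * x⁻¹)]
    simp only [map_mul, map_inv, ht]
    rfl
  · exact iff_of_false (fun k => hx k.1) fun k => hx k.1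

theorem ok_comap (h : Ok t S) (φ : G ≃* G) (ht : φ t = t) : Ok t (S.comap φ.toMonoidHom) := by
  have m : ∀ {x}, x ∈ S.comap φ.toMonoidHom ↔ φ x ∈ S := Iff.rfl
  have inj := φ.injective
  have bad : ∀ u, Bad t (S.comap φ.toMonoidHom) u → Bad t S (φ u) := by
    rintro u ⟨h1, h2, h3, h4⟩
    refine ⟨H42.mem_normalizer_of_conj_mem fun x hx => ?_, h2, ?_, ?_⟩
    · obtain ⟨y, rfl⟩ := φ.surjective x
      simpa only [m, map_mul, map_inv] using H42.conj_mem_of_mem_normalizer h1 (m.2 hx)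
    · rw [← map_mul]
      rcases h3 with e | e <;> rw [e]
      exacts [Or.inl (map_one φ), Or.inr ht]
    · simpa only [map_mul, ht, MulEquiv.coe_toMonoidHom] using φ.toMonoidHom.map_isConj h4
  have tc : ∀ u, TC t S (φ u) → TC t (S.comap φ.toMonoidHom) u := by
    rintro u ⟨h1, h2, h3, x, hx, h4⟩
    rw [TC, UU_comap h φ ht, card_comap]
    refine ⟨inj (by rw [map_mul, h1, map_one]), h2, fun y hy => ?_, ?_⟩
    · obtain ⟨ρ, hρ, e⟩ := h3 _ hy
      obtain ⟨ρ, rfl⟩ := φ.surjective ρ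
      refine ⟨ρ, hρ, e.imp (fun e => inj ?_) fun e => inj ?_⟩ <;>
        simpa only [map_mul, map_inv, ht, MulEquiv.coe_toMonoidHom] using e
    · obtain ⟨x, rfl⟩ := φ.surjective x
      exact ⟨x, hx, fun e => h4 (by rw [← map_mul, e, map_one])⟩
  have ts : ∀ u, TS t S (φ u) → TS t (S.comap φ.toMonoidHom) u := by
    rintro u ⟨h1, h2, x, hx, h3⟩
    rw [TS, UU_comap h φ ht, card_comap]
    refine ⟨h1, fun ρ hρ => inj ?_, ?_⟩
    · simpa only [map_mul, map_inv, map_one] using h2 _ (m.1 hρ)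
    · obtain ⟨x, rfl⟩ := φ.surjective x
      exact ⟨x, hx, fun e => h3 (by rw [← map_mul, e, map_mul])⟩
  refine ⟨h.t2, h.t1, m.2 (ht.symm ▸ h.tS), fun x hx => inj (by rw [map_mul, map_mul, ht, h.tc _ (m.1 hx)]),
    by rw [card_comap, h.card], fun x hx => (h.sq _ hx).imp (fun e => inj ?_) fun e => inj ?_,
    fun x hx y hy => (h.cm _ hx _ hy).imp (fun e => inj ?_) fun e => inj ?_,
    fun x hx hc => (h.cen _ (m.1 hx) fun y hy => ?_).imp (fun e => inj ?_) fun e => inj ?_,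
    fun u hu => (h.h1 _ (bad u hu)).imp (tc u) (ts u), fun u v hu hv huv => ?_⟩
  iterate 4 simpa only [map_mul, map_one, ht, MulEquiv.coe_toMonoidHom] using e
  · obtain ⟨y, rfl⟩ := φ.surjective y
    rw [← map_mul, hc y hy, map_mul]
  · rw [e, map_one]
  · rw [e, ht]
  · have := h.h2 _ _ (bad u hu) (bad v hv) (by rw [← map_mul]; exact bad _ huv)
    rw [← map_mul] at this
    rcases this with k | k | k
    exacts [.inl ⟨ts _ k.1, tc _ k.2.1, tc _ k.2.2⟩, .inr (.inl ⟨tc _ k.1, ts _ k.2.1, tc _ k.2.2⟩),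
      .inr (.inr ⟨tc _ k.1, tc _ k.2.1, ts _ k.2.2⟩)]

theorem ok_cj (h : Ok t S) {g : G} (hg : g * t = t * g) : Ok t (cj g S) := by
  have := ok_comap h (MulAut.conj g⁻¹) (by
    rw [MulAut.conj_apply, inv_inv, mul_assoc, ← hg, inv_mul_cancel_left])
  convert this using 1
  ext x
  rw [mem_cj, mem_comap]; simp

omit [Finite G] in
theorem two (h : Ok t S) : IsPGroup 2 S := IsPGroup.of_card (n := 9) h.card

omit [Finite G] in
theorem pm (h : Ok t S) {x y : G} (hx : x ∈ S) (hy : y ∈ S) : x * y * x⁻¹ = y ∨ x * y * x⁻¹ = y * t := by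
  rcases h.cm x hx y hy with e | e <;> rw [e]
  · left; group
  · right; rw [mul_assoc y, h.tc x hx]; group

theorem norm_of (h : Ok t S) {A : Subgroup G} (hA : A ≤ S) (tA : t ∈ A) : S ≤ normalizer (A : Set G) :=
  fun x hx => H42.mem_normalizer_of_conj_mem fun y hy => by
    rcases pm h hx (hA hy) with e | e <;> rw [e]
    exacts [hy, mul_mem hy tA]

omit [Finite G] in
theorem bad (h : Ok t S) (h' : Ok t S') {u : G} (hu : u ∈ S') (hn : u ∈ normalizer (S : Set G)) (nu : u ∉ S) :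
    Bad t S u := by
  refine ⟨hn, nu, h'.sq u hu, ?_⟩
  by_contra k
  rcases h'.cen u hu fun y hy => (pm h' hy hu).elim (fun e => (mul_inv_eq_iff_eq_mul.1 e).symm)
    fun e => absurd (isConj_iff.2 ⟨y, e⟩) k with e | e <;> rw [e] at nu
  exacts [nu (one_mem _), nu h.tS]

theorem UU_mul (h : Ok t S) {u w : G} (ut : u * t = t * u) (hw : w ∈ S) : UU t S (w * u) = UU t S u := by
  have key : ∀ {u w : G}, u * t = t * u → w ∈ S → UU t S u ≤ UU t S (w * u) := fun {u w} ut hw x hx => by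
    have xt := h.tc x hx.1
    rw [mem_UU h.t2 xt] at hx ⊢
    refine ⟨hx.1, ?_⟩
    rw [← conj_mul]
    rcases pm h hx.1 hw with e | e <;> rcases hx.2 with e' | e' <;> rw [e, e']
    · exact Or.inl rfl
    · exact Or.inr (mul_assoc _ _ _).symm
    · right; rw [mul_assoc, ← ut, mul_assoc]
    · left; rw [ut, mul_assoc, ← mul_assoc t, h.t2, one_mul]
  refine le_antisymm ?_ (key ut hw)
  simpa using key (u := w * u) (Commute.mul_left (h.tc w hw) ut).eq (inv_mem hw)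

omit [Finite G] in
theorem exists_pair {A B : Subgroup G} (h1 : ¬ A ≤ B) (h2 : B.relIndex A ≠ 2) :
    ∃ b ∈ A, ∃ c ∈ A, b ∉ B ∧ c ∉ B ∧ b * c ∉ B := by
  obtain ⟨a, ha, na⟩ := SetLike.not_le_iff_exists.1 h1
  by_contra! k
  refine h2 (relIndex_eq_two_iff.2 ⟨a, ha, fun b hb => ?_⟩)
  by_cases m : b ∈ B
  · exact Or.inr ⟨m, fun e => na ((mul_mem_cancel_left m).1 e)⟩
  · exact Or.inl ⟨k b hb a ha m na, m⟩

omit [Finite G] in
theorem excl {u : G} (h1 : TS t S u) (h2 : TC t S u) : False := by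
  have := h1.1
  rw [h2.2.1] at this
  omega

/-- a subgroup of `S'` normalising `S` -/
theorem fano (h : Ok t S) (h' : Ok t S') {A : Subgroup G} (hA : A ≤ S') (hn : A ≤ normalizer (S : Set G)) :
    Nat.card A ≤ 2 * Nat.card ↥(A ⊓ S) ∨ (Nat.card A ≤ 4 * Nat.card ↥(A ⊓ S) ∧
      (∃ u ∈ A, u ∉ S ∧ TS t S u) ∧ ∃ u ∈ A, u ∉ S ∧ TC t S u) := by
  have bd : ∀ u ∈ A, u ∉ S → Bad t S u := fun u hu nu => bad h h' (hA hu) (hn hu) nu
  have line : ∀ b ∈ A, ∀ c ∈ A, b ∉ S → c ∉ S → b * c ∉ S →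
      (∃ u, (u = b ∨ u = c ∨ u = b * c) ∧ TS t S u) ∧ (∃ u, (u = b ∨ u = c) ∧ TC t S u) := fun b hb c hc x y z => by
    rcases h.h2 b c (bd b hb x) (bd c hc y) (bd _ (mul_mem hb hc) z) with k | k | k
    exacts [⟨⟨b, by simp, k.1⟩, c, by simp, k.2.1⟩, ⟨⟨c, by simp, k.2.1⟩, b, by simp, k.1⟩,
      ⟨⟨b * c, by simp, k.2.2⟩, b, by simp, k.1⟩]
  by_cases c1 : A ≤ S
  · left; rw [inf_eq_left.2 c1]; omega
  by_cases c2 : S.relIndex A = 2
  · left
    obtain ⟨a, ha, na⟩ := SetLike.not_le_iff_exists.1 c1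
    exact (H42.card_eq_two_mul_card_inf c2 le_rfl ha na).le
  right
  obtain ⟨b, hb, c, hc, x, y, z⟩ := exists_pair c1 c2
  obtain ⟨⟨p, hp, tp⟩, q, hq, tq⟩ := line b hb c hc x y z
  have pA : p ∈ A := by rcases hp with rfl | rfl | rfl; exacts [hb, hc, mul_mem hb hc]
  have pS : p ∉ S := by rcases hp with rfl | rfl | rfl; exacts [x, y, z]
  refine ⟨?_, ⟨p, pA, pS, tp⟩, q, by rcases hq with rfl | rfl; exacts [hb, hc],
    by rcases hq with rfl | rfl; exacts [x, y], tq⟩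
  have n1 : p ∈ normalizer ((A ⊓ S : Subgroup G) : Set G) := H42.mem_normalizer_of_conj_mem fun w hw =>
    mem_inf.2 ⟨mul_mem (mul_mem pA (mem_inf.1 hw).1) (inv_mem pA),
      H42.conj_mem_of_mem_normalizer (hn pA) (mem_inf.1 hw).2⟩
  have pp : p * p ∈ A ⊓ S := mem_inf.2 ⟨mul_mem pA pA, by
    rcases h'.sq p (hA pA) with e | e <;> rw [e]
    exacts [one_mem _, h.tS]⟩
  have c3 := H42.card_sup_zpowers n1 pp fun e => pS (mem_inf.1 e).2
  have le : A ⊓ S ⊔ zpowers p ≤ A := sup_le inf_le_left (zpowers_le.2 pA)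
  have c4 := H42.card_mul_relIndex le
  by_cases d1 : A ≤ A ⊓ S ⊔ zpowers p
  · have := card_le_of_le d1
    omega
  by_cases d2 : (A ⊓ S ⊔ zpowers p).relIndex A = 2
  · rw [d2] at c4; omega
  exfalso
  obtain ⟨b', hb', c', hc', x', y', z'⟩ := exists_pair d1 d2
  have nS : ∀ {w}, w ∈ A → w ∉ A ⊓ S ⊔ zpowers p → w ∉ S := fun hw k e => k (mem_sup_left (mem_inf.2 ⟨hw, e⟩))
  obtain ⟨⟨p', hp', tp'⟩, -⟩ := line b' hb' c' hc' (nS hb' x') (nS hc' y') (nS (mul_mem hb' hc') z')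
  have pA' : p' ∈ A := by rcases hp' with rfl | rfl | rfl; exacts [hb', hc', mul_mem hb' hc']
  have pS' : p' ∉ A ⊓ S ⊔ zpowers p := by rcases hp' with rfl | rfl | rfl; exacts [x', y', z']
  obtain ⟨-, r, rfl | rfl, tr⟩ := line p pA p' pA' pS (nS pA' pS') (nS (mul_mem pA pA') fun e =>
    pS' ((mul_mem_cancel_left (mem_sup_right (mem_zpowers p))).1 e))
  exacts [excl tp tr, excl tp' tr]

theorem wc (h : Ok t S) (h' : Ok t S') (hn : S' ≤ normalizer (S : Set G)) : S' = S := by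
  refine eq_of_le_of_card_ge ?_ (by rw [h.card, h'.card])
  by_contra k
  have le : ∀ u ∈ S', Nat.card ↥(S' ⊓ S) ≤ Nat.card (UU t S u) := fun u hu => card_le_of_le fun x hx =>
    (mem_UU h.t2 (h.tc x (mem_inf.1 hx).2)).2 ⟨(mem_inf.1 hx).2, pm h' (mem_inf.1 hx).1 hu⟩
  obtain ⟨u, hu, nu⟩ := SetLike.not_le_iff_exists.1 k
  rcases fano h h' le_rfl hn with e | ⟨e, -, v, hv, -, tv⟩
  · have := le u hu
    rw [h'.card] at e
    rcases h.h1 u (bad h h' hu (hn hu) nu) with c | c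
    · rw [c.2.1] at this; omega
    · rw [c.1] at this; omega
  · have := le v hv
    rw [h'.card] at e
    rw [tv.2.1] at this; omega

theorem norm_two (h : Ok t S) {T : Subgroup G} (hT : IsPGroup 2 T) (hS : S ≤ T)
    (hc : ∀ g ∈ T, g * t = t * g) : T ≤ normalizer (S : Set G) := by
  have : Fact (Nat.Prime 2) := ⟨Nat.prime_two⟩
  by_contra k
  obtain ⟨g, hg, ng⟩ := SetLike.exists_of_lt (H42.lt_inf_normalizer hT
    (inf_lt_left.2 k : T ⊓ normalizer (S : Set G) < T))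
  exact ng (mem_inf.2 ⟨(mem_inf.1 hg).1, H42.cj_eq_iff_mem_normalizer.1 (wc h (ok_cj h (hc g (mem_inf.1 hg).1))
    (H42.cj_le_iff.2 fun x hx => (mem_inf.1 (H42.conj_mem_of_mem_normalizer (mem_inf.1 hg).2
      (mem_inf.2 ⟨hS hx, le_normalizer hx⟩))).2))⟩)

theorem into (h : Ok t S) {E R : Subgroup G} (hS : S ≤ E) (hc : ∀ g ∈ E, g * t = t * g) (hR : IsPGroup 2 R)
    (hRE : R ≤ E) : ∃ c ∈ E, ∀ r ∈ R, c * r * c⁻¹ ∈ normalizer (S : Set G) := by
  have : Fact (Nat.Prime 2) := ⟨Nat.prime_two⟩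
  obtain ⟨T, hT, le⟩ := H42.exists_sylIn (two h) hS
  obtain ⟨c, hc', m⟩ := hT.exists_conj hR hRE
  exact ⟨c, hc', fun r hr => norm_two h hT.isP le (fun g hg => hc g (hT.le hg)) (m r hr)⟩

/-- no subgroup `U ≤ S'`, `U ≰ S` is normalised by `S` and `S'` -/
theorem conj_le (h : Ok t S) (h' : Ok t S') {U : Subgroup G} (hU : U ≤ S') (n1 : S ≤ normalizer (U : Set G))
    (n2 : S' ≤ normalizer (U : Set G)) : U ≤ S := by
  obtain ⟨c, hc, m⟩ := into h (E := normalizer (U : Set G) ⊓ centralizer {t})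
    (le_inf n1 fun x hx => mem_centralizer_singleton_iff.2 (h.tc x hx))
    (fun g hg => mem_centralizer_singleton_iff.1 (mem_inf.1 hg).2) (two h')
    (le_inf n2 fun x hx => mem_centralizer_singleton_iff.2 (h'.tc x hx))
  have e := wc h (ok_cj h' (mem_centralizer_singleton_iff.1 (mem_inf.1 hc).2)) (H42.cj_le_iff.2 m)
  rw [← e, ← H42.cj_eq_iff_mem_normalizer.2 (mem_inf.1 hc).1]
  exact H42.cj_mono c hU

omit [Finite G] in
theorem comm_of_pm {a b x : G} (ha : a * t = t * a) (hb : b * t = t * b)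
    (h1 : a * x * a⁻¹ = x ∨ a * x * a⁻¹ = x * t) (h2 : b * x * b⁻¹ = x ∨ b * x * b⁻¹ = x * t) :
    (b * a)⁻¹ * (a * b) * x = x * ((b * a)⁻¹ * (a * b)) := by
  have ca : a * t * a⁻¹ = t := by rw [ha, mul_inv_cancel_right]
  have cb : b * t * b⁻¹ = t := by rw [hb, mul_inv_cancel_right]
  have e : a * (b * x * b⁻¹) * a⁻¹ = b * (a * x * a⁻¹) * b⁻¹ := by
    rcases h1 with e1 | e1 <;> rcases h2 with e2 | e2 <;> rw [e1, e2] <;>
      simp only [← conj_mul, e1, e2, ca, cb]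
  calc _ = (b * a)⁻¹ * (a * (b * x * b⁻¹) * a⁻¹) * (a * b) := by group
    _ = _ := by rw [e]; group

omit [Finite G] in
theorem pm_inv (t2 : t * t = 1) {a x : G} (ha : a * t = t * a)
    (h1 : a * x * a⁻¹ = x ∨ a * x * a⁻¹ = x * t) : a⁻¹ * x * a⁻¹⁻¹ = x ∨ a⁻¹ * x * a⁻¹⁻¹ = x * t := by
  rcases h1 with e | e
  · left; conv_lhs => rw [← e]
    group
  · right
    have : x = a * x * a⁻¹ * t := by rw [e, mul_assoc, t2, mul_one]
    calc a⁻¹ * x * a⁻¹⁻¹ = a⁻¹ * (a * x * a⁻¹ * t) * a := by rw [← this, inv_inv]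
      _ = x * a⁻¹ * (t * a) := by group
      _ = x * t := by rw [← ha]; group

omit [Finite G] in
theorem pm_symm (t2 : t * t = 1) {a x : G} (ha : a * t = t * a) (hx : x * t = t * x)
    (h1 : a * x * a⁻¹ = x ∨ a * x * a⁻¹ = x * t) : x * a * x⁻¹ = a ∨ x * a * x⁻¹ = a * t := by
  rcases h1 with e | e <;> rw [mul_inv_eq_iff_eq_mul] at e
  · left; rw [← e]; group
  · right
    have : x * a = a * x * t := by rw [e, mul_assoc, mul_assoc, ha, ← mul_assoc t, t2, one_mul]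
    rw [this, mul_assoc a, hx]; group

theorem cmt_mem (h : Ok t S) {u ρ : G} (hn : u ∈ normalizer (S : Set G)) (ut : u * t = t * u)
    (uu : u * u = 1 ∨ u * u = t) (hρ : ρ ∈ S) :
    ρ * u * ρ⁻¹ * u⁻¹ ∈ UU t S u ∧ u * (ρ * u * ρ⁻¹ * u⁻¹) * u⁻¹ = (ρ * u * ρ⁻¹ * u⁻¹)⁻¹ := by
  have m : ρ * u * ρ⁻¹ * u⁻¹ ∈ S := by
    simpa only [mul_assoc] using mul_mem hρ (H42.conj_mem_of_mem_normalizer hn (inv_mem hρ))
  have c : u * u * ρ⁻¹ = ρ⁻¹ * (u * u) := by
    rcases uu with e | e <;> rw [e]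
    · group
    · exact (h.tc _ (inv_mem hρ)).symm
  have e : u * (ρ * u * ρ⁻¹ * u⁻¹) * u⁻¹ = (ρ * u * ρ⁻¹ * u⁻¹)⁻¹ := by
    calc _ = u * ρ * u⁻¹ * (u * u * ρ⁻¹) * u⁻¹ * u⁻¹ := by group
      _ = _ := by rw [c]; group
  refine ⟨(mem_UU h.t2 (h.tc _ m)).2 ⟨m, ?_⟩, e⟩
  generalize ρ * u * ρ⁻¹ * u⁻¹ = y at m e
  have : y * u * y⁻¹ = y * y * u := by
    calc y * u * y⁻¹ = y * (u * y * u⁻¹)⁻¹ * u := by group
      _ = _ := by rw [e, inv_inv]
  rw [this]
  rcases h.sq y m with k | k <;> rw [k]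
  exacts [Or.inl (one_mul _), Or.inr ut.symm]

theorem cmt_cent (h : Ok t S) {u ρ x : G} (ut : u * t = t * u) (hρ : ρ ∈ S) (hx : x ∈ UU t S u) :
    ρ * u * ρ⁻¹ * u⁻¹ * x = x * (ρ * u * ρ⁻¹ * u⁻¹) := by
  have xt := h.tc x hx.1
  have k := pm_inv h.t2 ut (pm_symm h.t2 xt ut ((mem_UU h.t2 xt).1 hx).2)
  have := comm_of_pm (h.tc _ (inv_mem hρ)) (Commute.inv_left ut).eq (pm h (inv_mem hρ) hx.1) k
  simpa only [mul_inv_rev, inv_inv, mul_assoc] using this

theorem t_mem (h : Ok t S) {u : G} (ut : u * t = t * u) : t ∈ UU t S u :=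
  (mem_UU h.t2 rfl).2 ⟨h.tS, Or.inl (by rw [← ut, mul_inv_cancel_right])⟩

theorem choose (h : Ok t S) (h' : Ok t S') {u : G} (hu : u ∈ S') :
    ∃ S'', Ok t S'' ∧ u ∈ S'' ∧ UU t S u ≤ normalizer (S'' : Set G) := by
  obtain ⟨c, hc, m⟩ := into h' (E := normalizer ({u, u * t} : Set G) ⊓ centralizer {t}) (R := UU t S u)
    (fun x hx => mem_inf.2 ⟨((mem_UU (S := S') h.t2 (h'.tc x hx)).2 ⟨hx, pm h' hx hu⟩).2,
      mem_centralizer_singleton_iff.2 (h'.tc x hx)⟩)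
    (fun g hg => mem_centralizer_singleton_iff.1 (mem_inf.1 hg).2) ((two h).to_le inf_le_left)
    (fun x hx => mem_inf.2 ⟨hx.2, mem_centralizer_singleton_iff.2 (h.tc x hx.1)⟩)
  have ct := mem_centralizer_singleton_iff.1 (mem_inf.1 hc).2
  refine ⟨cj c⁻¹ S', ok_cj h' (Commute.inv_left ct).eq, ?_, fun x hx => ?_⟩
  · rw [mem_cj, inv_inv]
    rcases ((mem_UU (S := ⊤) h.t2 ct).1 ⟨mem_top _, (mem_inf.1 hc).1⟩).2 with e | e <;> rw [e]
    exacts [hu, mul_mem hu h'.tS]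
  · rw [← H42.cj_normalizer, mem_cj, inv_inv]; exact m x hx

theorem not_le (h : Ok t S) (h' : Ok t S') {u : G} (hu : u ∈ S') (hn : u ∈ normalizer (S : Set G))
    (nu : u ∉ S) : ¬ UU t S u ≤ S' := fun k => by
  have ut := h'.tc u hu
  have le : UU t S u ⊔ zpowers u ≤ S' := sup_le k (zpowers_le.2 hu)
  refine nu (conj_le h h' le (fun ρ hρ => H42.cj_eq_iff_mem_normalizer.1 ?_)
    (norm_of h' le (mem_sup_left (t_mem h ut))) (mem_sup_right (mem_zpowers u)))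
  refine eq_of_le_of_card_ge ?_ (H42.card_cj _ _).ge
  rw [H42.cj_sup, H42.cj_eq_iff_mem_normalizer.2 (norm_of h (A := UU t S u) inf_le_left (t_mem h ut) hρ)]
  refine sup_le le_sup_left ?_
  rw [cj, MonoidHom.map_zpowers, zpowers_le]
  have := mul_mem (mem_sup_left (T := zpowers u) (cmt_mem h hn ut (h'.sq u hu) hρ).1)
    (mem_sup_right (mem_zpowers u))
  rwa [inv_mul_cancel_right] at this

theorem not_ts (h : Ok t S) (h' : Ok t S') {u : G} (hu : u ∈ S') (hn : u ∈ normalizer (S : Set G))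
    (nu : u ∉ S) : ¬ TS t S u := fun ts => by
  obtain ⟨S', h', hu, nU⟩ := choose h h' hu
  have ut := h'.tc u hu
  have US : UU t S u ≤ S := inf_le_left
  have tU := t_mem h ut
  have na := not_le h h' hu hn nu
  have cU := ts.1
  set U := UU t S u with hU
  have c32 : 32 ≤ Nat.card ↥(U ⊓ S') := by
    rcases fano h' h US nU with e | e <;> omega
  have le : ∀ y ∈ U, U ⊓ S' ≤ UU t S' y := fun y hy x hx =>
    (mem_UU h.t2 (h'.tc x (mem_inf.1 hx).2)).2 ⟨(mem_inf.1 hx).2, pm h (US (mem_inf.1 hx).1) (US hy)⟩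
  have um : ∀ y ∈ U, u ∈ UU t S' y := fun y hy =>
    (mem_UU h.t2 ut).2 ⟨hu, pm_symm h.t2 (h.tc y (US hy)) ut ((mem_UU h.t2 (h.tc y (US hy))).1 hy).2⟩
  have nu' : u ∉ U ⊓ S' := fun e => nu (US (mem_inf.1 e).1)
  have all : ∀ y ∈ U, y ∉ S' → TS t S' y := fun y hy ny =>
    (h'.h1 y (bad h' h (US hy) (nU hy) ny)).resolve_left fun tc => nu' ((eq_of_le_of_card_ge (le y hy)
      (by rw [tc.2.1]; exact c32)).ge (um y hy))
  have c64 : 64 ≤ Nat.card ↥(U ⊓ S') := by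
    rcases fano h' h US nU with e | ⟨-, -, y, hy, ny, tc⟩
    · omega
    · exact (excl (all y hy ny) tc).elim
  have idx : ∀ {A : Subgroup G}, U ⊓ S' ≤ A → ¬ A ≤ U ⊓ S' → Nat.card A = 128 → (U ⊓ S').relIndex A = 2 :=
    fun {A} h1 h2 h3 => by
      have e := H42.card_mul_relIndex h1
      have e1 : (U ⊓ S').relIndex A ≠ 1 := fun e => h2 (relIndex_eq_one.1 e)
      have e0 : (U ⊓ S').relIndex A ≠ 0 := fun k => by rw [k, h3] at e; omega
      by_contra k
      have : 3 ≤ (U ⊓ S').relIndex A := by omega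
      nlinarith
  have i1 := idx inf_le_left (fun e => na (e.trans inf_le_right)) cU
  have nrm : S' ≤ normalizer (U : Set G) := fun ρ hρ => H42.mem_normalizer_of_conj_mem fun y hy => by
    by_cases ny : y ∈ S'
    · exact (mem_inf.1 (H42.conj_mem_of_mem_normalizer (norm_of h' inf_le_right (mem_inf.2 ⟨tU, h'.tS⟩) hρ)
        (mem_inf.2 ⟨hy, ny⟩))).1
    have ty := all y hy ny
    have yt := h.tc y (US hy)
    obtain ⟨m1, m2⟩ := cmt_mem h' (nU hy) yt (h.sq y (US hy)) hρ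
    have sq := ty.2.1 ρ hρ
    have cen := fun x (hx : x ∈ UU t S' y) => cmt_cent h' yt hρ hx
    have e : ρ * y * ρ⁻¹ = ρ * y * ρ⁻¹ * y⁻¹ * y := by group
    rw [e]
    generalize ρ * y * ρ⁻¹ * y⁻¹ = c at m1 m2 sq cen
    refine mul_mem ?_ hy
    by_contra nc
    have i2 := idx (le y hy) (fun e => nu' (e (um y hy))) ty.1
    have w := (mem_inf.1 (H42.mul_inv_mem_of_relIndex_two i2 m1 (um y hy) (fun e => nc (mem_inf.1 e).1) nu')).1
    have ec : c = c * u⁻¹ * u := by group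
    have eU : UU t S c = U := by rw [ec, UU_mul h ut (US w)]
    have cS : c ∉ S := fun e => nu (by simpa using mul_mem (inv_mem (US w)) e)
    have tc : TS t S c := (h.h1 c (bad h h' m1.1 (by rw [ec]; exact mul_mem (le_normalizer (US w)) hn) cS)).resolve_left
      fun k => by have := k.2.1; rw [eU, cU] at this; omega
    obtain ⟨x, hx, nx⟩ := tc.2.2
    rw [eU] at hx
    have cy : c * y = y * c := by
      rw [inv_eq_of_mul_eq_one_right sq, mul_inv_eq_iff_eq_mul] at m2; exact m2.symm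
    by_cases k : x ∈ S'
    · exact nx (cen x (le y hy (mem_inf.2 ⟨hx, k⟩)))
    · have := cen _ (le y hy (H42.mul_inv_mem_of_relIndex_two i1 hx hy (fun e => k (mem_inf.1 e).2)
        fun e => ny (mem_inf.1 e).2))
      exact nx (by simpa using (Commute.mul_right this cy).eq)
  exact na (conj_le h' h US nrm (norm_of h US tU))

theorem main (h : Ok t S) (h' : Ok t S') {u : G} (hu : u ∈ S') (hn : u ∈ normalizer (S : Set G)) : u ∈ S := by
  by_contra nu
  obtain ⟨S', h', hu, nU⟩ := choose h h' hu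
  have ut := h'.tc u hu
  obtain ⟨-, -, h3, x, hx, xx⟩ := (h.h1 u (bad h h' hu hn nu)).resolve_right (not_ts h h' hu hn nu)
  have sq : ∀ y ∈ UU t S u, y ∉ S' → y * y = 1 := fun y hy ny =>
    ((h'.h1 y (bad h' h hy.1 (nU hy) ny)).resolve_right (not_ts h' h hy.1 (nU hy) ny)).1
  obtain ⟨y, hy, ny⟩ := SetLike.not_le_iff_exists.1 (not_le h h' hu hn nu)
  have xS : x ∈ S' := by_contra fun k => xx (sq x hx k)
  have c : x * y = y * x := by
    obtain ⟨ρ, hρ, e | e⟩ := h3 x hx <;> have := cmt_cent h ut hρ hy <;> rw [← e] at this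
    · exact this
    · rw [mul_assoc, ← h.tc y hy.1, ← mul_assoc, ← mul_assoc] at this
      exact mul_right_cancel this
  have := sq _ (mul_mem hy hx) fun e => ny ((mul_mem_cancel_right xS).1 e)
  rw [mul_assoc, ← mul_assoc x, c, mul_assoc, ← mul_assoc, sq y hy ny, one_mul] at this
  exact xx this

end SC

/-- notes/O83.md, section SC: strong closure -/
theorem Ok.sc (h : Ok t S) {g x : G} (hg : g * t = t * g) (hx : x ∈ S)
    (hn : g * x * g⁻¹ ∈ normalizer (S : Set G)) : g * x * g⁻¹ ∈ S :=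
  SC.main h (SC.ok_cj h hg) (conj_mem_cj hx) hn

end Cfsg.Agent.O83
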