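import Cfsg.Agent.O83.Bas1

/-! Project O83: coordinates on the extraspecial group `Σ`. See `notes/O83.md`, section Sg. -/

set_option autoImplicit false
set_option synthInstance.maxSize 4096
set_option maxRecDepth 100000
set_option linter.unusedSimpArgs false
set_option linter.unusedSectionVars false

namespace Cfsg.Agent.O83

open Subgroup

variable {G : Type*} [Group G] [Finite G] {Γ : Subgroup O4} {e : V → G} {σ : O4 → G} {i : G} {π : G → V8}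

/-- the cocycle of the quaternion group -/
def f33 (p p' : W2) : ZMod 2 := p.1 * p'.1 + p.2 * p'.2 + p.2 * p'.1
/-- the cocycle of the central product -/
def F33 (c c' : V8) : ZMod 2 := f33 c.1 c'.1 + (f33 c.2.1 c'.2.1 + (f33 c.2.2.1 c'.2.2.1 + f33 c.2.2.2 c'.2.2.2))
/-- vectors supported on one component -/
def un33 (k : Fin 4) (p : W2) : V8 := ![(p, 0, 0, 0), (0, p, 0, 0), (0, 0, p, 0), (0, 0, 0, p)] k

theorem F33_self : ∀ c : V8, F33 c c = q2 c := by decide +kernel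

theorem F33_comm (c c' : V8) : F33 c c' = F33 c' c + b2 c c' := by
  have : ∀ p p' : W2, f33 p p' = f33 p' p + (p.1 * p'.2 + p.2 * p'.1) := by decide +kernel
  rw [F33, this c.1, this c.2.1, this c.2.2.1, this c.2.2.2, F33, b2]
  ring

theorem b2_nd33 : ∀ c : V8, (∀ k, b2 c (un33 k (1, 0)) = 0 ∧ b2 c (un33 k (0, 1)) = 0) → c = 0 := by decide +kernel

theorem cp_un33 : ∀ k l, ∀ p : W2, cp (un33 k p) l = if l = k then p else 0 := by decide +kernel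

theorem eq_un33 : ∀ k, ∀ c : V8, (∀ l, l ≠ k → cp c l = 0) → c = un33 k (cp c k) := by decide +kernel

theorem ρe_add33 (v : V) (c c' : V8) : ρe v (c + c') = ρe v c + ρe v c' := by
  have : ∀ a : F, ∀ p p' : W2, rot a (p + p') = rot a p + rot a p' := by decide +kernel
  simp only [ρe, Prod.fst_add, Prod.snd_add, this, Prod.mk_add_mk]

theorem ρσ_add33 (A : O4) (c c' : V8) : ρσ A (c + c') = ρσ A c + ρσ A c' := by
  have k : ∀ p p' : W2, mu (p + p') = mu p + mu p' := by decide +kernel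
  have : ∀ u, src A (c + c') u = src A c u + src A c' u := fun u => by
    simp only [src, Prod.fst_add, Prod.snd_add, k]
    split_ifs <;> rfl
  simp only [ρσ, this, Prod.mk_add_mk]

theorem ρe_un33 : ∀ v : V, v.1 = 0 → ∀ k, ∀ p : W2, ρe v (un33 k p) = (ρe d1)^[(dot v (zk k)).val] (un33 k p) ∧
    (v - (dot v (zk k)).val • d1).1 = 0 ∧ dot (v - (dot v (zk k)).val • d1) (zk k) = 0 := by decide +kernel

theorem ρσ_un33 : ∀ A : O4, A • d0 = d0 ∨ A • d0 = -d0 → ∀ k, ∃ l,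
    (A • zk k = zk l ∧ ρσ A (un33 k (1, 0)) = un33 l (1, 0) ∧ ρσ A (un33 k (0, 1)) = un33 l (0, 1)) ∨
    (A • zk k = -zk l ∧ ρσ A (un33 k (1, 0)) = un33 l (1, 0) ∧ ρσ A (un33 k (0, 1)) = un33 l (1, 1)) := by
  decide +kernel

theorem two_tr33 : ∀ k l, k ≠ l → ∃ A : O4, A • d0 = d0 ∧ (A • zk k = zk 1 ∨ A • zk k = -zk 1) ∧
    (A • zk l = zk 2 ∨ A • zk l = -zk 2) ∧ A ∈ Γ1 := by decide +kernel

omit [Finite G] in
theorem q8_mul33 {I J t : G} (t2 : t * t = 1) (ii : I * I = t) (jj : J * J = t) (ji : J * I = I * J * t) (p p' : W2) :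
    I ^ p.1.val * J ^ p.2.val * (I ^ p'.1.val * J ^ p'.2.val) =
      I ^ (p + p').1.val * J ^ (p + p').2.val * t ^ (f33 p p').val := by
  have ti : t * I = I * t := by rw [← ii, mul_assoc]
  have tj : t * J = J * t := by rw [← jj, mul_assoc]
  have t2' : ∀ x, t * (t * x) = x := fun x => by rw [← mul_assoc, t2, one_mul]
  have ii' : ∀ x, I * (I * x) = t * x := fun x => by rw [← mul_assoc, ii]
  have jj' : ∀ x, J * (J * x) = t * x := fun x => by rw [← mul_assoc, jj]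
  have ji' : ∀ x, J * (I * x) = I * (J * (t * x)) := fun x => by rw [← mul_assoc, ji]; simp only [mul_assoc]
  have ti' : ∀ x, t * (I * x) = I * (t * x) := fun x => by rw [← mul_assoc, ti, mul_assoc]
  have tj' : ∀ x, t * (J * x) = J * (t * x) := fun x => by rw [← mul_assoc, tj, mul_assoc]
  have c : ∀ a : ZMod 2, a = 0 ∨ a = 1 := by decide
  obtain ⟨a, b⟩ := p
  obtain ⟨a', b'⟩ := p'
  rcases c a with rfl | rfl <;> rcases c b with rfl | rfl <;> rcases c a' with rfl | rfl <;> rcases c b' with rfl | rfl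
  · change I ^ 0 * J ^ 0 * (I ^ 0 * J ^ 0) = I ^ 0 * J ^ 0 * t ^ 0
    simp only [pow_zero, pow_one, one_mul, mul_one, mul_assoc, ii, jj, ji, ti, tj, t2, ii', jj', ji', ti', tj', t2']
  · change I ^ 0 * J ^ 0 * (I ^ 0 * J ^ 1) = I ^ 0 * J ^ 1 * t ^ 0
    simp only [pow_zero, pow_one, one_mul, mul_one, mul_assoc, ii, jj, ji, ti, tj, t2, ii', jj', ji', ti', tj', t2']
  · change I ^ 0 * J ^ 0 * (I ^ 1 * J ^ 0) = I ^ 1 * J ^ 0 * t ^ 0
    simp only [pow_zero, pow_one, one_mul, mul_one, mul_assoc, ii, jj, ji, ti, tj, t2, ii', jj', ji', ti', tj', t2']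
  · change I ^ 0 * J ^ 0 * (I ^ 1 * J ^ 1) = I ^ 1 * J ^ 1 * t ^ 0
    simp only [pow_zero, pow_one, one_mul, mul_one, mul_assoc, ii, jj, ji, ti, tj, t2, ii', jj', ji', ti', tj', t2']
  · change I ^ 0 * J ^ 1 * (I ^ 0 * J ^ 0) = I ^ 0 * J ^ 1 * t ^ 0
    simp only [pow_zero, pow_one, one_mul, mul_one, mul_assoc, ii, jj, ji, ti, tj, t2, ii', jj', ji', ti', tj', t2']
  · change I ^ 0 * J ^ 1 * (I ^ 0 * J ^ 1) = I ^ 0 * J ^ 0 * t ^ 1
    simp only [pow_zero, pow_one, one_mul, mul_one, mul_assoc, ii, jj, ji, ti, tj, t2, ii', jj', ji', ti', tj', t2']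
  · change I ^ 0 * J ^ 1 * (I ^ 1 * J ^ 0) = I ^ 1 * J ^ 1 * t ^ 1
    simp only [pow_zero, pow_one, one_mul, mul_one, mul_assoc, ii, jj, ji, ti, tj, t2, ii', jj', ji', ti', tj', t2']
  · change I ^ 0 * J ^ 1 * (I ^ 1 * J ^ 1) = I ^ 1 * J ^ 0 * t ^ 0
    simp only [pow_zero, pow_one, one_mul, mul_one, mul_assoc, ii, jj, ji, ti, tj, t2, ii', jj', ji', ti', tj', t2']
  · change I ^ 1 * J ^ 0 * (I ^ 0 * J ^ 0) = I ^ 1 * J ^ 0 * t ^ 0
    simp only [pow_zero, pow_one, one_mul, mul_one, mul_assoc, ii, jj, ji, ti, tj, t2, ii', jj', ji', ti', tj', t2']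
  · change I ^ 1 * J ^ 0 * (I ^ 0 * J ^ 1) = I ^ 1 * J ^ 1 * t ^ 0
    simp only [pow_zero, pow_one, one_mul, mul_one, mul_assoc, ii, jj, ji, ti, tj, t2, ii', jj', ji', ti', tj', t2']
  · change I ^ 1 * J ^ 0 * (I ^ 1 * J ^ 0) = I ^ 0 * J ^ 0 * t ^ 1
    simp only [pow_zero, pow_one, one_mul, mul_one, mul_assoc, ii, jj, ji, ti, tj, t2, ii', jj', ji', ti', tj', t2']
  · change I ^ 1 * J ^ 0 * (I ^ 1 * J ^ 1) = I ^ 0 * J ^ 1 * t ^ 1
    simp only [pow_zero, pow_one, one_mul, mul_one, mul_assoc, ii, jj, ji, ti, tj, t2, ii', jj', ji', ti', tj', t2']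
  · change I ^ 1 * J ^ 1 * (I ^ 0 * J ^ 0) = I ^ 1 * J ^ 1 * t ^ 0
    simp only [pow_zero, pow_one, one_mul, mul_one, mul_assoc, ii, jj, ji, ti, tj, t2, ii', jj', ji', ti', tj', t2']
  · change I ^ 1 * J ^ 1 * (I ^ 0 * J ^ 1) = I ^ 1 * J ^ 0 * t ^ 1
    simp only [pow_zero, pow_one, one_mul, mul_one, mul_assoc, ii, jj, ji, ti, tj, t2, ii', jj', ji', ti', tj', t2']
  · change I ^ 1 * J ^ 1 * (I ^ 1 * J ^ 0) = I ^ 0 * J ^ 1 * t ^ 0
    simp only [pow_zero, pow_one, one_mul, mul_one, mul_assoc, ii, jj, ji, ti, tj, t2, ii', jj', ji', ti', tj', t2']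
  · change I ^ 1 * J ^ 1 * (I ^ 1 * J ^ 1) = I ^ 0 * J ^ 0 * t ^ 1
    simp only [pow_zero, pow_one, one_mul, mul_one, mul_assoc, ii, jj, ji, ti, tj, t2, ii', jj', ji', ti', tj', t2']

omit [Finite G] in
theorem step33 {a a' c b b' d s s' : G} (h1 : a * a' = c * s) (h2 : b * b' = d * s') (cm : Commute b a')
    (cs : Commute s d) : a * b * (a' * b') = c * d * (s * s') := by
  rw [cm.mul_mul_mul_comm, h1, h2, cs.mul_mul_mul_comm]

omit [Finite G] in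
theorem T_add33 {t : G} (t2 : t * t = 1) (a b : ZMod 2) : t ^ (a + b).val = t ^ a.val * t ^ b.val := by
  rw [← pow_add, ZMod.val_add, ← pow_eq_pow_mod _ (by rw [pow_two, t2])]

/-- the normal form in `R_k` -/
def ωk33 (e : V → G) (σ : O4 → G) (i : G) (k : Fin 4) (p : W2) : G := ik σ i k ^ p.1.val * jk e σ i k ^ p.2.val

/-- the normal form in `Σ` -/
def φ33 (e : V → G) (σ : O4 → G) (i : G) (c : V8 × ZMod 2) : G :=
  ωk33 e σ i 0 c.1.1 * (ωk33 e σ i 1 c.1.2.1 * (ωk33 e σ i 2 c.1.2.2.1 * ωk33 e σ i 3 c.1.2.2.2)) * σ r0 ^ c.2.val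

omit [Finite G] in
theorem ωk_zero33 (k : Fin 4) : ωk33 e σ i k 0 = 1 := by simp [ωk33]

omit [Finite G] in
theorem φ_un33 (k : Fin 4) (p : W2) (a : ZMod 2) : φ33 e σ i (un33 k p, a) = ωk33 e σ i k p * σ r0 ^ a.val := by
  fin_cases k <;> simp [φ33, un33, ωk_zero33]

omit [Finite G] in
theorem ik_mem33 (k : Fin 4) : ik σ i k ∈ Rk e σ i k := subset_closure (by simp)

omit [Finite G] in
theorem jk_mem33 (k : Fin 4) : jk e σ i k ∈ Rk e σ i k := subset_closure (by simp)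

omit [Finite G] in
theorem ωk_mem33 (k : Fin 4) (p : W2) : ωk33 e σ i k p ∈ Rk e σ i k :=
  mul_mem (pow_mem (ik_mem33 k) _) (pow_mem (jk_mem33 k) _)

namespace Cf

variable (h : Cf Γ e σ i)
include h

theorem ik_sq33 (k : Fin 4) : ik σ i k * ik σ i k = σ r0 := by
  rw [ik, conj_mul, h.ii, (h.γ_t33 k).eq, mul_inv_cancel_right]

theorem jk_sq33 (k : Fin 4) : jk e σ i k * jk e σ i k = σ r0 := by
  rw [jk, conj_mul, h.jj_sq, (h.γ_t33 k).eq, mul_inv_cancel_right]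

theorem jk_ik33 (k : Fin 4) : jk e σ i k * ik σ i k = ik σ i k * jk e σ i k * σ r0 := by
  rw [jk, ik, conj_mul, conj_mul, h.j_i, mul_assoc _ (σ (gk k))⁻¹, (h.γ_t33 k).inv_left.eq]; group

theorem x_ik33 (k : Fin 4) : e d1 * ik σ i k * (e d1)⁻¹ = jk e σ i k := by
  conv_lhs => rw [← h.γ_x33 k]
  rw [ik, jk, jj]; group

theorem x_jk33 (k : Fin 4) : e d1 * jk e σ i k * (e d1)⁻¹ = ik σ i k * jk e σ i k ∨
    e d1 * jk e σ i k * (e d1)⁻¹ = jk e σ i k * ik σ i k := by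
  have : e d1 * jk e σ i k * (e d1)⁻¹ = σ (gk k) * (e d1 * jj e i * (e d1)⁻¹) * (σ (gk k))⁻¹ := by
    conv_lhs => rw [← h.γ_x33 k]
    rw [jk]; group
  rw [this, ik, jk, conj_mul, conj_mul]
  exact h.ij.imp (fun k => by rw [k]) fun k => by rw [k]

theorem t_Rk33 (k : Fin 4) : σ r0 ∈ Rk e σ i k := h.ik_sq33 k ▸ mul_mem (ik_mem33 k) (ik_mem33 k)

theorem mem_Rk_iff33 {k : Fin 4} {x : G} : x ∈ Rk e σ i k ↔ ∃ p a, x = φ33 e σ i (un33 k p, a) := by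
  refine ⟨fun hx => ?_, ?_⟩
  · simp only [φ_un33]
    rcases (q8_list h.t2 (h.ik_sq33 k) (h.jk_sq33 k) (h.jk_ik33 k) x).1 hx with
      rfl | rfl | rfl | rfl | rfl | rfl | rfl | rfl
    exacts [⟨(0, 0), 0, by simp [ωk33]⟩, ⟨(0, 0), 1, by simp [ωk33, ZMod.val_one]⟩,
      ⟨(1, 0), 0, by simp [ωk33, ZMod.val_one]⟩, ⟨(1, 0), 1, by simp [ωk33, ZMod.val_one]⟩,
      ⟨(0, 1), 0, by simp [ωk33, ZMod.val_one]⟩, ⟨(0, 1), 1, by simp [ωk33, ZMod.val_one]⟩,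
      ⟨(1, 1), 0, by simp [ωk33, ZMod.val_one]⟩, ⟨(1, 1), 1, by simp [ωk33, ZMod.val_one]⟩]
  · rintro ⟨p, a, rfl⟩
    rw [φ_un33]
    exact mul_mem (ωk_mem33 k p) (pow_mem (h.t_Rk33 k) _)

theorem φ_mul33 (cm : ∀ k l, k ≠ l → ∀ a ∈ Rk e σ i k, ∀ b ∈ Rk e σ i l, Commute a b) (c c' : V8 × ZMod 2) :
    φ33 e σ i c * φ33 e σ i c' = φ33 e σ i (c.1 + c'.1, F33 c.1 c'.1 + (c.2 + c'.2)) := by
  have m : ∀ k p p', ωk33 e σ i k p * ωk33 e σ i k p' = ωk33 e σ i k (p + p') * σ r0 ^ (f33 p p').val :=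
    fun k => q8_mul33 h.t2 (h.ik_sq33 k) (h.jk_sq33 k) (h.jk_ik33 k)
  have c0 : ∀ k l p p', k ≠ l → Commute (ωk33 e σ i k p) (ωk33 e σ i l p') := fun k l p p' n =>
    cm k l n _ (ωk_mem33 k p) _ (ωk_mem33 l p')
  have ct : ∀ n k p, Commute (σ r0 ^ n) (ωk33 e σ i k p) := fun n k p =>
    (show Commute _ _ from h.Rk_t (ωk_mem33 k p)).symm.pow_left n
  have s := step33 (m 0 c.1.1 c'.1.1) (step33 (m 1 c.1.2.1 c'.1.2.1) (step33 (m 2 c.1.2.2.1 c'.1.2.2.1)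
    (m 3 c.1.2.2.2 c'.1.2.2.2) (c0 _ _ _ _ (by decide)) (ct _ _ _))
    ((c0 _ _ _ _ (by decide)).mul_left (c0 _ _ _ _ (by decide))) ((ct _ _ _).mul_right (ct _ _ _)))
    ((c0 _ _ _ _ (by decide)).mul_left ((c0 _ _ _ _ (by decide)).mul_left (c0 _ _ _ _ (by decide))))
    ((ct _ _ _).mul_right ((ct _ _ _).mul_right (ct _ _ _)))
  rw [φ33, φ33, ((ct _ _ _).mul_right ((ct _ _ _).mul_right ((ct _ _ _).mul_right (ct _ _ _)))).mul_mul_mul_comm, s,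
    φ33, F33]
  simp only [T_add33 h.t2, mul_assoc, Prod.fst_add, Prod.snd_add]

end Cf

/-- notes/O83.md, section Sg -/
theorem Cf.exists_sd (h : Cf Γ e σ i) (cm : ∀ a ∈ Rk e σ i 1, ∀ b ∈ Rk e σ i 2, a * b = b * a) :
    ∃ π, Sd Γ e σ i π := by
  have cm' : ∀ k l, k ≠ l → ∀ a ∈ Rk e σ i k, ∀ b ∈ Rk e σ i l, Commute a b := fun k l n a ha b hb => by
    obtain ⟨A, h0, h1, h2, hA⟩ := two_tr33 k l n
    have := cm _ (h.Rk_conj (h.Γ1_le hA) (.inl h0) h1 ha) _ (h.Rk_conj (h.Γ1_le hA) (.inl h0) h2 hb)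
    rwa [conj_mul, conj_mul, mul_left_inj, mul_right_inj] at this
  have mul := h.φ_mul33 cm'
  have φ0 : ∀ a, φ33 e σ i (0, a) = σ r0 ^ a.val := fun a => by simp [φ33, ωk_zero33]
  have φa : ∀ c a b, φ33 e σ i (c, a + b) = φ33 e σ i (c, a) * σ r0 ^ b.val := fun c a b => by
    rw [φ33, φ33, T_add33 h.t2, ← mul_assoc]
  have T1 : ∀ a : ZMod 2, σ r0 ^ a.val = 1 → a = 0 := fun a k =>
    ((by decide : ∀ a : ZMod 2, a = 0 ∨ a = 1) a).resolve_right (by rintro rfl; exact h.t1 ((pow_one _).symm.trans k))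
  have cmm : ∀ c c', φ33 e σ i c * φ33 e σ i c' = φ33 e σ i c' * φ33 e σ i c * σ r0 ^ (b2 c.1 c'.1).val := fun c c' => by
    rw [mul, mul, ← φa, F33_comm c.1, add_comm c.1, add_comm c.2, add_right_comm]
  have aa : ∀ c : V8, c + c = 0 := by decide +kernel
  have inv : ∀ c, (φ33 e σ i c)⁻¹ = φ33 e σ i (c.1, F33 c.1 c.1 + c.2) := fun c =>
    inv_eq_of_mul_eq_one_right (by
      rw [mul, aa, φ0, (by decide : ∀ a b : ZMod 2, a + (b + (a + b)) = 0), ZMod.val_zero, pow_zero])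
  have inj : Function.Injective (φ33 e σ i) := fun c c' k => by
    have k1 : φ33 e σ i c * (φ33 e σ i c')⁻¹ = 1 := mul_inv_eq_one.2 k
    rw [inv, mul] at k1
    have k0 : ∀ c, φ33 e σ i c = 1 → ∀ d, b2 c.1 d = 0 := fun c k d => T1 _ (by
      have := cmm c (d, 0)
      rwa [k, one_mul, mul_one, left_eq_mul] at this)
    have k2 : c.1 + c'.1 = 0 := b2_nd33 _ fun l => ⟨k0 _ k1 _, k0 _ k1 _⟩
    have k3 : c.1 = c'.1 := by rw [← add_zero c.1, ← aa c'.1, ← add_assoc, k2, zero_add]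
    rw [k2, φ0, k3] at k1
    exact Prod.ext k3 ((by decide : ∀ a b c : ZMod 2, a + (b + (a + c)) = 0 → b = c) _ _ _ (T1 _ k1))
  have memS : ∀ x, x ∈ SS e σ i ↔ ∃ c, x = φ33 e σ i c := fun x => by
    let K : Subgroup G := ⟨⟨⟨{x | ∃ c, x = φ33 e σ i c}, by rintro _ _ ⟨c, rfl⟩ ⟨c', rfl⟩; exact ⟨_, mul c c'⟩⟩,
      ⟨(0, 0), by rw [φ0, ZMod.val_zero, pow_zero]⟩⟩, by rintro _ ⟨c, rfl⟩; exact ⟨_, inv c⟩⟩
    have hle : SS e σ i ≤ K := iSup_le fun k y hy => by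
      obtain ⟨p, a, rfl⟩ := h.mem_Rk_iff33.1 hy
      exact ⟨_, rfl⟩
    refine ⟨fun hx => hle hx, ?_⟩
    rintro ⟨c, rfl⟩
    have m : ∀ k p, ωk33 e σ i k p ∈ SS e σ i := fun k p => le_iSup (Rk e σ i) k (ωk_mem33 k p)
    exact mul_mem (mul_mem (m _ _) (mul_mem (m _ _) (mul_mem (m _ _) (m _ _))))
      (pow_mem (le_iSup (Rk e σ i) 0 (h.t_Rk33 0)) _)
  obtain ⟨π, hπ⟩ : ∃ π : G → V8, ∀ c, π (φ33 e σ i c) = c.1 :=
    ⟨fun x => (Function.invFun (φ33 e σ i) x).1, fun c => congrArg Prod.fst (Function.leftInverse_invFun inj c)⟩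
  have πmul : ∀ x ∈ SS e σ i, ∀ y ∈ SS e σ i, π (x * y) = π x + π y := fun x hx y hy => by
    obtain ⟨c, rfl⟩ := (memS x).1 hx
    obtain ⟨c', rfl⟩ := (memS y).1 hy
    rw [mul, hπ, hπ, hπ]
  have πinv : ∀ x ∈ SS e σ i, π x⁻¹ = π x := fun x hx => by
    obtain ⟨c, rfl⟩ := (memS x).1 hx
    rw [inv, hπ, hπ]
  have π1 : π 1 = 0 := by simpa [φ0] using hπ (0, 0)
  have iS : ∀ k, ik σ i k ∈ SS e σ i := fun k => le_iSup (Rk e σ i) k (ik_mem33 k)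
  have jS : ∀ k, jk e σ i k ∈ SS e σ i := fun k => le_iSup (Rk e σ i) k (jk_mem33 k)
  have πi : ∀ k, π (ik σ i k) = un33 k (1, 0) := fun k => by
    simpa [φ_un33, ωk33, ZMod.val_one] using hπ (un33 k (1, 0), 0)
  have πj : ∀ k, π (jk e σ i k) = un33 k (0, 1) := fun k => by
    simpa [φ_un33, ωk33, ZMod.val_one] using hπ (un33 k (0, 1), 0)
  have πk : ∀ k, e d1 * jk e σ i k * (e d1)⁻¹ ∈ SS e σ i ∧ π (e d1 * jk e σ i k * (e d1)⁻¹) = un33 k (1, 1) := fun k => by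
    have u : ∀ k, un33 k (1, 0) + un33 k (0, 1) = un33 k (1, 1) := by decide +kernel
    rcases h.x_jk33 k with k' | k' <;> rw [k']
    · exact ⟨mul_mem (iS k) (jS k), by rw [πmul _ (iS k) _ (jS k), πi, πj, u]⟩
    · exact ⟨mul_mem (jS k) (iS k), by rw [πmul _ (jS k) _ (iS k), πi, πj, add_comm, u]⟩
  have gen : ∀ (g : G) (ρ : V8 → V8), (∀ c c', ρ (c + c') = ρ c + ρ c') →
      (∀ k, g * ik σ i k * g⁻¹ ∈ SS e σ i ∧ π (g * ik σ i k * g⁻¹) = ρ (un33 k (1, 0))) →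
      (∀ k, g * jk e σ i k * g⁻¹ ∈ SS e σ i ∧ π (g * jk e σ i k * g⁻¹) = ρ (un33 k (0, 1))) →
      ∀ x ∈ SS e σ i, g * x * g⁻¹ ∈ SS e σ i ∧ π (g * x * g⁻¹) = ρ (π x) := fun g ρ ad hi hj x hx => by
    let K : Subgroup G := ⟨⟨⟨{x | x ∈ SS e σ i ∧ g * x * g⁻¹ ∈ SS e σ i ∧ π (g * x * g⁻¹) = ρ (π x)}, by
      rintro a b ⟨a1, a2, a3⟩ ⟨b1, b2, b3⟩
      refine ⟨mul_mem a1 b1, conj_mul (b := g) ▸ mul_mem a2 b2, ?_⟩
      rw [← conj_mul, πmul _ a2 _ b2, a3, b3, πmul _ a1 _ b1, ad]⟩,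
      ⟨one_mem _, by simp, by simpa [π1] using (by simpa using ad 0 0 : ρ 0 = 0).symm⟩⟩, by
      rintro a ⟨a1, a2, a3⟩
      exact ⟨inv_mem a1, conj_inv (b := g) ▸ inv_mem a2, by rw [← conj_inv, πinv _ a2, a3, πinv _ a1]⟩⟩
    have hle : SS e σ i ≤ K := iSup_le fun k => (closure_le K).2 (by
      rintro _ (rfl | rfl)
      exacts [⟨iS k, (hi k).1, (πi k).symm ▸ (hi k).2⟩, ⟨jS k, (hj k).1, (πj k).symm ▸ (hj k).2⟩])
    exact (hle hx).2
  have ax := gen (e d1) (ρe d1) (ρe_add33 d1)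
    (fun k => by
      rw [h.x_ik33, πj]; exact ⟨jS k, (by decide +kernel : ∀ k, un33 k (0, 1) = ρe d1 (un33 k (1, 0))) k⟩)
    fun k => ⟨(πk k).1, (πk k).2.trans ((by decide +kernel : ∀ k, un33 k (1, 1) = ρe d1 (un33 k (0, 1))) k)⟩
  have axn : ∀ n, ∀ x ∈ SS e σ i, e d1 ^ n * x * (e d1 ^ n)⁻¹ ∈ SS e σ i ∧
      π (e d1 ^ n * x * (e d1 ^ n)⁻¹) = (ρe d1)^[n] (π x) := fun n x hx => by
    induction n with
    | zero => simpa using hx
    | succ n ih =>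
      rw [pow_succ', Function.iterate_succ_apply', ← ih.2,
        show e d1 * e d1 ^ n * x * (e d1 * e d1 ^ n)⁻¹ = e d1 * (e d1 ^ n * x * (e d1 ^ n)⁻¹) * (e d1)⁻¹ by
          simp only [mul_inv_rev, mul_assoc]]
      exact ax _ ih.1
  have tS : σ r0 ∈ SS e σ i := le_iSup (Rk e σ i) 0 (h.t_Rk33 0)
  refine ⟨π, tS, fun x hx => ?_, πmul, fun c => ⟨_, (memS _).2 ⟨(c, 0), rfl⟩, hπ _⟩, fun x hx => ?_, fun x hx => ?_,
    fun x hx y hy => ?_, fun v hv => ?_, fun A hA h1 => ?_, fun k l => by rw [πi, cp_un33],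
    fun k l => by rw [πj, cp_un33], fun k x => ⟨fun hx => ⟨le_iSup (Rk e σ i) k hx, fun l n => ?_⟩, ?_⟩, ?_⟩
  · exact mem_centralizer_singleton_iff.1 ((iSup_le fun k y hy => mem_centralizer_singleton_iff.2 (h.Rk_t hy) :
      SS e σ i ≤ centralizer {σ r0}) hx)
  · obtain ⟨⟨c, a⟩, rfl⟩ := (memS x).1 hx
    refine ⟨fun k => ?_, ?_⟩
    · rw [hπ] at k
      obtain rfl : c = 0 := k
      rw [φ0]
      rcases (by decide : ∀ a : ZMod 2, a = 0 ∨ a = 1) a with rfl | rfl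
      exacts [.inl (pow_zero _), .inr (pow_one _)]
    · rintro (k | k) <;> rw [k]
      · exact π1
      · simpa [φ0, ZMod.val_one] using hπ (0, 1)
  · obtain ⟨c, rfl⟩ := (memS x).1 hx
    rw [mul, hπ, aa, φ0, F33_self, (by decide : ∀ a b : ZMod 2, a + (b + b) = a)]
  · obtain ⟨c, rfl⟩ := (memS x).1 hx
    obtain ⟨c', rfl⟩ := (memS y).1 hy
    rw [cmm, hπ, hπ]
  · have key : ∀ k, ∀ r ∈ Rk e σ i k, ∀ p, π r = un33 k p →
        e v * r * (e v)⁻¹ ∈ SS e σ i ∧ π (e v * r * (e v)⁻¹) = ρe v (un33 k p) := fun k r hr p hp => by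
      obtain ⟨k1, k2, k3⟩ := ρe_un33 v hv k p
      have : e v * r * (e v)⁻¹ = e d1 ^ (dot v (zk k)).val * r * (e d1 ^ (dot v (zk k)).val)⁻¹ := by
        conv_lhs => rw [← add_sub_cancel ((dot v (zk k)).val • d1) v, h.add, e_nsmul h.add, mul_assoc (_ ^ _),
          ← h.Rk_B hr k2 k3]
        group
      rw [this, k1, ← hp]
      exact axn _ r (le_iSup (Rk e σ i) k hr)
    exact gen _ _ (ρe_add33 v) (fun k => key k _ (ik_mem33 k) _ (πi k)) fun k => key k _ (jk_mem33 k) _ (πj k)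
  · refine gen _ _ (ρσ_add33 A) (fun k => ?_) fun k => ?_ <;>
      obtain ⟨l, ⟨k1, k2, k3⟩ | ⟨k1, k2, k3⟩⟩ := ρσ_un33 A h1 k
    · rw [(h.ik_conj hA h1 k1).1, k2]; exact ⟨iS l, πi l⟩
    · rw [(h.ik_conj' hA h1 k1).1, k2, πinv _ (iS l)]; exact ⟨inv_mem (iS l), πi l⟩
    · rw [(h.ik_conj hA h1 k1).2, k3]; exact ⟨jS l, πj l⟩
    · rw [(h.ik_conj' hA h1 k1).2, k3, πinv _ (πk l).1]; exact ⟨inv_mem (πk l).1, (πk l).2⟩
  · obtain ⟨p, a, rfl⟩ := h.mem_Rk_iff33.1 hx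
    rw [hπ, cp_un33, if_neg n]
  · rintro ⟨hx, k'⟩
    obtain ⟨⟨c, a⟩, rfl⟩ := (memS x).1 hx
    rw [hπ] at k'
    exact h.mem_Rk_iff33.2 ⟨_, a, by rw [← eq_un33 k c k']⟩
  · have : Nat.card (SS e σ i) = Nat.card (Set.range (φ33 e σ i)) :=
      Nat.card_congr (Equiv.subtypeEquivRight fun x => (memS x).trans (exists_congr fun _ => eq_comm))
    rw [this, Nat.card_range_of_injective inj]
    simp

end Cfsg.Agent.O83
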