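import Cfsg.Agent.O83.Nc
import Cfsg.Agent.O83.Fr

/-! Small lemmas on `Σ` for `O83/Ty` and `O83/Th`. -/

set_option autoImplicit false
set_option synthInstance.maxSize 4096
set_option maxRecDepth 100000

namespace Cfsg.Agent.O83

open Subgroup

/-- unit vectors -/
def tyU (p : W2) : Fin 4 → V8 := ![(p, 0, 0, 0), (0, p, 0, 0), (0, 0, p, 0), (0, 0, 0, p)]

theorem ty_ext {c c' : V8} (h : ∀ l, cp c l = cp c' l) : c = c' :=
  Prod.ext (h 0) (Prod.ext (h 1) (Prod.ext (h 2) (h 3)))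

theorem ty_neg : ∀ c : V8, -c = c := by decide +kernel

theorem ty_add {c c' : V8} : c + c' = 0 ↔ c = c' := by rw [add_eq_zero_iff_eq_neg, ty_neg]

theorem ty_z2 : ∀ a : ZMod 2, a = 0 ∨ a = 1 := by decide

theorem ty_sw (c : V8) : ρσ sw c = (c.1, c.2.2.1, c.2.1, c.2.2.2) := by revert c; decide +kernel

variable {G : Type*} [Group G] [Finite G] {Γ : Subgroup O4} {e : V → G} {σ : O4 → G} {i : G} {π : G → V8}

omit [Finite G]

theorem ty_ik (k : Fin 4) : ik σ i k ∈ Rk e σ i k := subset_closure (Or.inl rfl)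

theorem ty_jk (k : Fin 4) : jk e σ i k ∈ Rk e σ i k := subset_closure (Or.inr rfl)

theorem ty_R {k : Fin 4} {x : G} (hx : x ∈ Rk e σ i k) : x ∈ SS e σ i := le_iSup (Rk e σ i) k hx

theorem Sd.ty_i (s : Sd Γ e σ i π) (k : Fin 4) : π (ik σ i k) = tyU (1, 0) k :=
  ty_ext fun l => by rw [s.πi]; revert k l; decide

theorem Sd.ty_j (s : Sd Γ e σ i π) (k : Fin 4) : π (jk e σ i k) = tyU (0, 1) k :=
  ty_ext fun l => by rw [s.πj]; revert k l; decide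

theorem Sd.ty_one (s : Sd Γ e σ i π) : π 1 = 0 := (s.zero 1 (one_mem _)).2 (Or.inl rfl)

theorem Sd.ty_t (s : Sd Γ e σ i π) : π (σ r0) = 0 := (s.zero _ s.tS).2 (Or.inr rfl)

theorem Sd.ty_inv (s : Sd Γ e σ i π) {x : G} (hx : x ∈ SS e σ i) : π x⁻¹ = π x :=
  ty_add.1 (by rw [← s.mul _ (inv_mem hx) _ hx, inv_mul_cancel, s.ty_one])

theorem Sd.ty_eq (s : Sd Γ e σ i π) {x y : G} (hx : x ∈ SS e σ i) (hy : y ∈ SS e σ i) (h : π x = π y) :
    x = y ∨ x = y * σ r0 := by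
  rcases (s.zero _ (mul_mem (inv_mem hy) hx)).1 (by rw [s.mul _ (inv_mem hy) _ hx, s.ty_inv hy, ty_add, h]) with k | k
  · exact Or.inl (inv_mul_eq_one.1 k).symm
  · exact Or.inr (inv_mul_eq_iff_eq_mul.1 k)

theorem Sd.ty_cj (s : Sd Γ e σ i π) {x y : G} (hx : x ∈ SS e σ i) (hy : y ∈ SS e σ i) : π (x * y * x⁻¹) = π y := by
  rw [s.mul _ (mul_mem hx hy) _ (inv_mem hx), s.mul _ hx _ hy, s.ty_inv hx, add_comm (π x), add_assoc,
    ty_add.2 rfl, add_zero]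

theorem Cf.ty_comm (h : Cf Γ e σ i) (s : Sd Γ e σ i π) {x y : G} (hx : x ∈ SS e σ i) (hy : y ∈ SS e σ i) :
    x * y = y * x ↔ b2 (π x) (π y) = 0 := by
  rw [s.cm x hx y hy]
  rcases ty_z2 (b2 (π x) (π y)) with k | k <;> rw [k]
  · simp
  · simpa [ZMod.val_one] using h.t1

theorem Cf.ty_sq (h : Cf Γ e σ i) (s : Sd Γ e σ i π) {x : G} (hx : x ∈ SS e σ i) : x * x = 1 ↔ q2 (π x) = 0 := by
  rw [s.sq x hx]
  rcases ty_z2 (q2 (π x)) with k | k <;> rw [k]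
  · simp
  · simpa [ZMod.val_one] using h.t1

/-- an element of order three fixing `x` modulo `t` fixes `x` -/
theorem Cf.ty_fix3 (h : Cf Γ e σ i) (s : Sd Γ e σ i π) {g x : G} (g3 : g ^ 3 = 1) (gt : g * σ r0 = σ r0 * g)
    (hx : x ∈ SS e σ i) (h1 : g * x * g⁻¹ ∈ SS e σ i) (h2 : π (g * x * g⁻¹) = π x) : g * x = x * g := by
  refine mul_inv_eq_iff_eq_mul.1 ((s.ty_eq h1 hx h2).resolve_right fun k => h.t1 ?_)
  have e1 : g * (x * σ r0) * g⁻¹ = x := by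
    rw [← _root_.conj_mul, k, mul_inv_eq_iff_eq_mul.2 gt, mul_assoc, h.t2, mul_one]
  have e2 : g * (g * (g * x * g⁻¹) * g⁻¹) * g⁻¹ = g ^ 3 * x * (g ^ 3)⁻¹ := by
    simp only [pow_three', mul_inv_rev, mul_assoc]
  rw [k, e1, k, g3, one_mul, inv_one, mul_one] at e2
  exact mul_eq_left.1 e2

theorem Cf.ty_σt (h : Cf Γ e σ i) {A : O4} (hA : A ∈ Γ) (h1 : A • d0 = d0) : σ A * σ r0 = σ r0 * σ A :=
  (h.σ_t hA).2 (Or.inl h1)

theorem ty_dg : ∀ b c d, dg false b c d * r0 = dg true b c d ∧ dg false b c d • d0 = d0 ∧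
    dg false b c d * dg false b c d = 1 := by decide +kernel

end Cfsg.Agent.O83
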