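import Cfsg.Agent.O83.Nc
import Cfsg.Agent.O83.Fr
import Cfsg.Agent.O83.Tya
import Cfsg.Agent.OR.L3
import Cfsg.Agent.S0111

set_option autoImplicit false
set_option synthInstance.maxSize 4096
set_option maxRecDepth 100000

namespace Cfsg.Agent.O83

open Subgroup

/-- the stabiliser of the line of `d1` -/
def thP : Subgroup O4 where
  carrier := {A | A • d1 = d1 ∨ A • d1 = -d1}
  one_mem' := Or.inl (one_smul _ _)
  mul_mem' := by
    rintro A B (h | h) (k | k) <;> simp only [Set.mem_setOf_eq, mul_smul, smul_neg, h, k, neg_neg, true_or, or_true]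
  inv_mem' := by
    rintro A (h | h)
    · exact Or.inl (inv_smul_eq_iff.2 h.symm)
    · exact Or.inr (inv_smul_eq_iff.2 (by rw [smul_neg, h, neg_neg]))

instance : DecidablePred (· ∈ thP) := fun A => inferInstanceAs (Decidable (A • d1 = d1 ∨ A • d1 = -d1))

theorem th_pow : ∀ A : O4, A • d0 = d0 → A ∈ thP → A * A * (A * A) = 1 := by decide +kernel
theorem th_nrm : ∀ A : O4, A • d0 = d0 → A * sw * A⁻¹ ∈ thP → A ∈ thP := by decide +kernel
theorem th_diag : ∀ A : O4, A • d0 = d0 → A ∈ thP → A ∈ Γ1 → ∃ b c d, A = dg false b c d := by decide +kernel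
theorem th_cen : ∀ A : O4, A • d0 = d0 → A * dg false true true true * A⁻¹ = dg false true true true := by
  decide +kernel
theorem th_v : ∀ v : V, v.1 = 0 → v + dg false true true true • -v = 0 → v = 0 := by decide +kernel
theorem th_tr : ∀ w : V, sw • w = w → q w = 2 → ∃ B : O4, B • w = y0 ∧ B * sw * B⁻¹ = sw := by decide +kernel

theorem th_cyc (c : V8) : ρσ cyc c = (c.1, c.2.2.1, mu c.2.2.2, mu c.2.1) := by revert c; decide +kernel

/-- elements moving a pair of points to `{1, 2}` -/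
def thA : Fin 6 → O4 := ![1, cyc, cyc * cyc, r3, r3 * cyc, r3 * cyc * cyc]

theorem th_A : ∀ k, thA k • d0 = d0 := by decide +kernel

theorem th_cls (c : V8) (h : q2 c = 0) : (∃ v : V, v.1 = 0 ∧ ρσ cyc (ρe v c) = ρe v c) ∨
    ∃ k, (ρσ (thA k) c).1 = 0 ∧ (ρσ (thA k) c).2.2.2 = 0 := by
  simp only [th_cyc]
  revert c; decide +kernel

theorem th_two : ∀ c : V8, c.1 = 0 → c.2.2.2 = 0 → q2 c = 0 → c ≠ 0 →
    ∃ v : V, v.1 = 0 ∧ ρe v c = tyU (1, 0) 1 + tyU (1, 0) 2 := by decide +kernel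

theorem th_eight : (Finset.univ.filter fun c => ρe y0 c = c ∧ b2 c (tyU (1, 0) 1 + tyU (1, 0) 2) = 0).card = 8 := by
  decide +kernel

/-- four elements -/
def thB : Fin 4 → O4 := ![1, r1, sw, r1 * sw]

theorem th_B : ∀ k, thB k • d0 = d0 ∧ thB k ∈ thP ∧ thB k • y0 = y0 ∧ ∀ l, thB k = thB l → k = l := by
  decide +kernel

variable {G : Type*} [Group G] [Finite G] {e : V → G} {σ : O4 → G} {i : G} {π : G → V8}

/-- `Σ σ(P)` -/
def thT (h : Cf ⊤ e σ i) (s : Sd ⊤ e σ i π) (P : Subgroup O4) : Subgroup G where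
  carrier := {g | ∃ x ∈ SS e σ i, ∃ A ∈ P, A • d0 = d0 ∧ g = x * σ A}
  one_mem' := ⟨1, one_mem _, 1, one_mem _, one_smul _ _, by rw [h.σ_one, mul_one]⟩
  mul_mem' := by
    rintro _ _ ⟨x, hx, A, hA, h1, rfl⟩ ⟨y, hy, B, hB, h2, rfl⟩
    exact ⟨_, mul_mem hx (s.aσ A trivial (Or.inl h1) y hy).1, _, mul_mem hA hB, by rw [mul_smul, h2, h1],
      by rw [h.σ_mul A trivial B trivial]; group⟩
  inv_mem' := by
    rintro _ ⟨x, hx, A, hA, h1, rfl⟩
    have h2 : A⁻¹ • d0 = d0 := inv_smul_eq_iff.2 h1.symm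
    exact ⟨_, (s.aσ A⁻¹ trivial (Or.inl h2) _ (inv_mem hx)).1, _, inv_mem hA, h2,
      by rw [h.σ_inv trivial]; group⟩

theorem th_mem (h : Cf ⊤ e σ i) (s : Sd ⊤ e σ i π) {P : Subgroup O4} {x : G} (hx : x ∈ SS e σ i) {v : V} {A : O4}
    (h1 : A • d0 = d0) (k : x * (e v * σ A) ∈ thT h s P) : v = 0 ∧ A ∈ P := by
  obtain ⟨y, hy, B, hB, h2, k⟩ := k
  obtain ⟨-, k1, k2⟩ := h.nf_uniq s hx hy (v' := 0) trivial trivial h1 h2 (by rw [k, e_zero h.add, one_mul])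
  exact ⟨k1, k2 ▸ hB⟩

theorem th_mem' (h : Cf ⊤ e σ i) (s : Sd ⊤ e σ i π) {P : Subgroup O4} {x : G} (hx : x ∈ SS e σ i) {A : O4}
    (h1 : A • d0 = d0) : x * σ A ∈ thT h s P ↔ A ∈ P :=
  ⟨fun k => (th_mem h s hx (v := 0) h1 (by rwa [e_zero h.add, one_mul])).2, fun k => ⟨x, hx, A, k, h1, rfl⟩⟩

omit [Finite G] in
theorem th_S (h : Cf ⊤ e σ i) (s : Sd ⊤ e σ i π) {P : Subgroup O4} {x : G} (hx : x ∈ SS e σ i) : x ∈ thT h s P :=
  ⟨x, hx, 1, one_mem _, one_smul _ _, by rw [h.σ_one, mul_one]⟩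

theorem th_two_group (h : Cf ⊤ e σ i) (s : Sd ⊤ e σ i π) : IsPGroup 2 (thT h s thP) := by
  rintro ⟨_, x, hx, A, hA, h1, rfl⟩
  have k : x * σ A ∈ thT h s (zpowers A) := ⟨x, hx, A, mem_zpowers A, h1, rfl⟩
  have e1 : ∀ {x : G} {A : O4}, x ∈ SS e σ i → A • d0 = d0 → ∃ y ∈ SS e σ i, x * σ A * (x * σ A) = y * σ (A * A) :=
    fun {x A} hx h1 => ⟨_, mul_mem hx (s.aσ A trivial (Or.inl h1) x hx).1, by rw [h.σ_mul A trivial A trivial]; group⟩
  obtain ⟨y, hy, e2⟩ := e1 hx h1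
  obtain ⟨z, hz, e3⟩ := e1 hy (A := A * A) (by rw [mul_smul, h1, h1])
  rw [th_pow A h1 hA, h.σ_one, mul_one] at e3
  refine ⟨4, Subtype.ext ?_⟩
  show (x * σ A) ^ (2 * 2 * 2 * 2) = 1
  rw [pow_mul, pow_mul, pow_mul, pow_two (x * σ A), e2, pow_two (y * _), e3, pow_two z, s.sq z hz, ← pow_mul,
    mul_comm, pow_mul, pow_two, h.t2, one_pow]

theorem th_syl (h : Cf ⊤ e σ i) (s : Sd ⊤ e σ i π)
    (hm : ∀ g, g * σ r0 = σ r0 * g → ∃ x ∈ SS e σ i, x⁻¹ * g ∈ NN e) {g : G}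
    (hg : g ∈ normalizer (thT h s thP : Set G)) : g ∈ thT h s thP := by
  have gt : g * σ r0 = σ r0 * g := by
    have tc : ∀ y ∈ thT h s thP, y * σ r0 = σ r0 * y := by
      rintro _ ⟨x, hx, A, -, h1, rfl⟩
      exact Commute.mul_left (s.tc x hx) (h.ty_σt trivial h1)
    obtain ⟨x, hx, A, -, h1, k⟩ := (mem_normalizer_iff.1 hg _).1 (th_S h s s.tS)
    refine mul_inv_eq_iff_eq_mul.1 ((h.cS s hx (by rw [k, inv_mul_cancel_left]; exact h.σ_mem trivial)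
      fun y hy => ?_).resolve_left fun k => h.t1 (conj_eq_one_iff.1 k))
    calc _ = g * (σ r0 * (g⁻¹ * y * g)) * g⁻¹ := by group
      _ = _ := by rw [← tc _ ((mem_normalizer_iff''.1 hg y).1 (th_S h s hy))]; group
  obtain ⟨x, hx, k⟩ := hm g gt
  obtain ⟨x, hx, v, A, -, v1, h1, rfl⟩ := h.nf s hx k gt
  rw [mul_mem_cancel_left (le_normalizer (th_S h s hx))] at hg
  have d := (ty_dg true true true).2.1
  obtain rfl : v = 0 := th_v v v1 (th_mem h s (one_mem _) (P := thP) d (by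
    have := (mem_normalizer_iff.1 hg _).1 ((th_mem' h s (P := thP) (one_mem _) d).2 (by decide +kernel))
    rwa [show e v * σ A * (1 * σ (dg false true true true)) * (e v * σ A)⁻¹ =
      1 * (e v * (σ A * σ (dg false true true true) * (σ A)⁻¹ * (e v)⁻¹)) by group, h.σ_conj trivial trivial,
      th_cen A h1, ← e_neg h.add, h.σ_e' trivial, ← mul_assoc (e v), ← h.add] at this)).1
  rw [e_zero h.add, one_mul] at hg ⊢
  have d' : sw • d0 = d0 := by decide +kernel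
  refine (th_mem' h s hx h1).2 (th_nrm A h1 ((th_mem' h s (one_mem _) (by
    rw [mul_smul, mul_smul, inv_smul_eq_iff.2 h1.symm, d', h1])).1 ?_))
  have := (mem_normalizer_iff.1 hg _).1 ((th_mem' h s (P := thP) (one_mem _) d').2 (by decide +kernel))
  rwa [one_mul, h.σ_conj trivial trivial, ← one_mul (σ _)] at this

omit [Finite G] in
theorem th_s2 (h : Cf ⊤ e σ i) : σ sw * σ sw = 1 := by
  rw [← h.σ_mul _ trivial _ trivial, show sw * sw = 1 by decide +kernel, h.σ_one]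

theorem th_a (h : Cf ⊤ e σ i) (s : Sd ⊤ e σ i π) {x : G} (hx : x ∈ SS e σ i) (c : IsConj (σ sw) x) :
    q2 (π x) = 0 ∧ π x ≠ 0 := by
  refine ⟨(h.ty_sq s hx).1 ?_, fun k => ?_⟩
  · obtain ⟨g, rfl⟩ := isConj_iff.1 c
    rw [_root_.conj_mul, th_s2 h]; group
  rcases (s.zero x hx).1 k with rfl | rfl
  · exact h.s_dg false false false false (by rwa [show dg false false false false = 1 by decide +kernel, h.σ_one])
  · exact h.s_dg true false false false c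

theorem th_b (h : Cf ⊤ e σ i) (s : Sd ⊤ e σ i π) {x : G} (hx : x ∈ SS e σ i) (c : IsConj (σ sw) x)
    (k : ρσ cyc (π x) = π x) : False := by
  have d : cyc • d0 = d0 := by decide +kernel
  have c3 : σ cyc ^ 3 = 1 := by rw [← h.σ_pow trivial, show cyc ^ 3 = 1 by decide +kernel, h.σ_one]
  obtain ⟨k1, k2⟩ := s.aσ cyc trivial (Or.inl d) x hx
  have k3 := h.ty_fix3 s c3 (h.ty_σt trivial d) hx k1 (k2.trans k)
  obtain ⟨g, rfl⟩ := isConj_iff.1 c
  obtain ⟨c, v, -, -, e1⟩ := h.s3 (y := g⁻¹ * σ cyc * g⁻¹⁻¹) (by rw [conj_pow, c3]; group) (by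
    calc _ = g⁻¹ * (σ cyc * (g * σ sw * g⁻¹)) * g := by group
      _ = _ := by rw [k3]; group)
  exact h.nτ (c * g⁻¹) v (by rw [← e1]; group)

theorem th_64 (h : Cf ⊤ e σ i) (s : Sd ⊤ e σ i π) : 64 ∣ Nat.card (centralizer ({e y0} : Set G) ⊓
    centralizer ({ik σ i 1 * ik σ i 2} : Set G) : Subgroup G) := by
  have m1 : ik σ i 1 ∈ SS e σ i := ty_R (ty_ik 1)
  have m2 : ik σ i 2 ∈ SS e σ i := ty_R (ty_ik 2)
  have p : π (ik σ i 1 * ik σ i 2) = tyU (1, 0) 1 + tyU (1, 0) 2 := by rw [s.mul _ m1 _ m2, s.ty_i, s.ty_i]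
  have c12 : ik σ i 2 * ik σ i 1 = ik σ i 1 * ik σ i 2 := (h.ty_comm s m2 m1).2 (by rw [s.ty_i, s.ty_i]; decide)
  have u2 := (h.ty_sq s (mul_mem m1 m2)).2 (by rw [p]; decide)
  set E := centralizer ({e y0} : Set G) ⊓ centralizer ({ik σ i 1 * ik σ i 2} : Set G) with hE
  have hU : Nat.card ↥(SS e σ i ⊓ E) = 16 := by
    rw [h.card_pre s (fun c => ρe y0 c = c ∧ b2 c (tyU (1, 0) 1 + tyU (1, 0) 2) = 0) fun x => ?_, th_eight]
    refine and_congr_right fun hx => and_congr ?_ ?_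
    · obtain ⟨k1, k2⟩ := s.ae y0 rfl x hx
      refine mem_centralizer_singleton_iff.trans ⟨fun k => ?_, fun k =>
        (h.ty_fix3 s (e_cube h.add _) (h.e_t.2 rfl) hx k1 (k2.trans k)).symm⟩
      rw [← k2, ← k, mul_inv_cancel_right]
    · rw [← p, ← h.ty_comm s hx (mul_mem m1 m2)]
      exact mem_centralizer_singleton_iff
  have hB : ∀ k, σ (thB k) ∈ E := fun k => by
    refine ⟨mem_centralizer_singleton_iff.2 (by rw [h.σ_e' trivial, (th_B k).2.2.1]), ?_⟩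
    have b1 : σ r1 ∈ centralizer ({ik σ i 1 * ik σ i 2} : Set G) := mem_centralizer_singleton_iff.2
      (mul_inv_eq_iff_eq_mul.1 (by
        rw [← _root_.conj_mul, (h.ik_conj' trivial (Or.inl (by decide +kernel)) (k := 1) (l := 2) (by decide +kernel)).1,
          (h.ik_conj' trivial (Or.inl (by decide +kernel)) (k := 2) (l := 1) (by decide +kernel)).1, ← mul_inv_rev,
          inv_eq_of_mul_eq_one_right u2]))
    have b2 : σ sw ∈ centralizer ({ik σ i 1 * ik σ i 2} : Set G) := mem_centralizer_singleton_iff.2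
      (mul_inv_eq_iff_eq_mul.1 (by
        rw [← _root_.conj_mul, (h.ik_conj trivial (Or.inl (by decide +kernel)) (k := 1) (l := 2) (by decide +kernel)).1,
          (h.ik_conj trivial (Or.inl (by decide +kernel)) (k := 2) (l := 1) (by decide +kernel)).1, c12]))
    fin_cases k
    · exact h.σ_one.symm ▸ one_mem _
    · exact b1
    · exact b2
    · exact (h.σ_mul r1 trivial sw trivial).symm ▸ mul_mem b1 b2
  have hle := Nat.card_le_card_of_injective (fun p : ↥(SS e σ i ⊓ E) × Fin 4 =>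
    (⟨p.1 * σ (thB p.2), mul_mem p.1.2.2 (hB _), (th_mem' h s p.1.2.1 (th_B _).1).2 (th_B _).2.1⟩ :
      ↥(E ⊓ thT h s thP))) fun p p' k => by
    obtain ⟨k1, -, k2⟩ := h.nf_uniq s p.1.2.1 p'.1.2.1 (v := 0) (v' := 0) trivial trivial (th_B p.2).1 (th_B p'.2).1
      (by simpa only [e_zero h.add, one_mul] using congrArg Subtype.val k)
    exact Prod.ext (Subtype.ext k1) ((th_B _).2.2.2 _ k2)
  obtain ⟨n, hn⟩ := IsPGroup.iff_card.1 ((th_two_group h s).to_le (inf_le_right : E ⊓ thT h s thP ≤ _))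
  rw [Nat.card_prod, hU, hn, Nat.card_fin] at hle
  refine Dvd.dvd.trans ?_ (card_dvd_of_le (inf_le_left : E ⊓ thT h s thP ≤ E))
  rw [hn]
  exact pow_dvd_pow 2 ((Nat.pow_le_pow_iff_right one_lt_two).1 (show 2 ^ 6 ≤ _ from hle))

theorem th_c (h : Cf ⊤ e σ i) (s : Sd ⊤ e σ i π)
    (n64 : ¬ 64 ∣ Nat.card (centralizer ({e y0} : Set G) ⊓ centralizer ({σ sw} : Set G) : Subgroup G))
    {x : G} (hx : x ∈ SS e σ i) (c : IsConj (σ sw) x) (k : π x = tyU (1, 0) 1 + tyU (1, 0) 2) : False := by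
  have m1 : ik σ i 1 ∈ SS e σ i := ty_R (ty_ik 1)
  have m2 : ik σ i 2 ∈ SS e σ i := ty_R (ty_ik 2)
  have p : π (ik σ i 1 * ik σ i 2) = tyU (1, 0) 1 + tyU (1, 0) 2 := by rw [s.mul _ m1 _ m2, s.ty_i, s.ty_i]
  have yu : Commute (e y0) (ik σ i 1 * ik σ i 2) :=
    Commute.mul_right (h.Rk_B (ty_ik 1) rfl (by decide)).symm (h.Rk_B (ty_ik 2) rfl (by decide)).symm
  have h64 := th_64 h s
  have mu := mul_mem m1 m2
  generalize ik σ i 1 * ik σ i 2 = u at *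
  have c1 : IsConj u (σ sw) := by
    rcases s.ty_eq hx mu (k.trans p.symm) with rfl | rfl
    · exact c.symm
    · refine IsConj.trans (isConj_iff.2 ⟨jk e σ i 1, ?_⟩) c.symm
      rw [s.cm _ (ty_R (ty_jk 1)) _ mu, s.ty_j, p, show (b2 (tyU (0, 1) 1) (tyU (1, 0) 1 + tyU (1, 0) 2)).val = 1 by
        decide, pow_one, mul_assoc u, s.tc _ (ty_R (ty_jk 1))]
      group
  obtain ⟨g, hg⟩ := isConj_iff.1 c1
  obtain ⟨c, w, c1, c2, c3⟩ := h.s3 (y := g * e y0 * g⁻¹) (by rw [conj_pow, e_cube h.add]; group)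
    (hg ▸ (yu.conj g).eq)
  obtain ⟨B, b1, b2⟩ := th_tr w c2 ((h.fus_q (g := c * g) (v := y0) (by rw [← c3]; group)).trans (by decide))
  have e1 : σ B * c * g * e y0 * (σ B * c * g)⁻¹ = e y0 := by
    nth_rw 2 [← b1]
    rw [← h.σ_e B trivial, ← c3]; group
  have e2 : σ B * c * g * u * (σ B * c * g)⁻¹ = σ sw := by
    rw [← b2, ← h.σ_conj trivial trivial, ← mul_inv_eq_iff_eq_mul.2 c1, ← hg]; group
  generalize σ B * c * g = f at e1 e2
  refine n64 (h64.trans (dvd_of_eq (Nat.card_congr ((MulAut.conj f).toEquiv.subtypeEquiv fun a => ?_))))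
  have key : ∀ b, a ∈ centralizer ({b} : Set G) ↔ f * a * f⁻¹ ∈ centralizer ({f * b * f⁻¹} : Set G) := fun b => by
    simp only [mem_centralizer_singleton_iff, _root_.conj_mul, mul_left_inj, mul_right_inj]
  rw [mem_inf, mem_inf, key, key u, e1, e2]
  rfl

theorem th_d (h : Cf ⊤ e σ i) (s : Sd ⊤ e σ i π)
    (n64 : ¬ 64 ∣ Nat.card (centralizer ({e y0} : Set G) ⊓ centralizer ({σ sw} : Set G) : Subgroup G))
    {x : G} (hx : x ∈ SS e σ i) (c : IsConj (σ sw) x) : False := by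
  rcases th_cls _ (th_a h s hx c).1 with ⟨v, v1, k⟩ | ⟨k, k1, k2⟩
  · obtain ⟨a1, a2⟩ := s.ae v v1 x hx
    exact th_b h s a1 (c.trans (isConj_iff.2 ⟨_, rfl⟩)) (a2 ▸ k)
  obtain ⟨a1, a2⟩ := s.aσ (thA k) trivial (Or.inl (th_A k)) x hx
  have c1 := c.trans (isConj_iff.2 ⟨σ (thA k), rfl⟩)
  rw [← a2] at k1 k2
  obtain ⟨v, v1, k3⟩ := th_two _ k1 k2 (th_a h s a1 c1).1 (th_a h s a1 c1).2
  obtain ⟨b1, b2⟩ := s.ae v v1 _ a1
  exact th_c h s n64 b1 (c1.trans (isConj_iff.2 ⟨_, rfl⟩)) (b2.trans k3)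

/-- notes/O83.md, section Th -/
theorem Cf.th (h : Cf ⊤ e σ i) (s : Sd ⊤ e σ i π)
    (hm : ∀ g, g * σ r0 = σ r0 * g → ∃ x ∈ SS e σ i, x⁻¹ * g ∈ NN e)
    (n64 : ¬ 64 ∣ Nat.card (centralizer ({e y0} : Set G) ⊓ centralizer ({σ sw} : Set G) : Subgroup G)) :
    ∃ G₁ : Subgroup G, G₁.index = 2 ∧ ∀ A, σ A ∈ G₁ ↔ A ∈ Γ1 := by
  obtain ⟨S, hS⟩ := OR.exists_sylow_of_norm (E := ⊤) le_top (th_two_group h s) fun g _ hg _ _ => th_syl h s hm hg
  let P := (th_two_group h s).toSylow (by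
    have := S.not_dvd_index
    rwa [hS, ← relIndex, relIndex_top_right] at this)
  have d : sw • d0 = d0 := by decide +kernel
  have p : sw ∈ thP := by decide +kernel
  have s1 : σ sw ∈ thT h s thP := one_mul (σ sw) ▸ (th_mem' h s (one_mem _) d).2 p
  rcases S0111.result P (thT h s (thP ⊓ Γ1)) (fun _ ⟨x, hx, A, hA, k⟩ => ⟨x, hx, A, hA.1, k⟩)
    (index_eq_two_iff.2 ⟨⟨σ sw, s1⟩, fun ⟨_, x, hx, A, hA, h1, rfl⟩ => by
      have k1 := th_mem' h s (P := thP ⊓ Γ1) hx h1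
      have k2 := th_mem' h s (P := thP ⊓ Γ1) hx (A := A * sw) (by rw [mul_smul, d, h1])
      rw [h.σ_mul _ trivial _ trivial, ← mul_assoc] at k2
      by_cases m : A ∈ Γ1
      · exact Or.inr ⟨k1.2 ⟨hA, m⟩, fun n => sw_not_mem ((Γ1.mul_mem_cancel_left m).1 (k2.1 n).2)⟩
      · exact Or.inl ⟨k2.2 ⟨mul_mem hA p, mul_mem_Γ1 m sw_not_mem⟩, fun n => m (k1.1 n).2⟩⟩) (σ sw)
    (orderOf_eq_prime ((pow_two _).trans (th_s2 h)) fun k => sw_not_mem
      ((h.σ_inj trivial trivial).1 (k.trans h.σ_one.symm) ▸ one_mem _)) s1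
    (fun k => sw_not_mem ((th_mem' h s (P := thP ⊓ Γ1) (one_mem _) d).1 ((one_mul (σ sw)).symm ▸ k)).2) with
    ⟨M, hM, M2, sM⟩ | ⟨g, x, hx, A, hA, h1, k⟩
  · have sq := mul_self_mem_of_index_two M2
    let f : O4 →* G := MonoidHom.mk' σ fun A B => h.σ_mul A trivial B trivial
    have k0 : r0 ∈ M.comap f := show σ r0 ∈ M from h.ii ▸ sq i
    have k3 : ∀ A : O4, A * A * (A * A) = A → A ∈ M.comap f := fun A k => by
      rw [← k, mem_comap, map_mul]; exact sq _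
    have hle : Γ1 ≤ M.comap f := Γ1_le_of k0
      ((show sw01 * r0 * sw01⁻¹ = r1 by decide +kernel) ▸ (hM.comap f).conj_mem _ k0 sw01)
      (k3 _ (by decide +kernel)) (k3 _ (by decide +kernel))
    exact ⟨M, M2, fun A => ⟨fun m => by_contra fun n => sM (((M.comap f).mul_mem_cancel_right m).1
      (hle (mul_mem_Γ1 sw_not_mem n))), fun m => hle m⟩⟩
  exfalso
  have c : IsConj (σ sw) (x * σ A) := isConj_iff.2 ⟨g, k⟩
  obtain ⟨b, c', d', rfl⟩ := th_diag A h1 hA.1 hA.2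
  by_cases a : b = true ∨ c' = true ∨ d' = true
  · obtain ⟨ρ, -, k1⟩ := h.free s trivial h1 (ty_dg b c' d').2.2 (fun _ => dg_free a _) hx
      (Or.inl (by rw [← k, _root_.conj_mul, th_s2 h]; group))
    rcases k1 with k1 | k1
    · exact h.s_dg _ _ _ _ (c.trans (isConj_iff.2 ⟨ρ, k1⟩))
    · rw [← h.σ_mul _ trivial _ trivial, (ty_dg b c' d').1] at k1
      exact h.s_dg _ _ _ _ (c.trans (isConj_iff.2 ⟨ρ, k1⟩))
  · rw [show dg false b c' d' = 1 by revert a; cases b <;> cases c' <;> cases d' <;> decide +kernel, h.σ_one,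
      mul_one] at c
    exact th_d h s n64 hx c

end Cfsg.Agent.O83
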