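import Cfsg.Agent.O83.Nc
import Cfsg.Agent.O83.Fr
import Cfsg.Agent.O83.Tya

set_option autoImplicit false
set_option synthInstance.maxSize 4096
set_option maxRecDepth 100000

namespace Cfsg.Agent.O83

open Subgroup

/-- minus one on `d0^⊥` -/
def tyN : O4 := dg false true true true
/-- conjugating elements -/
def tyB : List O4 := [1, cyc, cyc * cyc, r2, cyc * r2, cyc * cyc * r2]
/-- the short reflections fixing `d0` -/
def tyS : List O4 := tyB.map fun B => B * sw * B⁻¹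
/-- the involutions of type `c` -/
def tyC : List O4 := tyN :: tyB.map fun B => B * (sw * tyN) * B⁻¹

theorem ty_B {B : O4} (h : B ∈ tyB) : B ∈ Γ1 ∧ B • d0 = d0 := of_decide_eq_true
  (List.all_eq_true.1 (by decide +kernel : (tyB.all fun B => decide (B ∈ Γ1 ∧ B • d0 = d0)) = true) B h)

theorem ty_cls : ∀ A : O4, A • d0 = d0 → A * A = 1 → A = 1 ∨ A ∈ tyS ∨ A ∈ tyC ∨ ∃ b c d, A = dg false b c d ∧
    (b.toNat + c.toNat + d.toNat = 1 ∨ b.toNat + c.toNat + d.toNat = 2) := by decide +kernel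

theorem ty_pair {L M : List O4} {p : O4 → Prop} [DecidablePred p]
    (h : (L.all fun A => M.all fun B => decide (p (A * B))) = true) {A B : O4} (hA : A ∈ L) (hB : B ∈ M) :
    p (A * B) := of_decide_eq_true (List.all_eq_true.1 (List.all_eq_true.1 h A hA) B hB)

theorem ty_SS {A B : O4} (hA : A ∈ tyS) (hB : B ∈ tyS) : A * B ∉ tyS ∧ A * B ∉ tyC :=
  ty_pair (p := fun C => C ∉ tyS ∧ C ∉ tyC) (by decide +kernel) hA hB
theorem ty_CC {A B : O4} (hA : A ∈ tyC) (hB : B ∈ tyC) : A * B ∉ tyC :=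
  ty_pair (p := fun C => C ∉ tyC) (by decide +kernel) hA hB
theorem ty_SC {A B : O4} (hA : A ∈ tyS) (hB : B ∈ tyC) : A * B ∉ tyS :=
  ty_pair (p := fun C => C ∉ tyS) (by decide +kernel) hA hB
theorem ty_CS {A B : O4} (hA : A ∈ tyC) (hB : B ∈ tyS) : A * B ∉ tyS :=
  ty_pair (p := fun C => C ∉ tyS) (by decide +kernel) hA hB

theorem ty_N (c : V8) : ρσ tyN c = (mu c.1, mu c.2.1, mu c.2.2.1, mu c.2.2.2) := by revert c; decide +kernel

theorem ty_swN (c : V8) : ρσ (sw * tyN) c = (mu c.1, mu c.2.2.1, mu c.2.1, mu c.2.2.2) := by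
  revert c; decide +kernel

/-- what is needed for type `c` -/
def TyF (A : O4) : Prop := A • d0 = d0 ∧ A * A = 1 ∧ (∀ c, ρσ A c = c → ∃ c', c = c' + ρσ A c') ∧
  (Finset.univ.filter fun c => ρσ A c = c).card = 16 ∧ ∃ c, ρσ A c = c ∧ q2 c ≠ 0

theorem tyF_N : TyF tyN := by
  refine ⟨by decide +kernel, by decide +kernel, ?_⟩
  simp only [ty_N]
  decide +kernel

theorem tyF_swN : TyF (sw * tyN) := by
  refine ⟨by decide +kernel, by decide +kernel, ?_⟩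
  simp only [ty_swN]
  decide +kernel

theorem ty_s1 : (Finset.univ.filter fun c => ρσ sw c = c).card = 64 := by
  simp only [ty_sw]
  decide +kernel

theorem ty_s2 (c : V8) : q2 (c + ρσ sw c) = 0 := by
  rw [ty_sw]; revert c; decide +kernel

theorem ty_s3 (c : V8) (h : ρσ sw c = c) : c = c.1.1.val • tyU (1, 0) 0 + c.1.2.val • tyU (0, 1) 0 +
    c.2.2.2.1.val • tyU (1, 0) 3 + c.2.2.2.2.val • tyU (0, 1) 3 + c.2.1.1.val • (tyU (1, 0) 1 + tyU (1, 0) 2) +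
    c.2.1.2.val • (tyU (0, 1) 1 + tyU (0, 1) 2) := by
  rw [ty_sw] at h; revert c; decide +kernel

theorem ty_s4 (c : V8) (h : ∀ c', ρσ sw c' = c' → b2 c c' = 0) : ∃ c', c = c' + ρσ sw c' := by
  have h0 := h (tyU (1, 0) 0) (by decide +kernel)
  have h1 := h (tyU (0, 1) 0) (by decide +kernel)
  have h2 := h (tyU (1, 0) 3) (by decide +kernel)
  have h3 := h (tyU (0, 1) 3) (by decide +kernel)
  have h4 := h (tyU (1, 0) 1 + tyU (1, 0) 2) (by decide +kernel)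
  have h5 := h (tyU (0, 1) 1 + tyU (0, 1) 2) (by decide +kernel)
  refine ⟨(0, c.2.1, 0, 0), ?_⟩
  rw [ty_sw]
  clear h
  revert c; decide +kernel

variable {G : Type*} [Group G] [Finite G] {Γ : Subgroup O4} {e : V → G} {σ : O4 → G} {i : G} {π : G → V8}

section cj

variable {t g u : G} {S : Subgroup G}

omit [Finite G] in
theorem ty_bad (hg : g ∈ normalizer (S : Set G)) (gt : g * t = t * g) (h : Bad t S u) : Bad t S (g * u * g⁻¹) := by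
  have e : g * t * g⁻¹ = t := mul_inv_eq_iff_eq_mul.2 gt
  refine ⟨mul_mem (mul_mem hg h.1) (inv_mem hg), fun k => h.2.1 ((mem_normalizer_iff.1 hg u).2 k), ?_, ?_⟩
  · rw [_root_.conj_mul]
    exact h.2.2.1.imp (fun k => by rw [k]; group) fun k => by rw [k, e]
  · rw [← e, _root_.conj_mul]
    exact ((isConj_iff.2 ⟨g, rfl⟩ : IsConj u _).symm.trans h.2.2.2).trans (isConj_iff.2 ⟨g, rfl⟩)

theorem ty_UU (t2 : t * t = 1) (tc : ∀ x ∈ S, x * t = t * x) (hg : g ∈ normalizer (S : Set G))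
    (gt : g * t = t * g) {x : G} : g * x * g⁻¹ ∈ UU t S (g * u * g⁻¹) ↔ x ∈ UU t S u := by
  have e : g * t * g⁻¹ = t := mul_inv_eq_iff_eq_mul.2 gt
  by_cases hx : x ∈ S
  · rw [mem_UU t2 (tc x hx), mem_UU t2 (tc _ ((mem_normalizer_iff.1 hg x).1 hx)), ← mem_normalizer_iff.1 hg,
      show g * x * g⁻¹ * (g * u * g⁻¹) * (g * x * g⁻¹)⁻¹ = g * (x * u * x⁻¹) * g⁻¹ by group]
    nth_rw 1 [← e]
    rw [_root_.conj_mul, mul_left_inj, mul_right_inj, mul_left_inj, mul_right_inj]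
  · exact iff_of_false (fun k => hx ((mem_normalizer_iff.1 hg x).2 k.1)) fun k => hx k.1

theorem ty_card (t2 : t * t = 1) (tc : ∀ x ∈ S, x * t = t * x) (hg : g ∈ normalizer (S : Set G))
    (gt : g * t = t * g) : Nat.card (UU t S (g * u * g⁻¹)) = Nat.card (UU t S u) :=
  (Nat.card_congr ((MulAut.conj g).toEquiv.subtypeEquiv fun _ => (ty_UU t2 tc hg gt).symm)).symm

theorem ty_TC (t2 : t * t = 1) (tc : ∀ x ∈ S, x * t = t * x) (hg : g ∈ normalizer (S : Set G))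
    (gt : g * t = t * g) (h : TC t S (g * u * g⁻¹)) : TC t S u := by
  obtain ⟨h1, h2, h3, x, h4, h5⟩ := h
  refine ⟨by rwa [_root_.conj_mul, conj_eq_one_iff] at h1, by rwa [ty_card t2 tc hg gt] at h2, fun y hy => ?_,
    g⁻¹ * x * g, (ty_UU t2 tc hg gt).1 (by rwa [show g * (g⁻¹ * x * g) * g⁻¹ = x by group]), fun k => h5 ?_⟩
  · obtain ⟨ρ, hρ, k⟩ := h3 _ ((ty_UU t2 tc hg gt).2 hy)
    refine ⟨g⁻¹ * ρ * g, (mem_normalizer_iff''.1 hg ρ).1 hρ, k.imp (fun k => ?_) fun k => ?_⟩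
    · calc y = g⁻¹ * (g * y * g⁻¹) * g := by group
        _ = _ := by rw [k]; group
    · calc y * t = g⁻¹ * (g * y * g⁻¹ * (g * t * g⁻¹)) * g := by group
        _ = _ := by rw [mul_inv_eq_iff_eq_mul.2 gt, k]; group
  · calc x * x = g * (g⁻¹ * x * g * (g⁻¹ * x * g)) * g⁻¹ := by group
      _ = 1 := by rw [k]; group

theorem ty_TS (t2 : t * t = 1) (tc : ∀ x ∈ S, x * t = t * x) (hg : g ∈ normalizer (S : Set G))
    (gt : g * t = t * g) (h : TS t S (g * u * g⁻¹)) : TS t S u := by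
  obtain ⟨h2, h3, x, h4, h5⟩ := h
  refine ⟨by rwa [ty_card t2 tc hg gt] at h2, fun ρ hρ => ?_,
    g⁻¹ * x * g, (ty_UU t2 tc hg gt).1 (by rwa [show g * (g⁻¹ * x * g) * g⁻¹ = x by group]), fun k => h5 ?_⟩
  · have := h3 _ ((mem_normalizer_iff.1 hg ρ).1 hρ)
    rwa [show g * ρ * g⁻¹ * (g * u * g⁻¹) * (g * ρ * g⁻¹)⁻¹ * (g * u * g⁻¹)⁻¹ = g * (ρ * u * ρ⁻¹ * u⁻¹) * g⁻¹ by group,
      _root_.conj_mul, conj_eq_one_iff] at this
  · calc g * u * g⁻¹ * x = g * (u * (g⁻¹ * x * g)) * g⁻¹ := by group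
      _ = _ := by rw [k]; group

end cj

omit [Finite G] in
theorem Sd.ty_com (s : Sd Γ e σ i π) {A : O4} (hA : A ∈ Γ) (h1 : A • d0 = d0) {x ρ : G} (hx : x ∈ SS e σ i)
    (hρ : ρ ∈ SS e σ i) : ρ * (x * σ A) * ρ⁻¹ * (x * σ A)⁻¹ ∈ SS e σ i ∧
      π (ρ * (x * σ A) * ρ⁻¹ * (x * σ A)⁻¹) = π ρ + ρσ A (π ρ) := by
  obtain ⟨k1, k2⟩ := s.aσ A hA (Or.inl h1) _ (inv_mem hρ)
  have k3 := mul_mem (mul_mem hx k1) (inv_mem hx)
  rw [show ρ * (x * σ A) * ρ⁻¹ * (x * σ A)⁻¹ = ρ * (x * (σ A * ρ⁻¹ * (σ A)⁻¹) * x⁻¹) by group]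
  exact ⟨mul_mem hρ k3, by rw [s.mul _ hρ _ k3, s.ty_cj hx k1, k2, s.ty_inv hρ]⟩

theorem Cf.ty_mem (h : Cf Γ e σ i) (s : Sd Γ e σ i π) {A : O4} (hA : A ∈ Γ) (h1 : A • d0 = d0) {x : G}
    (hx : x ∈ SS e σ i) (y : G) : y ∈ UU (σ r0) (SS e σ i) (x * σ A) ↔ y ∈ SS e σ i ∧ ρσ A (π y) = π y := by
  by_cases hy : y ∈ SS e σ i
  · obtain ⟨k1, k2⟩ := s.ty_com hA h1 hx hy
    rw [mem_UU h.t2 (s.tc y hy), eq_comm (b := π y), ← ty_add, ← k2, s.zero _ k1, mul_inv_eq_one,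
      mul_inv_eq_iff_eq_mul (b := x * σ A), ← mul_assoc (σ r0), ← s.tc x hx, mul_assoc x (σ r0), ← h.ty_σt hA h1,
      ← mul_assoc x]
  · exact iff_of_false (fun k => hy k.1) fun k => hy k.1

omit [Finite G] in
theorem ty_isConj {t u a ρ : G} (t2 : t * t = 1) (hρ : ρ * t = t * ρ) (h : IsConj u (u * t))
    (k : ρ * u * ρ⁻¹ = a ∨ ρ * u * ρ⁻¹ = a * t) : IsConj a (a * t) := by
  have e : IsConj (ρ * u * ρ⁻¹) (ρ * u * ρ⁻¹ * t) := by
    rw [← mul_inv_eq_iff_eq_mul.2 hρ, _root_.conj_mul]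
    exact ((isConj_iff.2 ⟨ρ, rfl⟩ : IsConj u _).symm.trans h).trans (isConj_iff.2 ⟨ρ, rfl⟩)
  rcases k with k | k <;> rw [k] at e
  · exact e
  · rw [mul_assoc, t2, mul_one] at e
    exact e.symm

theorem Cf.ty_c (h : Cf Γ e σ i) (s : Sd Γ e σ i π) {A : O4} (hA : A ∈ Γ) (f : TyF A) {x : G}
    (hx : x ∈ SS e σ i) (hb : Bad (σ r0) (SS e σ i) (x * σ A)) : TC (σ r0) (SS e σ i) (x * σ A) := by
  obtain ⟨h1, h2, h3, h4, c, h5, h6⟩ := f
  refine ⟨?_, by rw [h.card_pre s (fun c => ρσ A c = c) (h.ty_mem s hA h1 hx), h4], fun y hy => ?_, ?_⟩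
  · obtain ⟨ρ, -, k⟩ := h.free s hA h1 h2 h3 hx hb.2.2.1
    have a2 : σ A * σ A = 1 := by rw [← h.σ_mul A hA A hA, h2, h.σ_one]
    rw [← conj_eq_one_iff (a := ρ), ← _root_.conj_mul]
    rcases k with k | k <;> rw [k]
    · exact a2
    · rw [mul_assoc, ← mul_assoc (σ r0), ← h.ty_σt hA h1, mul_assoc, h.t2, mul_one, a2]
  · obtain ⟨y1, y2⟩ := (h.ty_mem s hA h1 hx y).1 hy
    obtain ⟨c', e1⟩ := h3 _ y2
    obtain ⟨ρ, hρ, rfl⟩ := s.sur c'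
    obtain ⟨k1, k2⟩ := s.ty_com hA h1 hx hρ
    exact ⟨ρ, hρ, (s.ty_eq k1 y1 (k2.trans e1.symm)).imp Eq.symm Eq.symm⟩
  · obtain ⟨y, hy, rfl⟩ := s.sur c
    exact ⟨y, (h.ty_mem s hA h1 hx y).2 ⟨hy, h5⟩, fun k => h6 ((h.ty_sq s hy).1 k)⟩

theorem Cf.ty_swc (h : Cf Γ e σ i) (s : Sd Γ e σ i π) (hA : sw ∈ Γ) {y : G} (hy : y ∈ SS e σ i)
    (hf : ρσ sw (π y) = π y) : σ sw * y = y * σ sw := by
  let P : AddSubmonoid V8 :=
    { carrier := {c | ∃ x ∈ SS e σ i, Commute (σ sw) x ∧ π x = c}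
      zero_mem' := ⟨1, one_mem _, Commute.one_right _, s.ty_one⟩
      add_mem' := by
        rintro _ _ ⟨x, hx, c, rfl⟩ ⟨x', hx', c', rfl⟩
        exact ⟨x * x', mul_mem hx hx', c.mul_right c', s.mul x hx x' hx'⟩ }
  have d : sw • d0 = d0 := by decide +kernel
  have a0 := h.ik_conj hA (Or.inl d) (k := 0) (l := 0) (by decide +kernel)
  have a1 := h.ik_conj hA (Or.inl d) (k := 1) (l := 2) (by decide +kernel)
  have a2 := h.ik_conj hA (Or.inl d) (k := 2) (l := 1) (by decide +kernel)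
  have a3 := h.ik_conj hA (Or.inl d) (k := 3) (l := 3) (by decide +kernel)
  have key : ∀ {a b : G}, a ∈ SS e σ i → b ∈ SS e σ i → σ sw * a * (σ sw)⁻¹ = b → σ sw * b * (σ sw)⁻¹ = a →
      b2 (π b) (π a) = 0 → π a + π b ∈ P := fun ha hb e1 e2 e3 =>
    ⟨_, mul_mem ha hb, mul_inv_eq_iff_eq_mul.1 (by rw [← _root_.conj_mul, e1, e2, (h.ty_comm s hb ha).2 e3]),
      s.mul _ ha _ hb⟩
  obtain ⟨x, hx, c, e1⟩ : π y ∈ P := by
    rw [ty_s3 _ hf]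
    refine add_mem (add_mem (add_mem (add_mem (add_mem (nsmul_mem ?_ _) (nsmul_mem ?_ _)) (nsmul_mem ?_ _))
      (nsmul_mem ?_ _)) (nsmul_mem ?_ _)) (nsmul_mem ?_ _)
    · exact ⟨_, ty_R (ty_ik 0), mul_inv_eq_iff_eq_mul.1 a0.1, s.ty_i 0⟩
    · exact ⟨_, ty_R (ty_jk 0), mul_inv_eq_iff_eq_mul.1 a0.2, s.ty_j 0⟩
    · exact ⟨_, ty_R (ty_ik 3), mul_inv_eq_iff_eq_mul.1 a3.1, s.ty_i 3⟩
    · exact ⟨_, ty_R (ty_jk 3), mul_inv_eq_iff_eq_mul.1 a3.2, s.ty_j 3⟩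
    · rw [← s.ty_i, ← s.ty_i]
      exact key (ty_R (ty_ik 1)) (ty_R (ty_ik 2)) a1.1 a2.1 (by rw [s.ty_i, s.ty_i]; decide)
    · rw [← s.ty_j, ← s.ty_j]
      exact key (ty_R (ty_jk 1)) (ty_R (ty_jk 2)) a1.2 a2.2 (by rw [s.ty_j, s.ty_j]; decide)
  rcases s.ty_eq hy hx e1.symm with rfl | rfl
  · exact c
  · exact c.mul_right (h.ty_σt hA d)

theorem Cf.ty_s (h : Cf Γ e σ i) (s : Sd Γ e σ i π) (hA : sw ∈ Γ) {x : G}
    (hx : x ∈ SS e σ i) (hb : Bad (σ r0) (SS e σ i) (x * σ sw)) : TS (σ r0) (SS e σ i) (x * σ sw) := by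
  have d : sw • d0 = d0 := by decide +kernel
  refine ⟨by rw [h.card_pre s (fun c => ρσ sw c = c) (h.ty_mem s hA d hx), ty_s1], fun ρ hρ => ?_, ?_⟩
  · obtain ⟨k1, k2⟩ := s.ty_com hA d hx hρ
    rw [h.ty_sq s k1, k2, ty_s2]
  by_contra! hc
  obtain ⟨c', e1⟩ := ty_s4 (π x) fun c hc' => by
    obtain ⟨y, hy, rfl⟩ := s.sur c
    have := hc y ((h.ty_mem s hA d hx y).2 ⟨hy, hc'⟩)
    rw [mul_assoc, h.ty_swc s hA hy hc', ← mul_assoc, ← mul_assoc, mul_left_inj] at this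
    exact (h.ty_comm s hx hy).1 this
  obtain ⟨ρ, hρ, rfl⟩ := s.sur c'
  obtain ⟨k1, k2⟩ := s.ty_com hA d (one_mem _) hρ
  obtain rfl : Γ = ⊤ := h.hΓ.resolve_left fun k => sw_not_mem (k ▸ hA)
  refine h.s_st (ty_isConj h.t2 (ρ := ρ⁻¹) (s.tc _ (inv_mem hρ)) hb.2.2.2 ?_)
  rcases s.ty_eq hx k1 (e1.trans k2.symm) with k | k <;> rw [k]
  · left; group
  · right
    rw [mul_assoc _ (σ r0), ← h.ty_σt hA d, inv_inv, mul_assoc, mul_assoc, mul_assoc _ (σ r0), ← s.tc ρ hρ]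
    group

theorem Cf.ty_main (h : Cf Γ e σ i) (s : Sd Γ e σ i π) {A : O4} (hA : A ∈ Γ) (h1 : A • d0 = d0) {v : V}
    (v1 : v.1 = 0) {x : G} (hx : x ∈ SS e σ i) (hb : Bad (σ r0) (SS e σ i) (x * (e v * σ A))) :
    (A ∈ tyC ∧ TC (σ r0) (SS e σ i) (x * (e v * σ A))) ∨ (A ∈ tyS ∧ TS (σ r0) (SS e σ i) (x * (e v * σ A))) := by
  have nσ : ∀ B ∈ Γ, B • d0 = d0 → σ B ∈ normalizer (SS e σ i : Set G) := fun B hB k =>
    h.NH_S s (h.σ_mem hB) (h.ty_σt hB k)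
  have ne : e v ∈ normalizer (SS e σ i : Set G) := h.NH_S s (h.e_mem v) (h.e_t.2 v1)
  obtain ⟨k1, k2⟩ : v + A • v = 0 ∧ A * A = 1 := by
    have m := mul_mem hx ((mem_normalizer_iff.1 (mul_mem ne (nσ A hA h1)) x).1 hx)
    have e1 : x * (e v * σ A) * (x * (e v * σ A)) =
        x * (e v * σ A * x * (e v * σ A)⁻¹) * (e (v + A • v) * σ (A * A)) := by rw [← h.mul_eq hA hA]; group
    have e2 : ∀ y : G, y = y * (e 0 * σ 1) := fun y => by rw [e_zero h.add, h.σ_one, mul_one, mul_one]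
    rcases hb.2.2.1 with k | k
    · exact (h.nf_uniq s m (one_mem _) (mul_mem hA hA) (one_mem _) (by rw [mul_smul, h1, h1]) (one_smul _ _)
        (e1.symm.trans (k.trans (e2 _)))).2
    · exact (h.nf_uniq s m s.tS (mul_mem hA hA) (one_mem _) (by rw [mul_smul, h1, h1]) (one_smul _ _)
        (e1.symm.trans (k.trans (e2 _)))).2
  have e3 : e v * (x * (e v * σ A)) * (e v)⁻¹ = e v * x * (e v)⁻¹ * σ A := by
    have : e v * (e v * σ A) * (e v)⁻¹ = σ A := by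
      rw [← e_neg h.add, mul_assoc, mul_assoc, h.σ_e' hA, ← mul_assoc, ← mul_assoc, ← h.add, ← h.add, smul_neg,
        ← eq_neg_of_add_eq_zero_left k1, add_three, e_zero h.add, one_mul]
    calc _ = e v * x * (e v)⁻¹ * (e v * (e v * σ A) * (e v)⁻¹) := by group
      _ = _ := by rw [this]
  have b1 := ty_bad ne (h.e_t.2 v1) hb
  have x1 := (mem_normalizer_iff.1 ne x).1 hx
  rw [e3] at b1
  have key : ∀ B ∈ tyB, ∀ C, A = B * C * B⁻¹ → C ∈ Γ ∧ ∃ g ∈ normalizer (SS e σ i : Set G), g * σ r0 = σ r0 * g ∧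
      ∃ y ∈ SS e σ i, g * (e v * x * (e v)⁻¹ * σ A) * g⁻¹ = y * σ C := fun B hB C e4 => by
    have m := h.Γ1_le (ty_B hB).1
    have m2 : C ∈ Γ := by rwa [e4, mul_mem_cancel_right (inv_mem m), mul_mem_cancel_left m] at hA
    refine ⟨m2, (σ B)⁻¹, inv_mem (nσ B m (ty_B hB).2), Commute.inv_left (h.ty_σt m (ty_B hB).2), _,
      (mem_normalizer_iff.1 (inv_mem (nσ B m (ty_B hB).2)) _).1 x1, ?_⟩
    rw [e4, ← h.σ_conj m m2]; group
  rcases ty_cls A h1 k2 with rfl | k | k | ⟨b, c, d, rfl, k⟩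
  · rw [h.σ_one, mul_one] at b1
    exact absurd x1 b1.2.1
  · obtain ⟨B, hB, e4⟩ := List.mem_map.1 k
    obtain ⟨m, g, g1, g2, y, hy, e5⟩ := key B hB _ e4.symm
    refine Or.inr ⟨k, ty_TS h.t2 s.tc ne (h.e_t.2 v1) (e3 ▸ ty_TS h.t2 s.tc g1 g2 ?_)⟩
    have b2 := ty_bad g1 g2 b1
    rw [e5] at b2 ⊢
    exact h.ty_s s m hy b2
  · refine Or.inl ⟨k, ty_TC h.t2 s.tc ne (h.e_t.2 v1) (e3 ▸ ?_)⟩
    rcases List.mem_cons.1 k with rfl | k
    · exact h.ty_c s hA tyF_N x1 b1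
    obtain ⟨B, hB, e4⟩ := List.mem_map.1 k
    obtain ⟨m, g, g1, g2, y, hy, e5⟩ := key B hB _ e4.symm
    refine ty_TC h.t2 s.tc g1 g2 ?_
    have b2 := ty_bad g1 g2 b1
    rw [e5] at b2 ⊢
    exact h.ty_c s m tyF_swN hy b2
  · obtain ⟨ρ, hρ, e4⟩ := h.free s hA h1 k2 (fun _ => dg_free (by
      revert k; cases b <;> cases c <;> cases d <;> decide) _) x1 b1.2.2.1
    have := ty_isConj h.t2 (s.tc ρ hρ) b1.2.2.2 e4
    rw [← h.σ_mul _ hA _ (h.Γ1_le r0_mem), (ty_dg b c d).1] at this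
    rcases k with k | k
    · exact absurd this.symm (h.nc2 (by simp only [Bool.toNat_true]; omega) (by simp only [Bool.toNat_false]; omega))
    · exact absurd this (h.nc2 (by simp only [Bool.toNat_false]; omega) (by simp only [Bool.toNat_true]; omega))

/-- notes/O83.md, section Ty -/
theorem Cf.ok (h : Cf Γ e σ i) (s : Sd Γ e σ i π)
    (ns : ∀ g ∈ normalizer (SS e σ i : Set G), ∃ x ∈ SS e σ i, x⁻¹ * g ∈ NN e) : Ok (σ r0) (SS e σ i) := by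
  have nf : ∀ u, Bad (σ r0) (SS e σ i) u →
      ∃ x ∈ SS e σ i, ∃ v : V, ∃ A ∈ Γ, v.1 = 0 ∧ A • d0 = d0 ∧ u = x * (e v * σ A) := fun u hu => by
    obtain ⟨x, hx, k⟩ := ns u hu.1
    exact h.nf s hx k (h.NS_t s hu.1)
  refine ⟨h.t2, h.t1, s.tS, s.tc, s.card, fun x hx => ?_, fun x hx y hy => ?_, fun x hx => h.S_cen s hx,
    fun u hu => ?_, fun u u' hu hu' huu => ?_⟩
  · rw [s.sq x hx]
    rcases ty_z2 (q2 (π x)) with k | k <;> rw [k] <;> simp [ZMod.val_one]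
  · rw [s.cm x hx y hy]
    rcases ty_z2 (b2 (π x) (π y)) with k | k <;> rw [k] <;> simp [ZMod.val_one]
  · obtain ⟨x, hx, v, A, hA, v1, h1, rfl⟩ := nf u hu
    exact (h.ty_main s hA h1 v1 hx hu).imp And.right And.right
  obtain ⟨x, hx, v, A, hA, v1, h1, rfl⟩ := nf u hu
  obtain ⟨x', hx', v', A', hA', v1', h1', rfl⟩ := nf u' hu'
  have m := mul_mem hx ((mem_normalizer_iff.1 (h.NH_S s (mul_mem (h.e_mem v) (h.σ_mem hA))
    (Commute.mul_left (h.e_t.2 v1) (h.ty_σt hA h1))) x').1 hx')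
  have e1 : x * (e v * σ A) * (x' * (e v' * σ A')) =
      x * (e v * σ A * x' * (e v * σ A)⁻¹) * (e (v + A • v') * σ (A * A')) := by rw [← h.mul_eq hA hA']; group
  have v2 : (v + A • v').1 = 0 := by
    have k : ∀ w : V, dot w d0 = w.1 := fun w => by simp [dot_def, d0]
    rw [Prod.fst_add, v1, ← k, ← h1, dot_smul, k, v1', add_zero]
  have t3 := h.ty_main s (mul_mem hA hA') (by rw [mul_smul, h1', h1]) v2 m (e1 ▸ huu)
  rw [← e1] at t3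
  rcases h.ty_main s hA h1 v1 hx hu with ⟨a, p⟩ | ⟨a, p⟩ <;>
    rcases h.ty_main s hA' h1' v1' hx' hu' with ⟨a', p'⟩ | ⟨a', p'⟩
  · exact Or.inr (Or.inr ⟨p, p', (t3.resolve_left fun k => ty_CC a a' k.1).2⟩)
  · exact Or.inr (Or.inl ⟨p, p', (t3.resolve_right fun k => ty_CS a a' k.1).2⟩)
  · exact Or.inl ⟨p, p', (t3.resolve_right fun k => ty_SC a a' k.1).2⟩
  · exact (t3.elim (fun k => (ty_SS a a').2 k.1) fun k => (ty_SS a a').1 k.1).elim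

end Cfsg.Agent.O83
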