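import Cfsg.Agent.O83.Bas1a
import Mathlib.GroupTheory.OrderOfElement

/-! Project O83: the quaternion groups `R`, `R_k` and the group `Q₁`. See `notes/O83.md`, section Bas1. -/

set_option autoImplicit false
set_option synthInstance.maxSize 4096
set_option maxRecDepth 100000
set_option linter.unusedSectionVars false

namespace Cfsg.Agent.O83

open Subgroup

variable {G : Type*} [Group G] [Finite G] {Γ : Subgroup O4} {e : V → G} {σ : O4 → G} {i : G}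

/-- R1 -/
theorem Cf.jj_sq (h : Cf Γ e σ i) : jj e i * jj e i = σ r0 := by
  exact h.jj33

/-- R2 -/
theorem Cf.j_i (h : Cf Γ e σ i) : jj e i * i = i * jj e i * σ r0 := by
  exact h.ji33

/-- R3 -/
theorem Cf.mem_R (h : Cf Γ e σ i) {r : G} : r ∈ RR e i ↔ r = 1 ∨ r = σ r0 ∨ r = i ∨ r = i * σ r0 ∨ r = jj e i ∨
    r = jj e i * σ r0 ∨ r = i * jj e i ∨ r = i * jj e i * σ r0 := by
  exact h.list33

/-- R4 -/
theorem Cf.card_R (h : Cf Γ e σ i) : Nat.card (RR e i) = 8 := by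
  have o4 : orderOf i = 2 ^ 2 := orderOf_eq_prime_pow (by rw [pow_one, pow_two, h.ii]; exact h.t1)
    (by rw [show 2 ^ (1 + 1) = 2 * 2 from rfl, pow_mul, pow_two i, h.ii, pow_two, h.t2])
  have hle : zpowers i ≤ RR e i := zpowers_le_of_mem Cf.i_R33
  have d := card_dvd_of_le hle
  rw [Nat.card_zpowers, o4] at d
  have u : Nat.card (RR e i) ≤ Nat.card (Fin 8) := by
    refine Nat.card_le_card_of_surjective (fun k => ⟨![1, σ r0, i, i * σ r0, jj e i, jj e i * σ r0, i * jj e i,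
      i * jj e i * σ r0] k, h.list33.2 (by fin_cases k <;> simp)⟩) ?_
    rintro ⟨r, hr⟩
    rcases h.list33.1 hr with k | k | k | k | k | k | k | k
    exacts [⟨0, Subtype.ext k.symm⟩, ⟨1, Subtype.ext k.symm⟩, ⟨2, Subtype.ext k.symm⟩, ⟨3, Subtype.ext k.symm⟩,
      ⟨4, Subtype.ext k.symm⟩, ⟨5, Subtype.ext k.symm⟩, ⟨6, Subtype.ext k.symm⟩, ⟨7, Subtype.ext k.symm⟩]
  rw [Nat.card_fin] at u
  have n : Nat.card (RR e i) ≠ 4 := fun k => by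
    have := eq_of_le_of_card_ge hle (by rw [Nat.card_zpowers, o4, k]; rfl)
    obtain ⟨n, hn⟩ := mem_zpowers_iff.1 (this.ge Cf.j_R33)
    exact h.ij_ne33 (hn ▸ Commute.self_zpow i n)
  have := Nat.card_pos (α := RR e i)
  omega

/-- R5 -/
theorem Cf.R_t (h : Cf Γ e σ i) {r : G} (hr : r ∈ RR e i) : r * σ r0 = σ r0 * r := by
  exact h.R_t33 hr

/-- R6 -/
theorem Cf.R_sq (h : Cf Γ e σ i) {r : G} (hr : r ∈ RR e i) : r = 1 ∨ r = σ r0 ∨ r * r = σ r0 := by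
  exact h.R_sq33 hr

/-- R7: `R ∩ N = ⟨t⟩` -/
theorem Cf.R_N (h : Cf Γ e σ i) {r : G} (hr : r ∈ RR e i) (hN : r ∈ NN e) : r = 1 ∨ r = σ r0 := by
  exact h.R_N33 hr hN

/-- R8: `R` centralises `B0` -/
theorem Cf.R_B (h : Cf Γ e σ i) {r : G} (hr : r ∈ RR e i) {v : V} (h1 : v.1 = 0) (h2 : dot v z0 = 0) :
    r * e v = e v * r := by
  exact h.R_B33 hr h1 h2

/-- R9 -/
theorem Cf.R_σ (h : Cf Γ e σ i) {r : G} (hr : r ∈ RR e i) {A : O4} (hA : A ∈ Γ) (h1 : A • d0 = d0)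
    (h2 : A • z0 = z0) : r * σ A = σ A * r := by
  exact h.R_σ33 hr hA h1 h2

/-- R10 -/
theorem Cf.w_i (h : Cf Γ e σ i) : σ ng * i * (σ ng)⁻¹ = i⁻¹ := by
  exact h.w_i33

/-- R11: `N(⟨z⟩) ∩ C(t)` normalises `R` -/
theorem Cf.R_norm (h : Cf Γ e σ i) {g r : G} (ht : g * σ r0 = σ r0 * g)
    (hz : g * e z0 * g⁻¹ = e z0 ∨ g * e z0 * g⁻¹ = e (-z0)) (hr : r ∈ RR e i) : g * r * g⁻¹ ∈ RR e i := by
  rcases hz with hz | hz
  · exact h.R_norm33 (mul_inv_eq_iff_eq_mul.1 hz) ht hr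
  · have hw : σ ng * r * (σ ng)⁻¹ ∈ RR e i := Cf.norm_R33 (h.w_i33 ▸ inv_mem Cf.i_R33)
      (h.w_j33 ▸ inv_mem (h.R_e33 Cf.j_R33 rfl)) hr
    have := h.R_norm33 (g := g * σ ng) (mul_inv_eq_iff_eq_mul.1 (by
      rw [show g * σ ng * e z0 * (g * σ ng)⁻¹ = g * (σ ng * e z0 * (σ ng)⁻¹) * g⁻¹ by group, h.w_e33, ← conj_inv, hz,
        e_neg h.add, inv_inv])) ((show Commute g _ from ht).mul_left (h.w_σ33 (h.Γ1_le r0_mem))) hw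
    rwa [show g * σ ng * (σ ng * r * (σ ng)⁻¹) * (g * σ ng)⁻¹ = g * (σ ng * σ ng) * r * (g * (σ ng * σ ng))⁻¹ by group,
      h.w_w33, mul_one] at this

theorem gk_fst33 : ∀ k, ∀ v : V, (gk k • v).1 = v.1 := by decide +kernel

theorem Cf.γ_t33 (h : Cf Γ e σ i) (k : Fin 4) : Commute (σ (gk k)) (σ r0) :=
  (h.σ_t (h.Γ1_le (gk_mem k))).2 (.inl ((by decide +kernel : ∀ k, gk k • d0 = d0) k))

theorem Cf.γ_x33 (h : Cf Γ e σ i) (k : Fin 4) : σ (gk k) * e d1 * (σ (gk k))⁻¹ = e d1 := by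
  rw [h.σ_e _ (h.Γ1_le (gk_mem k)), (by decide +kernel : ∀ k, gk k • d1 = d1) k]

theorem Cf.base33 (h : Cf Γ e σ i) {A : O4} (hA : A ∈ Γ) (h1 : A • d0 = d0 ∨ A • d0 = -d0) (k l : Fin 4) :
    (gk l)⁻¹ * A * gk k ∈ Γ ∧ (((gk l)⁻¹ * A * gk k) • d0 = d0 ∨ ((gk l)⁻¹ * A * gk k) • d0 = -d0) ∧
      ((gk l)⁻¹ * A * gk k) • z0 = (gk l)⁻¹ • A • zk k ∧ ∀ r, σ A * (σ (gk k) * r * (σ (gk k))⁻¹) * (σ A)⁻¹ =
        σ (gk l) * (σ ((gk l)⁻¹ * A * gk k) * r * (σ ((gk l)⁻¹ * A * gk k))⁻¹) * (σ (gk l))⁻¹ := by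
  have hk := h.Γ1_le (gk_mem k)
  have hl := h.Γ1_le (gk_mem l)
  have d : ∀ k, gk k • d0 = d0 ∧ (gk k)⁻¹ • d0 = d0 := by decide +kernel
  refine ⟨Γ.mul_mem (Γ.mul_mem (Γ.inv_mem hl) hA) hk, ?_, by rw [mul_smul, mul_smul, gk_z0], fun r => ?_⟩
  · rw [mul_smul, mul_smul, (d k).1]
    exact h1.imp (fun e => by rw [e, (d l).2]) fun e => by rw [e, smul_neg, (d l).2]
  · rw [h.σ_mul _ (Γ.mul_mem (Γ.inv_mem hl) hA) _ hk, h.σ_mul _ (Γ.inv_mem hl) _ hA, h.σ_inv hl]; group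

/-- K1 -/
theorem Cf.mem_Rk (h : Cf Γ e σ i) {k : Fin 4} {r : G} : r ∈ Rk e σ i k ↔ (σ (gk k))⁻¹ * r * σ (gk k) ∈ RR e i := by
  have : Rk e σ i k = (RR e i).map (MulAut.conj (σ (gk k))).toMonoidHom := by
    rw [RR, MonoidHom.map_closure, Set.image_pair]; rfl
  rw [this, mem_map_equiv, MulAut.conj_symm_apply]

theorem Cf.mem_Rk33 (h : Cf Γ e σ i) {k : Fin 4} {r : G} : σ (gk k) * r * (σ (gk k))⁻¹ ∈ Rk e σ i k ↔ r ∈ RR e i := by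
  rw [h.mem_Rk, show (σ (gk k))⁻¹ * (σ (gk k) * r * (σ (gk k))⁻¹) * σ (gk k) = r by group]

/-- K2 -/
theorem Cf.Rk_t (h : Cf Γ e σ i) {k : Fin 4} {r : G} (hr : r ∈ Rk e σ i k) : r * σ r0 = σ r0 * r := by
  have c := h.γ_t33 k
  simpa [mul_assoc] using ((c.mul_left (h.R_t33 (h.mem_Rk.1 hr))).mul_left c.inv_left).eq

/-- K3 -/
theorem Cf.Rk_sq (h : Cf Γ e σ i) {k : Fin 4} {r : G} (hr : r ∈ Rk e σ i k) : r = 1 ∨ r = σ r0 ∨ r * r = σ r0 := by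
  have c := h.γ_t33 k
  obtain ⟨r, rfl⟩ : ∃ r', r = σ (gk k) * r' * (σ (gk k))⁻¹ := ⟨(σ (gk k))⁻¹ * r * σ (gk k), by group⟩
  refine (h.R_sq33 (h.mem_Rk33.1 hr)).imp (fun k => by simp [k]) (Or.imp (fun k => ?_) fun k => ?_)
  · rw [k, c.eq, mul_inv_cancel_right]
  · rw [conj_mul, k, c.eq, mul_inv_cancel_right]

/-- K4 -/
theorem Cf.Rk_B (h : Cf Γ e σ i) {k : Fin 4} {r : G} (hr : r ∈ Rk e σ i k) {v : V} (h1 : v.1 = 0)
    (h2 : dot v (zk k) = 0) : r * e v = e v * r := by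
  obtain ⟨r, rfl⟩ : ∃ r', r = σ (gk k) * r' * (σ (gk k))⁻¹ := ⟨(σ (gk k))⁻¹ * r * σ (gk k), by group⟩
  obtain ⟨v, rfl⟩ : ∃ v', v = gk k • v' := ⟨(gk k)⁻¹ • v, (smul_inv_smul _ _).symm⟩
  rw [← gk_z0, dot_smul] at h2
  rw [gk_fst33] at h1
  rw [← h.σ_e _ (h.Γ1_le (gk_mem k)), conj_mul, conj_mul, h.R_B33 (h.mem_Rk33.1 hr) h1 h2]

/-- K5 -/
theorem Cf.Rk_fix (h : Cf Γ e σ i) {k : Fin 4} {r : G} (hr : r ∈ Rk e σ i k) {v : V} (h1 : v.1 = 0)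
    (h2 : dot v (zk k) ≠ 0) (hc : r * e v = e v * r) : r = 1 ∨ r = σ r0 := by
  obtain ⟨r, rfl⟩ : ∃ r', r = σ (gk k) * r' * (σ (gk k))⁻¹ := ⟨(σ (gk k))⁻¹ * r * σ (gk k), by group⟩
  obtain ⟨v, rfl⟩ : ∃ v', v = gk k • v' := ⟨(gk k)⁻¹ • v, (smul_inv_smul _ _).symm⟩
  rw [← gk_z0, dot_smul] at h2
  rw [gk_fst33] at h1
  rw [← h.σ_e _ (h.Γ1_le (gk_mem k)), conj_mul, conj_mul, mul_left_inj, mul_right_inj] at hc
  refine (h.R_fix33 (h.mem_Rk33.1 hr) h1 h2 hc).imp (fun k => by simp [k]) fun k' => ?_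
  rw [k', (h.γ_t33 k).eq, mul_inv_cancel_right]

/-- K6 -/
theorem Cf.Rk_e (h : Cf Γ e σ i) {k : Fin 4} {r : G} (hr : r ∈ Rk e σ i k) {v : V} (h1 : v.1 = 0) :
    e v * r * (e v)⁻¹ ∈ Rk e σ i k := by
  obtain ⟨r, rfl⟩ : ∃ r', r = σ (gk k) * r' * (σ (gk k))⁻¹ := ⟨(σ (gk k))⁻¹ * r * σ (gk k), by group⟩
  obtain ⟨v, rfl⟩ : ∃ v', v = gk k • v' := ⟨(gk k)⁻¹ • v, (smul_inv_smul _ _).symm⟩
  rw [gk_fst33] at h1
  rw [← h.σ_e _ (h.Γ1_le (gk_mem k)), conj_inv, conj_mul, conj_mul]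
  exact h.mem_Rk33.2 (h.R_e33 (h.mem_Rk33.1 hr) h1)

/-- K7 -/
theorem Cf.ik_conj (h : Cf Γ e σ i) {A : O4} (hA : A ∈ Γ) (h1 : A • d0 = d0 ∨ A • d0 = -d0) {k l : Fin 4}
    (h2 : A • zk k = zk l) :
    σ A * ik σ i k * (σ A)⁻¹ = ik σ i l ∧ σ A * jk e σ i k * (σ A)⁻¹ = jk e σ i l := by
  obtain ⟨hB, b1, b2, b3⟩ := h.base33 hA h1 k l
  rw [h2, ← gk_z0, inv_smul_smul] at b2
  rw [ik, jk, b3, b3, ← h.R_σ33' Cf.i_R33 hB b1 b2, ← h.R_σ33' Cf.j_R33 hB b1 b2, mul_inv_cancel_right,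
    mul_inv_cancel_right]
  exact ⟨rfl, rfl⟩

/-- K8 -/
theorem Cf.ik_conj' (h : Cf Γ e σ i) {A : O4} (hA : A ∈ Γ) (h1 : A • d0 = d0 ∨ A • d0 = -d0) {k l : Fin 4}
    (h2 : A • zk k = -zk l) :
    σ A * ik σ i k * (σ A)⁻¹ = (ik σ i l)⁻¹ ∧ σ A * jk e σ i k * (σ A)⁻¹ = (e d1 * jk e σ i l * (e d1)⁻¹)⁻¹ := by
  obtain ⟨hB, b1, b2, b3⟩ := h.base33 hA h1 k l
  rw [h2, ← gk_z0, smul_neg, inv_smul_smul] at b2
  rw [ik, jk, b3, b3]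
  generalize (gk l)⁻¹ * A * gk k = B at hB b1 b2
  have hn := h.Γ1_le ng_mem
  have c : ∀ r ∈ RR e i, r * σ (B * ng) = σ (B * ng) * r := fun r hr => h.R_σ33' hr (Γ.mul_mem hB hn)
    (by rw [mul_smul, ng_smul, smul_neg]; exact b1.symm.imp (fun k => by rw [k, neg_neg]) fun k => by rw [k])
    (by rw [mul_smul, ng_smul, smul_neg, b2, neg_neg])
  have eB : ∀ r, σ B * r * (σ B)⁻¹ = σ (B * ng) * (σ ng * r * (σ ng)⁻¹) * (σ (B * ng))⁻¹ := fun r => by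
    rw [h.σ_mul _ hB _ hn, show σ B * σ ng * (σ ng * r * (σ ng)⁻¹) * (σ B * σ ng)⁻¹ =
      σ B * (σ ng * σ ng) * r * (σ B * (σ ng * σ ng))⁻¹ by group, h.w_w33, mul_one]
  rw [eB, eB, h.w_i33, h.w_j33, ← c _ (inv_mem Cf.i_R33), ← c _ (inv_mem (h.R_e33 Cf.j_R33 rfl)),
    mul_inv_cancel_right, mul_inv_cancel_right, ik, jk]
  refine ⟨by group, ?_⟩
  conv_rhs => rw [← h.γ_x33 l]
  group

/-- K9 -/
theorem Cf.Rk_conj (h : Cf Γ e σ i) {A : O4} (hA : A ∈ Γ) (h1 : A • d0 = d0 ∨ A • d0 = -d0) {k l : Fin 4}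
    (h2 : A • zk k = zk l ∨ A • zk k = -zk l) {r : G} (hr : r ∈ Rk e σ i k) : σ A * r * (σ A)⁻¹ ∈ Rk e σ i l := by
  obtain ⟨hB, b1, b2, b3⟩ := h.base33 hA h1 k l
  obtain ⟨r, rfl⟩ : ∃ r', r = σ (gk k) * r' * (σ (gk k))⁻¹ := ⟨(σ (gk k))⁻¹ * r * σ (gk k), by group⟩
  rw [b3]
  refine h.mem_Rk33.2 (h.R_norm ((h.σ_t hB).2 b1) ?_ (h.mem_Rk33.1 hr))
  rw [h.σ_e _ hB, b2]
  refine h2.imp (fun k => ?_) fun k => ?_
  · rw [k, ← gk_z0, inv_smul_smul]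
  · rw [k, ← gk_z0, smul_neg, inv_smul_smul]

/-- K10 -/
theorem Cf.czk (h : Cf Γ e σ i) {k : Fin 4} {g : G} (hg : g * e (zk k) = e (zk k) * g) :
    ∃ r ∈ Rk e σ i k, r⁻¹ * g ∈ NN e := by
  have hk := h.Γ1_le (gk_mem k)
  obtain ⟨g, rfl⟩ : ∃ g', g = σ (gk k) * g' * (σ (gk k))⁻¹ := ⟨(σ (gk k))⁻¹ * g * σ (gk k), by group⟩
  rw [← gk_z0, ← h.σ_e _ hk, conj_mul, conj_mul, mul_left_inj, mul_right_inj] at hg
  obtain ⟨r, hr, hn⟩ := h.cz g hg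
  refine ⟨_, h.mem_Rk33.2 hr, ?_⟩
  rw [conj_inv, conj_mul]
  exact mul_mem (mul_mem (h.σ_mem hk) hn) (inv_mem (h.σ_mem hk))

/-- K11: `R_k = [R_k, x]` -/
theorem Cf.Rk_le (h : Cf Γ e σ i) {k : Fin 4} {Y : Subgroup G}
    (hY : ∀ r ∈ Rk e σ i k, r * e d1 * r⁻¹ * (e d1)⁻¹ ∈ Y) : Rk e σ i k ≤ Y := by
  have key : ∀ r ∈ RR e i, r * (e d1 * r * (e d1)⁻¹)⁻¹ ∈ Y.comap (MulAut.conj (σ (gk k))).toMonoidHom := fun r hr => by
    have := hY _ (h.mem_Rk33.2 hr)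
    rw [← h.γ_x33 k] at this
    show σ (gk k) * _ * (σ (gk k))⁻¹ ∈ Y
    convert this using 1
    group
  have hle : RR e i ≤ Y.comap (MulAut.conj (σ (gk k))).toMonoidHom := by
    generalize Y.comap (MulAut.conj (σ (gk k))).toMonoidHom = Y' at key
    have k1 := key _ Cf.i_R33
    have k2 := key _ Cf.j_R33
    have hi : i ∈ Y' := by
      rcases h.ij with k | k <;> rw [k] at k2
      · simpa using k2
      · rwa [show jj e i * (jj e i * i)⁻¹ = (jj e i * i * (jj e i)⁻¹)⁻¹ by group, h.ji33, mul_assoc i,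
          h.R_t33 Cf.j_R33, ← mul_assoc i, mul_inv_cancel_right,
          inv_eq_of_mul_eq_one_left (show i * (i * σ r0) = 1 by rw [← mul_assoc, h.ii, h.t2])] at k2
    refine (closure_le _).2 ?_
    rintro _ (rfl | rfl)
    · exact hi
    · exact inv_mem_iff.1 ((mul_mem_cancel_left hi).1 k1)
  intro r hr
  have := hle (h.mem_Rk.1 hr)
  simpa [mul_assoc] using this

theorem A1_pow33 (m : ℕ) : A1 ^ m = A1 ^ (m % 3) := pow_eq_pow_mod m (by decide +kernel)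

theorem A1_W33 (m : ℕ) (a c : F) : ∃ c', (A1 ^ m) • ((a, c, c, c) : V) = (a, c', c', c') := by
  rw [A1_pow33]
  exact (by decide +kernel : ∀ m : Fin 3, ∀ a c : F, ∃ c', (A1 ^ m.1) • ((a, c, c, c) : V) = (a, c', c', c'))
    ⟨m % 3, Nat.mod_lt _ (by decide)⟩ a c

theorem A1_kill33 : ∀ m : Fin 3, ∀ a c : F, m.1 = 0 ∨
    ∃ u : V, ∃ c' : F, u.1 = 0 ∧ u + (a, c, c, c) + (A1 ^ m.1) • -u = (0, c', c', c') := by decide +kernel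

theorem A1_sub33 : ∀ v : V, v + A1 • -v = ((v + A1 • -v).1, (v + A1 • -v).2.1, (v + A1 • -v).2.1, (v + A1 • -v).2.1) ∧
    v + (A1 * A1) • -v = ((v + (A1 * A1) • -v).1, (v + (A1 * A1) • -v).2.1, (v + (A1 * A1) • -v).2.1,
      (v + (A1 * A1) • -v).2.1) := by decide +kernel

theorem stab_z33 : ∀ A : O4, A • z0 = z0 → A • d0 = ((A • d0).1, (A • d0).2.1, (A • d0).2.1, (A • d0).2.1) ∧
    (A * A1 * A⁻¹ = A1 ∨ A * A1 * A⁻¹ = A1 * A1) := by decide +kernel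

theorem Cf.exists_Q33 (h : Cf Γ e σ i) :
    ∃ Q : Subgroup G, ∀ y, y ∈ Q ↔ ∃ (a c : F) (m : ℕ), y = e (a, c, c, c) * σ (A1 ^ m) := by
  have a1 := h.Γ1_le A1_mem
  refine ⟨⟨⟨⟨{y | ∃ (a c : F) (m : ℕ), y = e (a, c, c, c) * σ (A1 ^ m)}, ?_⟩, ?_⟩, ?_⟩, fun _ => Iff.rfl⟩
  · rintro _ _ ⟨a, c, m, rfl⟩ ⟨a', c', m', rfl⟩
    obtain ⟨c'', k⟩ := A1_W33 m a' c'
    exact ⟨a + a', c + c'', m + m', by rw [h.mul_eq (Γ.pow_mem a1 m) (Γ.pow_mem a1 m'), k, ← pow_add]; rfl⟩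
  · exact ⟨0, 0, 0, by rw [pow_zero, h.σ_one, mul_one]; exact (e_zero h.add).symm⟩
  · rintro _ ⟨a, c, m, rfl⟩
    obtain ⟨c', k⟩ := A1_W33 (2 * m) (-a) (-c)
    have e3 : A1 ^ m * A1 ^ (2 * m) = 1 := by
      rw [← pow_add, show m + 2 * m = 3 * m by ring, pow_mul, show A1 ^ 3 = 1 by decide +kernel, one_pow]
    refine ⟨-a, c', 2 * m, inv_eq_of_mul_eq_one_right ?_⟩
    rw [h.mul_eq (Γ.pow_mem a1 m) (Γ.pow_mem a1 _), ← k, ← mul_smul, e3, one_smul, h.σ_one, mul_one]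
    exact (congrArg e (add_neg_cancel ((a, c, c, c) : V))).trans (e_zero h.add)

/-- Q1: `Q₁ = ⟨e d0, σ A1⟩` is normal in `C(z)` -/
theorem Cf.Q1_norm (h : Cf Γ e σ i) {g : G} (hg : g * e z0 = e z0 * g) (a c : F) (m : ℕ) :
    ∃ (a' c' : F) (m' : ℕ), g * (e (a, c, c, c) * σ (A1 ^ m)) * g⁻¹ = e (a', c', c', c') * σ (A1 ^ m') := by
  obtain ⟨Q, hQ⟩ := h.exists_Q33
  have a1 := h.Γ1_le A1_mem
  have me : ∀ a c : F, e (a, c, c, c) ∈ Q := fun a c => (hQ _).2 ⟨a, c, 0, by rw [pow_zero, h.σ_one, mul_one]⟩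
  have mb : σ A1 ∈ Q := (hQ _).2 ⟨0, 0, 1, by rw [pow_one, show ((0, 0, 0, 0) : V) = 0 from rfl, e_zero h.add, one_mul]⟩
  have gen : ∀ g : G, g * e d0 * g⁻¹ ∈ Q → g * e z0 * g⁻¹ ∈ Q → g * σ A1 * g⁻¹ ∈ Q → g ∈ normalizer (Q : Set G) :=
    fun g k0 k1 k2 => mem_normalizer_fintype fun y hy => by
      obtain ⟨a, c, m, rfl⟩ := (hQ y).1 hy
      rw [(by decide +kernel : ∀ a c : F, ((a, c, c, c) : V) = a.val • d0 + c.val • z0) a c, h.add, e_nsmul h.add,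
        e_nsmul h.add, h.σ_pow a1, ← conj_mul, ← conj_mul, ← conj_pow, ← conj_pow, ← conj_pow]
      exact mul_mem (mul_mem (pow_mem k0 _) (pow_mem k1 _)) (pow_mem k2 _)
  have gN : ∀ g ∈ NN e, g * e z0 = e z0 * g → g ∈ normalizer (Q : Set G) := fun g hN hz => by
    obtain ⟨v, A, hA, rfl⟩ := h.norm g hN
    obtain ⟨k1, k2⟩ := stab_z33 A ((h.comm_e hA).1 hz)
    refine gen _ ?_ (by rw [hz, mul_inv_cancel_right]; exact me 0 1) ?_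
    · rw [h.conj_e hA, k1]; exact me _ _
    · rw [show e v * σ A * σ A1 * (e v * σ A)⁻¹ = e v * (σ A * σ A1 * (σ A)⁻¹) * (e v)⁻¹ by group, h.σ_conj hA a1,
        ← e_neg h.add, mul_assoc, h.σ_e' (Γ.mul_mem (Γ.mul_mem hA a1) (Γ.inv_mem hA)), ← mul_assoc, ← h.add]
      rcases k2 with k | k <;> rw [k]
      · rw [(A1_sub33 v).1]; exact mul_mem (me _ _) mb
      · rw [(A1_sub33 v).2, h.σ_mul _ a1 _ a1]; exact mul_mem (me _ _) (mul_mem mb mb)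
  have gi : i ∈ normalizer (Q : Set G) := gen i (h.id ▸ mb) (by rw [h.iz, mul_inv_cancel_right]; exact me 0 1) (by
    rw [← h.id, show i * (i * e d0 * i⁻¹) * i⁻¹ = i * i * e d0 * (i * i)⁻¹ by group, h.ii,
      h.σ_e _ (h.Γ1_le r0_mem), show r0 • d0 = (2, 0, 0, 0) by decide +kernel]
    exact me _ _)
  have gx := gN _ (h.e_mem d1) (e_comm h.add _ _)
  have gR : RR e i ≤ normalizer (Q : Set G) := (closure_le _).2 (by
    rintro _ (rfl | rfl)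
    exacts [gi, mul_mem (mul_mem gx gi) (inv_mem gx)])
  obtain ⟨r, hr, hn⟩ := h.cz g hg
  have := mul_mem (gR hr) (gN _ hn ((show Commute r _ from h.R_z33 hr).inv_left.mul_left hg))
  rw [mul_inv_cancel_left] at this
  exact (hQ _).1 ((mem_normalizer_iff.1 this _).1 ((hQ _).2 ⟨a, c, m, rfl⟩))

/-- Q2: elements of `Q₁` are `R`-conjugate into `J` -/
theorem Cf.Q1_conj (h : Cf Γ e σ i) (a c : F) (m : ℕ) :
    ∃ r ∈ RR e i, ∃ a' c' : F, r * (e (a, c, c, c) * σ (A1 ^ m)) * r⁻¹ = e (a', c', c', c') := by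
  have a1 := h.Γ1_le A1_mem
  rw [A1_pow33 m]
  have hm : m % 3 < 3 := Nat.mod_lt _ (by decide)
  generalize m % 3 = m at hm
  rcases A1_kill33 ⟨m, hm⟩ a c with k | ⟨u, c', u1, k⟩
  · exact ⟨1, one_mem _, a, c, by rw [show m = 0 from k, pow_zero, h.σ_one]; group⟩
  have ut : Commute (e u) (σ r0) := h.e_t.2 u1
  have uz : Commute (e u) (e z0) := e_comm h.add _ _
  refine ⟨_, h.R_norm33 uz.inv_left ut.inv_left (inv_mem Cf.i_R33), m, c', ?_⟩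
  have k1 : e u * (e (a, c, c, c) * σ (A1 ^ m)) * (e u)⁻¹ = e (0, c', c', c') * σ (A1 ^ m) := by
    rw [← e_neg h.add, mul_assoc, mul_assoc, h.σ_e' (Γ.pow_mem a1 m), ← mul_assoc, ← mul_assoc, ← h.add, ← h.add, k]
  have k2 : i⁻¹ * (e (0, c', c', c') * σ (A1 ^ m)) * i = e (m, c', c', c') := by
    rw [h.σ_pow a1, ← h.id, conj_pow, ← e_nsmul h.add, ← mul_assoc, h.R_B33 (inv_mem Cf.i_R33) rfl
      ((by decide +kernel : ∀ c : F, dot (0, c, c, c) z0 = 0) c'),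
      show ((m, c', c', c') : V) = (0, c', c', c') + m • d0 by simp [d0], h.add]
    group
  calc _ = (e u)⁻¹ * (i⁻¹ * (e u * (e (a, c, c, c) * σ (A1 ^ m)) * (e u)⁻¹) * i) * e u := by group
    _ = _ := by rw [k1, k2, mul_assoc, e_comm h.add _ u, inv_mul_cancel_left]

theorem gd33_smul (A : O4) {u v : V} : (A • v ≠ 0 ∧ A • v ≠ A • u ∧ A • v ≠ -(A • u) ∧
    ¬ (dot (A • u) (A • v) = 0 ∧ q (A • v) = 2)) ↔ (v ≠ 0 ∧ v ≠ u ∧ v ≠ -u ∧ ¬ (dot u v = 0 ∧ q v = 2)) := by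
  rw [dot_smul, q_smul, ← smul_neg, Ne, Ne, Ne, smul_left_cancel_iff, smul_left_cancel_iff, smul_eq_zero_iff_eq]

theorem Cf.zN33 (h : Cf Γ e σ i) {v w : V} (gd : v ≠ 0 ∧ v ≠ z0 ∧ v ≠ -z0 ∧ ¬ (dot z0 v = 0 ∧ q v = 2))
    (k : i * e v * i⁻¹ = e w) : False := by
  have a1 := h.Γ1_le A1_mem
  rw [(by decide +kernel : ∀ v : V, v = v.1.val • d0 + (0, v.2)) v, h.add, e_nsmul h.add, ← conj_mul, ← conj_pow, h.id,
    ← h.σ_pow a1] at k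
  by_cases c : dot (0, v.2) z0 = 0
  · rw [h.R_B33 Cf.i_R33 rfl c, mul_inv_cancel_right, h.σ_e' (Γ.pow_mem a1 _)] at k
    exact (by decide +kernel : ∀ v : V, dot (0, v.2) z0 = 0 → v ≠ 0 → v ≠ z0 → v ≠ -z0 → ¬ (dot z0 v = 0 ∧ q v = 2) →
      A1 ^ v.1.val ≠ 1) v c gd.1 gd.2.1 gd.2.2.1 gd.2.2.2 ((h.eq_e (Γ.pow_mem a1 _)).1 k).2
  · have n1 : i * e (0, v.2) * i⁻¹ ∈ NN e :=
      (mul_mem_cancel_left (h.σ_mem (Γ.pow_mem a1 v.1.val))).1 (k ▸ h.e_mem w)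
    have n2 : i * e d1 * i⁻¹ ∈ NN e := by
      obtain ⟨β, b1, b2, k | k⟩ := split_d1_33 _ rfl c <;>
        rw [k, h.add, ← conj_mul, h.R_B33 Cf.i_R33 b1 b2, mul_inv_cancel_right]
      · exact mul_mem n1 (h.e_mem β)
      · rw [e_neg h.add, ← conj_inv]; exact mul_mem (inv_mem n1) (h.e_mem β)
    have := h.R_N33 (mul_mem Cf.i_R33 (inv_mem Cf.j_R33)) (by
      have := mul_mem n2 (inv_mem (h.e_mem d1))
      rw [jj]
      convert this using 1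
      group)
    refine h.ij_ne33 (this.elim (fun k => by rw [← mul_inv_eq_one.1 k]) fun k => ?_)
    have := ((show Commute _ _ from h.R_t33 Cf.j_R33).symm.mul_left (Commute.refl _)).eq
    rwa [← mul_inv_eq_iff_eq_mul.1 k] at this

/-- Q3 -/
theorem Cf.zN (h : Cf Γ e σ i) {u v w : V} (hu : q u = 0) (u0 : u ≠ 0) (v0 : v ≠ 0) (v1 : v ≠ u) (v2 : v ≠ -u)
    (huv : ¬ (dot u v = 0 ∧ q v = 2)) {g : G} (hg : g * e u = e u * g) (hv : g * e v * g⁻¹ = e w) : g ∈ NN e := by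
  obtain ⟨A, hA, rfl⟩ := tr_z hu u0
  replace hA := h.Γ1_le hA
  obtain ⟨v, rfl⟩ : ∃ v', v = A • v' := ⟨A⁻¹ • v, (smul_inv_smul _ _).symm⟩
  obtain ⟨w, rfl⟩ : ∃ v', w = A • v' := ⟨A⁻¹ • w, (smul_inv_smul _ _).symm⟩
  obtain ⟨g, rfl⟩ : ∃ g', g = σ A * g' * (σ A)⁻¹ := ⟨(σ A)⁻¹ * g * σ A, by group⟩
  rw [← h.σ_e _ hA, conj_mul, conj_mul, mul_left_inj, mul_right_inj] at hg
  rw [← h.σ_e _ hA, ← h.σ_e _ hA, conj_inv, conj_mul, conj_mul, mul_left_inj, mul_right_inj] at hv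
  refine mul_mem (mul_mem (h.σ_mem hA) ?_) (inv_mem (h.σ_mem hA))
  have gd := (gd33_smul A).1 ⟨v0, v1, v2, huv⟩
  obtain ⟨r, hr, hn⟩ := h.cz g hg
  rw [← mul_inv_cancel_left r g]
  refine mul_mem ?_ hn
  have nz : r⁻¹ * g * e z0 = e z0 * (r⁻¹ * g) := (show Commute r _ from h.R_z33 hr).inv_left.mul_left hg
  obtain ⟨p, B, hB, eB⟩ := h.norm _ hn
  rw [eB] at nz
  have g1 := (gd33_smul B).2 gd
  rw [(h.comm_e hB).1 nz] at g1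
  have k : r * e (B • v) * r⁻¹ = e w := by rw [← h.conj_e hB p, ← eB, ← hv]; group
  generalize B • v = v' at g1 k
  rcases h.R_cases33 hr with rfl | rfl | ⟨u, -, k'⟩
  · exact one_mem _
  · exact h.σ_mem (h.Γ1_le r0_mem)
  have k2 : (e u)⁻¹ * r * e u * e v' * ((e u)⁻¹ * r * e u)⁻¹ = e w := by
    calc _ = (e u)⁻¹ * (r * (e u * e v' * (e u)⁻¹) * r⁻¹) * e u := by group
      _ = _ := by rw [e_comm h.add u, mul_inv_cancel_right, k, mul_assoc, e_comm h.add w, inv_mul_cancel_left]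
  exfalso
  rcases k' with rfl | rfl
  · exact h.zN33 g1 (by rw [← k2]; group)
  · have g2 := (gd33_smul r0).2 g1
    rw [show r0 • z0 = z0 by decide +kernel] at g2
    exact h.zN33 g2 (by rw [← k2, ← h.σ_e _ (h.Γ1_le r0_mem)]; group)

end Cfsg.Agent.O83
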