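import Cfsg.Agent.O83.Bas0
import Cfsg.Agent.O83.Q8

/-! Project O83: the quaternion group `R`. See `notes/O83.md`, section Bas1. -/

set_option autoImplicit false
set_option synthInstance.maxSize 4096
set_option maxRecDepth 100000

namespace Cfsg.Agent.O83

open Subgroup

variable {G : Type*} [Group G] {Γ : Subgroup O4} {e : V → G} {σ : O4 → G} {i : G}

theorem Act.mul33 {g g' : G} {A B : O4} (h : Act e g A) (h' : Act e g' B) : Act e (g * g') (A * B) := fun v => by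
  rw [mul_smul, ← h, ← h']; group

theorem Act.inv33 {g : G} {A : O4} (h : Act e g A) : Act e g⁻¹ A⁻¹ := fun v => by
  conv_lhs => rw [← smul_inv_smul A v, ← h]
  group

theorem split_d1_33 : ∀ v : V, v.1 = 0 → dot v z0 ≠ 0 →
    ∃ β : V, β.1 = 0 ∧ dot β z0 = 0 ∧ (d1 = v + β ∨ d1 = -v + β) := by decide +kernel

theorem stab_A1_33 : ∀ A : O4, A • d0 = d0 → A • z0 = z0 →
    A * A1 = A1 * A ∧ (A • d1 - d1).1 = 0 ∧ dot (A • d1 - d1) z0 = 0 := by decide +kernel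

namespace Cf

variable (h : Cf Γ e σ i)
include h

theorem act_e33 (u : V) : Act e (e u) 1 := fun v => by rw [e_comm h.add, mul_inv_cancel_right, one_smul]

theorem act_uniq33 {g : G} {A B : O4} (h1 : Act e g A) (h2 : Act e g B) : A = B :=
  O4.ext' fun v => h.toAd.eq_iff.1 ((h1 v).symm.trans (h2 v))

theorem x_t33 : e d1 * σ r0 = σ r0 * e d1 := h.e_t.2 rfl

theorem jj33 : jj e i * jj e i = σ r0 := (q8 h.t2 h.x_t33 h.ii h.ij).1

theorem ji33 : jj e i * i = i * jj e i * σ r0 := (q8 h.t2 h.x_t33 h.ii h.ij).2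

theorem list33 {r : G} : r ∈ RR e i ↔ r = 1 ∨ r = σ r0 ∨ r = i ∨ r = i * σ r0 ∨ r = jj e i ∨
    r = jj e i * σ r0 ∨ r = i * jj e i ∨ r = i * jj e i * σ r0 := q8_list h.t2 h.ii h.jj33 h.ji33 r

omit h in
theorem i_R33 : i ∈ RR e i := subset_closure (by simp)

omit h in
theorem j_R33 : jj e i ∈ RR e i := subset_closure (by simp)

theorem t_R33 : σ r0 ∈ RR e i := h.ii ▸ mul_mem i_R33 i_R33

omit h in
theorem comm_R33 {g r : G} (h1 : i * g = g * i) (h2 : jj e i * g = g * jj e i) (hr : r ∈ RR e i) : r * g = g * r :=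
  mem_centralizer_singleton_iff.1 ((closure_le (centralizer {g})).2 (by
    rintro _ (rfl | rfl) <;> exact mem_centralizer_singleton_iff.2 ‹_›) hr)

omit h in
theorem norm_R33 {g r : G} (h1 : g * i * g⁻¹ ∈ RR e i) (h2 : g * jj e i * g⁻¹ ∈ RR e i) (hr : r ∈ RR e i) :
    g * r * g⁻¹ ∈ RR e i :=
  (closure_le ((RR e i).comap (MulAut.conj g).toMonoidHom)).2 (by rintro _ (rfl | rfl) <;> assumption) hr

theorem i_t33 : i * σ r0 = σ r0 * i := by rw [← h.ii, mul_assoc]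

theorem R_t33 {r : G} (hr : r ∈ RR e i) : r * σ r0 = σ r0 * r :=
  comm_R33 h.i_t33 (by rw [← h.jj33, mul_assoc]) hr

theorem R_z33 {r : G} (hr : r ∈ RR e i) : r * e z0 = e z0 * r :=
  comm_R33 h.iz ((show Commute _ _ from e_comm h.add _ _).mul_left h.iz |>.mul_left
    (show Commute _ _ from e_comm h.add _ _).inv_left) hr

theorem ij_ne33 : i * jj e i ≠ jj e i * i := fun k => h.t1 (mul_left_cancel (a := i * jj e i) (by
  rw [← h.ji33, k, mul_one]))

theorem ix_ne33 : i * e d1 ≠ e d1 * i := fun k => h.ij_ne33 (by rw [jj, ← k, mul_inv_cancel_right])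

/-- the elements of order four are `x`-conjugates of `i` and `i t` -/
theorem R_cases33 {r : G} (hr : r ∈ RR e i) : r = 1 ∨ r = σ r0 ∨
    ∃ u : V, (u = 0 ∨ u = d1 ∨ u = d1 + d1) ∧ (r = e u * i * (e u)⁻¹ ∨ r = e u * (i * σ r0) * (e u)⁻¹) := by
  have c : ∀ {a g : G}, g * σ r0 = σ r0 * g → g * (a * σ r0) * g⁻¹ = g * a * g⁻¹ * σ r0 := fun {a g} k => by
    rw [mul_assoc _ g⁻¹, (show Commute g _ from k).inv_left.eq]; group
  have k0 : e 0 * i * (e 0)⁻¹ = i := by rw [e_zero h.add]; group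
  have k2 : e (d1 + d1) * i * (e (d1 + d1))⁻¹ = e d1 * jj e i * (e d1)⁻¹ := by rw [h.add, jj]; group
  have t0 : e 0 * σ r0 = σ r0 * e 0 := h.e_t.2 rfl
  have t2 : e (d1 + d1) * σ r0 = σ r0 * e (d1 + d1) := h.e_t.2 rfl
  rcases h.list33.1 hr with k | k | k | k | k | k | k | k
  · exact .inl k
  · exact .inr (.inl k)
  · exact .inr (.inr ⟨0, .inl rfl, .inl (k.trans k0.symm)⟩)
  · exact .inr (.inr ⟨0, .inl rfl, .inr (by rw [c t0, k0, k])⟩)
  · exact .inr (.inr ⟨d1, .inr (.inl rfl), .inl k⟩)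
  · exact .inr (.inr ⟨d1, .inr (.inl rfl), .inr (by rw [c h.x_t33, k, jj])⟩)
  · refine .inr (.inr ⟨_, .inr (.inr rfl), h.ij.imp (fun k' => ?_) fun k' => ?_⟩)
    · rw [k2, k', k]
    · rw [c t2, k2, k', h.ji33, mul_assoc, h.t2, mul_one, k]
  · refine .inr (.inr ⟨_, .inr (.inr rfl), h.ij.symm.imp (fun k' => ?_) fun k' => ?_⟩)
    · rw [k2, k', h.ji33, k]
    · rw [c t2, k2, k', k]

theorem R_sq33 {r : G} (hr : r ∈ RR e i) : r = 1 ∨ r = σ r0 ∨ r * r = σ r0 := by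
  refine (h.R_cases33 hr).imp_right (Or.imp_right ?_)
  rintro ⟨u, hu, k⟩
  have ut : e u * σ r0 = σ r0 * e u := h.e_t.2 (by rcases hu with rfl | rfl | rfl <;> rfl)
  rcases k with rfl | rfl
  · rw [conj_mul, h.ii, ut, mul_inv_cancel_right]
  · rw [conj_mul, mul_assoc i, ← mul_assoc (σ r0), ← h.i_t33, mul_assoc i, h.t2, mul_one, h.ii, ut,
      mul_inv_cancel_right]

/-- `C(z) ∩ C(t)` normalises `R` -/
theorem R_norm33 {g r : G} (hz : g * e z0 = e z0 * g) (ht : g * σ r0 = σ r0 * g) (hr : r ∈ RR e i) :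
    g * r * g⁻¹ ∈ RR e i := by
  refine norm_R33 (h.Rn g hz ht) ?_ hr
  have := h.Rn (g * e d1) ((show Commute g _ from hz).mul_left (e_comm h.add _ _))
    ((show Commute g _ from ht).mul_left h.x_t33)
  rwa [mul_inv_rev, ← mul_assoc, mul_assoc g, mul_assoc g] at this

theorem R_e33 {r : G} (hr : r ∈ RR e i) {v : V} (h1 : v.1 = 0) : e v * r * (e v)⁻¹ ∈ RR e i :=
  h.R_norm33 (e_comm h.add _ _) (h.e_t.2 h1) hr

theorem R_B33 {r : G} (hr : r ∈ RR e i) {v : V} (h1 : v.1 = 0) (h2 : dot v z0 = 0) : r * e v = e v * r := by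
  let K : AddSubgroup V :=
    { carrier := {v | i * e v = e v * i}
      add_mem' := fun {a b} ha hb => by
        show _ = _
        rw [h.add]; exact (show Commute i _ from ha).mul_right hb
      zero_mem' := by show _ = _; rw [e_zero h.add, mul_one, one_mul]
      neg_mem' := fun {a} ha => by
        show _ = _
        rw [e_neg h.add]; exact (show Commute i _ from ha).inv_right }
  have cR : ∀ v ∈ K, ∀ r ∈ RR e i, r * e v = e v * r := fun v hv r hr =>
    comm_R33 hv (((show Commute _ _ from e_comm h.add _ _).mul_left hv).mul_left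
      (show Commute _ _ from e_comm h.add _ _).inv_left) hr
  have hc := h.Γ1_le cyc_mem
  have cK : ∀ v ∈ K, cyc • v ∈ K := fun v hv => by
    have z : σ cyc * e z0 = e z0 * σ cyc := by rw [h.σ_e' hc, show cyc • z0 = z0 by decide +kernel]
    have t : σ cyc * σ r0 = σ r0 * σ cyc := (h.σ_t hc).2 (.inl (by decide +kernel))
    have := cR v hv _ (h.R_norm33 (show Commute _ _ from z).inv_left (show Commute _ _ from t).inv_left i_R33)
    show i * e _ = e _ * i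
    rw [← h.σ_e _ hc]
    calc _ = σ cyc * ((σ cyc)⁻¹ * i * (σ cyc)⁻¹⁻¹ * e v) * (σ cyc)⁻¹ := by group
      _ = _ := by rw [this]; group
  have n1 : d1 ∉ K := h.ix_ne33
  have ex : ∃ u : V, (u = 0 ∨ u = d1 ∨ u = d1 + d1) ∧ -u + d2 ∈ K := by
    have sq : e d2 * i * (e d2)⁻¹ * (e d2 * i * (e d2)⁻¹) = σ r0 := by
      rw [conj_mul, h.ii, h.e_t.2 rfl, mul_inv_cancel_right]
    rcases h.R_cases33 (h.R_e33 i_R33 (v := d2) rfl) with k | k | ⟨u, hu, k⟩
    · exact absurd (by rw [← sq, k, mul_one]) h.t1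
    · exact absurd (by rw [← sq, k, h.t2]) h.t1
    refine ⟨u, hu, ?_⟩
    have gt : e (-u + d2) * σ r0 = σ r0 * e (-u + d2) := h.e_t.2 (by rcases hu with rfl | rfl | rfl <;> rfl)
    have g3 := e_cube h.add (-u + d2)
    have k' : e (-u + d2) * i * (e (-u + d2))⁻¹ = i ∨ e (-u + d2) * i * (e (-u + d2))⁻¹ = i * σ r0 := by
      rw [h.add, e_neg h.add, show (e u)⁻¹ * e d2 * i * ((e u)⁻¹ * e d2)⁻¹ = (e u)⁻¹ * (e d2 * i * (e d2)⁻¹) * e u by
        group]
      exact k.imp (fun k => by rw [k]; group) fun k => by rw [k]; group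
    show i * e _ = e _ * i
    generalize e (-u + d2) = g at gt g3 k'
    rcases k' with k' | k'
    · exact (mul_inv_eq_iff_eq_mul.1 k').symm
    · have k2 : g * g * i = i * (g * g) := by
        have k3 := mul_inv_eq_iff_eq_mul.1 k'
        rw [mul_assoc, k3, ← mul_assoc, ← mul_assoc, k3, mul_assoc i, ← gt, mul_assoc i, mul_assoc g, h.t2, mul_one,
          mul_assoc]
      have := ((show Commute (g * g) i from k2).mul_left k2).symm.eq
      rwa [show g * g * (g * g) = g ^ 3 * g by rw [pow_three', ← mul_assoc], g3, one_mul] at this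
  obtain ⟨u, rfl | rfl | rfl, hu⟩ := ex
  · exact absurd ((show cyc • cyc • (-0 + d2) = d1 by decide +kernel) ▸ cK _ (cK _ hu)) n1
  · refine cR v ?_ r hr
    rw [(by decide +kernel : ∀ v : V, v.1 = 0 → dot v z0 = 0 →
      v = (-v.2.1).val • (-d1 + d2) + v.2.2.2.val • cyc • (-d1 + d2)) v h1 h2]
    exact K.add_mem (K.nsmul_mem hu _) (K.nsmul_mem (cK _ hu) _)
  · exact absurd ((show cyc • (-(d1 + d1) + d2) - (-(d1 + d1) + d2) - cyc • cyc • (-(d1 + d1) + d2) = d1 by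
      decide +kernel) ▸ K.sub_mem (K.sub_mem (cK _ hu) hu) (cK _ (cK _ hu))) n1

/-- `R` acts freely on the conjugates of `e d0` -/
theorem R_d0_33 {r : G} (hr : r ∈ RR e i) (hc : r * e d0 = e d0 * r) : r = 1 := by
  have n : σ r0 * e d0 ≠ e d0 * σ r0 := fun k => absurd (h.e_t.1 k.symm) (by decide)
  rcases h.R_sq33 hr with k | k | k
  · exact k
  · exact absurd (k ▸ hc) n
  · exact absurd (k ▸ (show Commute r _ from hc).mul_left hc) n

theorem R_fix33 {r : G} (hr : r ∈ RR e i) {v : V} (h1 : v.1 = 0) (h2 : dot v z0 ≠ 0) (hc : r * e v = e v * r) :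
    r = 1 ∨ r = σ r0 := by
  have hx : Commute r (e d1) := by
    obtain ⟨β, b1, b2, k | k⟩ := split_d1_33 v h1 h2 <;> rw [k, h.add]
    · exact (show Commute r _ from hc).mul_right (h.R_B33 hr b1 b2)
    · rw [e_neg h.add]; exact (show Commute r _ from hc).inv_right.mul_right (h.R_B33 hr b1 b2)
  refine (h.R_cases33 hr).imp_right (Or.resolve_right · ?_)
  rintro ⟨u, -, k⟩
  have c : Commute (e u) (e d1) := e_comm h.add _ _
  have k' := (c.inv_left.mul_left hx).mul_left c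
  rcases k with rfl | rfl
  · exact h.ix_ne33 (Commute.eq (by simpa [mul_assoc] using k'))
  · have := k'.mul_left (show Commute _ _ from h.x_t33).symm.inv_left
    exact h.ix_ne33 (Commute.eq (by simpa [mul_assoc] using this))

theorem R_σ33 {r : G} (hr : r ∈ RR e i) {A : O4} (hA : A ∈ Γ) (h1 : A • d0 = d0) (h2 : A • z0 = z0) :
    r * σ A = σ A * r := by
  obtain ⟨k1, k2, k3⟩ := stab_A1_33 A h1 h2
  have a1 := h.Γ1_le A1_mem
  have c0 : σ A * e d0 = e d0 * σ A := by rw [h.σ_e' hA, h1]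
  have c1 : σ A * σ A1 * (σ A)⁻¹ = σ A1 := by rw [h.σ_conj hA a1, k1, mul_inv_cancel_right]
  have hi : σ A * i * (σ A)⁻¹ = i := by
    refine (inv_mul_eq_one.1 (h.R_d0_33 (mul_mem (inv_mem i_R33) (h.Rn _ (by rw [h.σ_e' hA, h2])
      ((h.σ_t hA).2 (.inl h1)))) ?_)).symm
    rw [← mul_inv_eq_iff_eq_mul]
    calc _ = i⁻¹ * (σ A * (i * ((σ A)⁻¹ * (e d0 * σ A)) * i⁻¹) * (σ A)⁻¹) * i := by group
      _ = _ := by rw [← c0, inv_mul_cancel_left, h.id, c1, ← h.id]; group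
  refine comm_R33 (mul_inv_eq_iff_eq_mul.1 hi).symm (mul_inv_eq_iff_eq_mul.1 ?_).symm hr
  have c2 : σ A * e d1 * (σ A)⁻¹ = e d1 * e (A • d1 - d1) := by rw [h.σ_e A hA, ← h.add, add_sub_cancel]
  calc _ = σ A * e d1 * (σ A)⁻¹ * (σ A * i * (σ A)⁻¹) * (σ A * e d1 * (σ A)⁻¹)⁻¹ := by rw [jj]; group
    _ = e d1 * (e (A • d1 - d1) * i) * (e (A • d1 - d1))⁻¹ * (e d1)⁻¹ := by rw [c2, hi]; group
    _ = _ := by rw [← h.R_B33 i_R33 k2 k3, jj]; group

theorem R_σ33' {r : G} (hr : r ∈ RR e i) {A : O4} (hA : A ∈ Γ) (h1 : A • d0 = d0 ∨ A • d0 = -d0) (h2 : A • z0 = z0) :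
    r * σ A = σ A * r := by
  rcases h1 with h1 | h1
  · exact h.R_σ33 hr hA h1 h2
  · have h0 := h.Γ1_le r0_mem
    have := (show Commute r _ from h.R_σ33 hr (Γ.mul_mem hA h0)
      (by rw [mul_smul, show r0 • d0 = -d0 by decide +kernel, smul_neg, h1, neg_neg])
      (by rw [mul_smul, show r0 • z0 = z0 by decide +kernel, h2])).mul_right (h.R_t33 hr)
    rwa [h.σ_mul _ hA _ h0, mul_assoc, h.t2, mul_one] at this

theorem w_e33 (v : V) : σ ng * e v * (σ ng)⁻¹ = (e v)⁻¹ := by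
  rw [h.σ_e _ (h.Γ1_le ng_mem), ng_smul, e_neg h.add]

theorem w_w33 : σ ng * σ ng = 1 := by
  rw [← h.σ_mul _ (h.Γ1_le ng_mem) _ (h.Γ1_le ng_mem), show ng * ng = 1 by decide +kernel, h.σ_one]

theorem w_σ33 {A : O4} (hA : A ∈ Γ) : σ ng * σ A = σ A * σ ng := by
  rw [← h.σ_mul _ (h.Γ1_le ng_mem) _ hA, ng_comm, h.σ_mul _ hA _ (h.Γ1_le ng_mem)]

variable [Finite G]

theorem R_N33 {r : G} (hr : r ∈ RR e i) (hN : r ∈ NN e) : r = 1 ∨ r = σ r0 := by
  have n : i ∉ NN e := fun k => by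
    obtain ⟨w, hw⟩ := (mem_NN h.add).1 k d0
    rw [h.id, ← one_mul (σ A1), ← e_zero h.add] at hw
    exact absurd ((h.eq_e (h.Γ1_le A1_mem)).1 hw).2 (by decide +kernel)
  refine (h.R_cases33 hr).imp_right (Or.resolve_right · ?_)
  rintro ⟨u, -, rfl | rfl⟩
  · exact n (by simpa [mul_assoc] using mul_mem (mul_mem (inv_mem (h.e_mem u)) hN) (h.e_mem u))
  · have := mul_mem (mul_mem (mul_mem (inv_mem (h.e_mem u)) hN) (h.e_mem u)) (inv_mem (h.σ_mem (h.Γ1_le r0_mem)))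
    exact n (by simpa [mul_assoc] using this)

theorem w_i33 : σ ng * i * (σ ng)⁻¹ = i⁻¹ := by
  have h0 := h.Γ1_le r0_mem
  have wt := h.w_σ33 h0
  have iz : σ ng * i * (σ ng)⁻¹ * e z0 = e z0 * (σ ng * i * (σ ng)⁻¹) := by
    rw [← inv_inv (e z0), ← h.w_e33, conj_inv, conj_mul, conj_mul, (show Commute i _ from h.iz).inv_right.eq]
  have ii : σ ng * i * (σ ng)⁻¹ * (σ ng * i * (σ ng)⁻¹) = σ r0 := by rw [conj_mul, h.ii, wt, mul_inv_cancel_right]
  have it : σ ng * i * (σ ng)⁻¹ * σ r0 = σ r0 * (σ ng * i * (σ ng)⁻¹) := by rw [← ii, mul_assoc _ (_ * _ * _)]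
  have ej : ∀ y : G, σ ng * (e d1 * y * (e d1)⁻¹) * (σ ng)⁻¹ = (e d1)⁻¹ * (σ ng * y * (σ ng)⁻¹) * (e d1)⁻¹⁻¹ :=
    fun y => (show _ = σ ng * e d1 * (σ ng)⁻¹ * (σ ng * y * (σ ng)⁻¹) * (σ ng * e d1 * (σ ng)⁻¹)⁻¹ by group).trans
      (by rw [h.w_e33])
  have ij := h.ij.imp (congrArg fun y => σ ng * y * (σ ng)⁻¹) (congrArg fun y => σ ng * y * (σ ng)⁻¹)
  rw [ej, ← conj_mul (a := i) (b := σ ng), ← conj_mul (c := i) (b := σ ng), jj, ej] at ij
  have id : σ ng * i * (σ ng)⁻¹ * e d0 * (σ ng * i * (σ ng)⁻¹)⁻¹ = (σ A1)⁻¹ := by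
    rw [← inv_inv (e d0), ← h.w_e33]
    calc _ = (σ ng * (i * e d0 * i⁻¹) * (σ ng)⁻¹)⁻¹ := by group
      _ = _ := by rw [h.id, h.w_σ33 (h.Γ1_le A1_mem), mul_inv_cancel_right]
  generalize σ ng * i * (σ ng)⁻¹ = i' at iz ii it ij id
  have hR : i' ∈ RR e i := by
    obtain ⟨r, hr, hn⟩ := h.cz i' iz
    have nz : r⁻¹ * i' * e z0 = e z0 * (r⁻¹ * i') := (show Commute r _ from h.R_z33 hr).inv_left.mul_left iz
    have nt : r⁻¹ * i' * σ r0 = σ r0 * (r⁻¹ * i') := (show Commute r _ from h.R_t33 hr).inv_left.mul_left it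
    obtain ⟨g, rfl⟩ : ∃ g, i' = r * g := ⟨r⁻¹ * i', (mul_inv_cancel_left _ _).symm⟩
    rw [inv_mul_cancel_left] at hn nz nt
    obtain ⟨v, A, hA, eg⟩ := h.norm g hn
    have ag : Act e g A := fun u => eg ▸ h.conj_e hA v u
    have xz : Commute (e d1)⁻¹ (e z0) := (show Commute _ _ from e_comm h.add _ _).inv_left
    have xt : Commute (e d1)⁻¹ (σ r0) := (show Commute _ _ from h.x_t33).inv_left
    have xN := inv_mem (h.e_mem d1)
    have xa : ∀ {y : G}, Act e y A → Act e ((e d1)⁻¹ * y * (e d1)⁻¹⁻¹) A := fun k => by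
      simpa using ((h.act_e33 d1).inv33.mul33 k).mul33 (h.act_e33 d1).inv33.inv33
    generalize (e d1)⁻¹ = x at ij xz xt xN xa
    have r2 := h.R_norm33 xz xt hr
    have r3 := h.R_norm33 xz xt r2
    have n2 := mul_mem (mul_mem xN hn) (inv_mem xN)
    have n3 := mul_mem (mul_mem xN n2) (inv_mem xN)
    have fin : ∀ y ∈ NN e, Act e y (A * A) → y * (x * (x * g * x⁻¹) * x⁻¹)⁻¹ ∈ RR e i → A = 1 ∨ A = r0 :=
      fun y hy ay hm => by
        have a := ay.mul33 (xa (xa ag)).inv33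
        rw [mul_inv_cancel_right] at a
        refine (h.R_N33 hm (mul_mem hy (inv_mem n3))).imp (fun k => ?_) fun k => ?_ <;> rw [k] at a
        · exact h.act_uniq33 a fun u => by simp
        · exact h.act_uniq33 a (h.σ_e _ h0)
    have hA1 : A = 1 ∨ A = r0 := by
      rcases ij with k | k
      · refine fin _ (mul_mem hn n2) (ag.mul33 (xa ag)) ?_
        have := mul_mem (inv_mem (mul_mem hr (h.R_norm33 nz nt r2))) r3
        rw [show x * (x * r * x⁻¹) * x⁻¹ = x * (x * (r * g) * x⁻¹) * x⁻¹ * (x * (x * g * x⁻¹) * x⁻¹)⁻¹ by group,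
          k] at this
        convert this using 1
        group
      · refine fin _ (mul_mem n2 hn) ((xa ag).mul33 ag) ?_
        have := mul_mem (inv_mem (mul_mem r2 (h.R_norm33 ((xz.mul_left nz).mul_left xz.inv_left)
          ((xt.mul_left nt).mul_left xt.inv_left) hr))) r3
        rw [show x * (x * r * x⁻¹) * x⁻¹ = x * (x * (r * g) * x⁻¹) * x⁻¹ * (x * (x * g * x⁻¹) * x⁻¹)⁻¹ by group,
          k] at this
        convert this using 1
        group
    have g2 : g * g ∈ RR e i := by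
      have := mul_mem (inv_mem (mul_mem hr (h.R_norm33 nz nt hr))) h.t_R33
      rw [← ii] at this
      convert this using 1
      group
    refine mul_mem hr ?_
    have e3 := e_cube h.add v
    rcases hA1 with rfl | rfl
    · rw [h.σ_one, mul_one] at eg
      have := mul_mem g2 g2
      rwa [show g * g * (g * g) = g ^ 3 * g by rw [pow_three', ← mul_assoc], eg, e3, one_mul, ← eg] at this
    · have vt : e v * σ r0 = σ r0 * e v := mul_right_cancel (b := σ r0) (by rw [mul_assoc (σ r0), ← eg, nt])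
      rw [eg, mul_assoc, ← mul_assoc (σ r0), ← vt, mul_assoc, h.t2, mul_one] at g2
      have := mul_mem g2 g2
      rw [show e v * e v * (e v * e v) = e v ^ 3 * e v by rw [pow_three', ← mul_assoc], e3, one_mul] at this
      exact eg ▸ mul_mem this h.t_R33
  refine eq_inv_of_mul_eq_one_right (h.R_d0_33 (mul_mem i_R33 hR) ?_)
  rw [← mul_inv_eq_iff_eq_mul]
  calc _ = i * (i' * e d0 * i'⁻¹) * i⁻¹ := by group
    _ = (i * i * e d0 * (i * i)⁻¹)⁻¹ := by rw [id, ← h.id]; simp only [mul_inv_rev, inv_inv, mul_assoc]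
    _ = _ := by rw [h.ii, h.σ_e _ h0, show r0 • d0 = -d0 by decide +kernel, e_neg h.add, inv_inv]

theorem w_j33 : σ ng * jj e i * (σ ng)⁻¹ = (e d1 * jj e i * (e d1)⁻¹)⁻¹ := by
  have x3 : e d1 * e d1 = (e d1)⁻¹ := eq_inv_of_mul_eq_one_left (by rw [← pow_three', e_cube h.add])
  calc _ = σ ng * e d1 * (σ ng)⁻¹ * (σ ng * i * (σ ng)⁻¹) * (σ ng * e d1 * (σ ng)⁻¹)⁻¹ := by rw [jj]; group
    _ = (e d1 * e d1 * i * (e d1 * e d1)⁻¹)⁻¹ := by rw [h.w_e33, h.w_i33, x3]; group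
    _ = _ := by rw [jj]; group

end Cf

end Cfsg.Agent.O83
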