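import Cfsg.Agent.O83.Bas1
import Cfsg.Agent.O83.Bas2
import Cfsg.Agent.H46.Generation

set_option autoImplicit false
set_option synthInstance.maxSize 4096
set_option maxRecDepth 100000

namespace Cfsg.Agent.O83

open Subgroup

variable {G : Type*} [Group G] [Finite G] {Γ : Subgroup O4} {e : V → G} {σ : O4 → G} {i : G}

namespace Bas3a

omit [Finite G] in
theorem one_of {K : Subgroup G} (hK : (Nat.card K).Coprime 3) {g : G} (hg : g ∈ K) (h3 : g ^ 3 = 1) : g = 1 :=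
  orderOf_eq_one_iff.1 (Nat.eq_one_of_dvd_coprimes hK (K.orderOf_dvd_natCard hg) (orderOf_dvd_of_pow_eq_one h3))

theorem A1_1 : ∀ c : F, A1 • ((1, c, c, c) : V) = (1, c + 1, c + 1, c + 1) := by decide +kernel
theorem A1_2 : A1 • d0 = d0 + z0 := by decide +kernel
theorem gk_d0 : ∀ k, gk k • d0 = d0 := by decide +kernel

/-- a totally singular plane -/
def L (p : F × F) : V := (p.2, p.1, p.1 + p.2, p.1 + p.2 + p.2)
theorem hL : ∀ p p', L (p + p') = L p + L p' := by decide +kernel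
theorem hL0 : ∀ p, L p = 0 → p = 0 := by decide +kernel
theorem hLq : ∀ p, q (L p) = 0 := by decide +kernel

theorem A1_d0 (m : ℕ) : ∃ c : F, A1 ^ m • d0 = (1, c, c, c) := by
  induction m with
  | zero => exact ⟨0, by rw [pow_zero, one_smul]; rfl⟩
  | succ m ih =>
    obtain ⟨c, k⟩ := ih
    exact ⟨c + 1, by rw [pow_succ', mul_smul, k, A1_1]⟩

theorem sig0 (h : Cf Γ e σ i) {g : G} (hz : g * e z0 = e z0 * g)
    (hc : ∀ v, (g * e v * g⁻¹ * (e v)⁻¹) ^ 3 = 1 → g * e v * g⁻¹ * (e v)⁻¹ = 1) : g ^ 3 = 1 := by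
  have hA := h.Γ1_le A1_mem
  have h0 : g * e d0 * g⁻¹ = e d0 := by
    refine mul_inv_eq_one.1 (hc _ ?_)
    obtain ⟨a, c, m, k⟩ := h.Q1_norm hz 1 0 0
    rw [pow_zero, h.σ_one, mul_one] at k
    obtain ⟨c', k'⟩ := A1_d0 m
    obtain ⟨r, -, a', c'', k''⟩ := h.Q1_conj (a - 1) (c - c') m
    have e1 : g * e d0 * g⁻¹ * (e d0)⁻¹ = e (a - 1, c - c', c - c', c - c') * σ (A1 ^ m) := by
      rw [show g * e d0 * g⁻¹ = _ from k, ← e_neg h.add, mul_assoc, h.σ_e' (Γ.pow_mem hA m), ← mul_assoc, ← h.add,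
        smul_neg, k']
      simp [sub_eq_add_neg]
    rw [e1, ← conj_eq_one_iff (a := r), ← conj_pow, k'', e_cube h.add]
  have hN : g ∈ NN e := h.zN (u := z0) (v := d0) (by decide) (by decide) (by decide) (by decide) (by decide)
    (by decide) hz h0
  obtain ⟨u, rfl⟩ := h.cj (g := g) fun v => by
    rw [← mul_inv_eq_iff_eq_mul]
    refine mul_inv_eq_one.1 (hc _ ?_)
    obtain ⟨w, k⟩ := (mem_NN h.add).1 hN v
    rw [k, ← e_neg h.add, ← h.add, e_cube h.add]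
  exact e_cube h.add u

omit [Finite G] in
theorem pow_N (h : Cf Γ e σ i) {A : O4} (hA : A ∈ Γ) (v : V) (n : ℕ) : ∃ w, (e v * σ A) ^ n = e w * σ (A ^ n) := by
  induction n with
  | zero => exact ⟨0, by rw [pow_zero, pow_zero, h.σ_one, e_zero h.add, mul_one]⟩
  | succ n ih =>
    obtain ⟨w, k⟩ := ih
    exact ⟨_, by rw [pow_succ, k, h.mul_eq (Γ.pow_mem hA n) hA, pow_succ]⟩

theorem n23' (h : Cf Γ e σ i) {g : G} (hg : g ∈ NN e) : g ^ (1152 * 3) = 1 := by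
  obtain ⟨v, A, hA, rfl⟩ := h.norm g hg
  obtain ⟨w, k⟩ := pow_N h hA v 1152
  rw [pow_mul, k, ← card_O4, pow_card_eq_one', h.σ_one, mul_one, e_cube h.add]

theorem c0 (h : Cf Γ e σ i) {g : G} (hg : g * e z0 = e z0 * g) : g ^ 12 ∈ NN e := by
  have ht := h.σ_mem (h.Γ1_le r0_mem)
  have key : ∀ k : Fin 5, ∃ l : Fin 4, (![1, i, jj e i, i * jj e i] l)⁻¹ * g ^ k.val ∈ NN e := fun k => by
    obtain ⟨r, hr, k1⟩ := h.cz (g ^ k.val) (Commute.pow_left hg k.val)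
    have k2 : ∀ s : G, (s * σ r0)⁻¹ * g ^ k.val ∈ NN e → s⁻¹ * g ^ k.val ∈ NN e := fun s hs => by
      simpa [mul_assoc] using (NN e).mul_mem ht hs
    rcases h.mem_R.1 hr with rfl | rfl | rfl | rfl | rfl | rfl | rfl | rfl
    · exact ⟨0, k1⟩
    · exact ⟨0, k2 1 (by rwa [one_mul])⟩
    · exact ⟨1, k1⟩
    · exact ⟨1, k2 _ k1⟩
    · exact ⟨2, k1⟩
    · exact ⟨2, k2 _ k1⟩
    · exact ⟨3, k1⟩
    · exact ⟨3, k2 _ k1⟩
  choose f hf using key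
  have key : ∀ k l : Fin 5, k < l → f k = f l → g ^ 12 ∈ NN e := fun k l hkl hkl' => by
    have k1 := (NN e).mul_mem ((NN e).inv_mem (hf k)) (hf l)
    obtain ⟨d, hd⟩ := (by decide : ∀ k l : Fin 5, k < l → l.val - k.val ∣ 12) k l hkl
    rw [hkl', show l.val = k.val + (l.val - k.val) by have := Fin.lt_def.1 hkl; omega, pow_add] at k1
    rw [hd, pow_mul]
    exact (NN e).pow_mem (by simpa [mul_assoc] using k1) d
  obtain ⟨k, l, hne, hkl⟩ := Fintype.exists_ne_map_eq_of_card_lt f (by simp)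
  rcases lt_or_gt_of_ne hne with k1 | k1
  · exact key k l k1 hkl
  · exact key l k k1 hkl.symm

theorem into (h : Cf Γ e σ i) {E B : Subgroup G} (hJ : ∀ v, e v ∈ E) (hB : IsPGroup 3 B) (hBE : B ≤ E) :
    ∃ c ∈ E, ∀ y ∈ B, c * y * c⁻¹ ∈ NN e := by
  have : Fact (Nat.Prime 3) := ⟨Nat.prime_three⟩
  obtain ⟨S, hS⟩ := ((Bas2a.pJ h.toAd).comap_subtype (K := E)).exists_le_sylow
  obtain ⟨R, hR⟩ := (hB.comap_subtype (K := E)).exists_le_sylow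
  obtain ⟨c, hc⟩ := MulAction.exists_smul_eq E R S
  have hN : (S : Subgroup E).map E.subtype ≤ NN e := h.p3 (S.2.map _) fun v =>
    ⟨⟨e v, hJ v⟩, hS (show e v ∈ JJ e from (mem_JJ h.add).2 ⟨v, rfl⟩), rfl⟩
  refine ⟨c, c.2, fun y hy => hN ⟨c * ⟨y, hBE hy⟩ * c⁻¹, ?_, rfl⟩⟩
  rw [← hc]
  exact smul_mem_pointwise_smul _ (MulAut.conj c) _ (hR (show y ∈ B from hy))

theorem comm3 {A B : O4} (h : A * A * A = 1) (k : B * B * B = 1)
    (c : A * (B * A * B⁻¹) = B * A * B⁻¹ * A) : B * A * B⁻¹ = A := by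
  by_cases h1 : A = 1
  · simp [h1]
  by_cases k1 : B = 1
  · simp [k1]
  exact of_decide_eq_true (List.all_eq_true.1 (List.all_eq_true.1 (by decide +kernel :
    (Uqa.L3.all fun A => Uqa.L3.all fun B => decide (A * (B * A * B⁻¹) = B * A * B⁻¹ * A →
      B * A * B⁻¹ = A)) = true) A (Uqa.mem_L3 h h1)) B (Uqa.mem_L3 k k1)) c

theorem lemL (h : Cf Γ e σ i) {k : Fin 4} {r : G} (hr : r ∈ Rk e σ i k) {w : V} (hw : w.1 = 0) {n : ℕ}
    (hn : n.Coprime 3) (k1 : (r * e w) ^ n = 1) : e w = 1 := by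
  have key : ∀ n : ℕ, ∃ s ∈ Rk e σ i k, (r * e w) ^ n = s * e w ^ n := fun n => by
    induction n with
    | zero => exact ⟨1, one_mem _, by simp⟩
    | succ n ih =>
      obtain ⟨s, hs, k⟩ := ih
      exact ⟨r * (e w * s * (e w)⁻¹), mul_mem hr (h.Rk_e hs hw), by rw [pow_succ', k, pow_succ']; group⟩
  obtain ⟨s, hs, k2⟩ := key n
  have k3 : e w ^ n ∈ Rk e σ i k := by
    rw [k1, eq_comm, mul_eq_one_iff_inv_eq] at k2
    exact k2 ▸ inv_mem hs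
  have k4 : (e w ^ n) ^ 4 = 1 := by
    rw [show 4 = 2 * 2 from rfl, pow_mul, pow_two, pow_two]
    rcases h.Rk_sq k3 with k | k | k <;> rw [k]
    · simp
    · rw [h.t2, mul_one]
    · exact h.t2
  rw [← pow_mul] at k4
  exact orderOf_eq_one_iff.1 (Nat.eq_one_of_dvd_coprimes (Nat.Coprime.mul_left hn (by norm_num : Nat.Coprime 4 3))
    (orderOf_dvd_of_pow_eq_one k4) (orderOf_dvd_of_pow_eq_one (e_cube h.add w)))

end Bas3a

/-- S1 -/
theorem Cf.sigJ (h : Cf Γ e σ i) {K : Subgroup G} (hK : (Nat.card K).Coprime 3)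
    (hn : ∀ v, e v ∈ normalizer (K : Set G)) : K = ⊥ := by
  have : Fact (Nat.Prime 3) := ⟨Nat.prime_three⟩
  let f : Multiplicative (F × F) →* G := MonoidHom.mk' (fun p => e (Bas3a.L p.toAdd)) fun a b => by
    rw [toAdd_mul, Bas3a.hL, h.add]
  have h3 : ∀ x : f.range, x ^ 3 = 1 := by
    rintro ⟨_, p, rfl⟩
    exact Subtype.ext (e_cube h.add _)
  refine eq_bot_iff.2 (H46.le_of_forall_element (p := 3) (A := f.range) (fun x => ⟨1, h3 x⟩) inferInstance ?_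
    ((Nat.Prime.coprime_iff_not_dvd Nat.prime_three).1 hK.symm) (by rintro _ ⟨p, rfl⟩; exact hn _) ?_)
  · intro hc
    obtain ⟨x, hx⟩ := IsCyclic.exists_generator (α := f.range)
    have k1 := orderOf_dvd_of_pow_eq_one (h3 x)
    rw [orderOf_eq_card_of_forall_mem_zpowers hx, ← Nat.card_congr (f.ofInjective
      ((injective_iff_map_eq_one f).2 fun a k => Bas3a.hL0 _ (h.inj _ k))).toEquiv, Nat.card_congr Multiplicative.toAdd] at k1
    simp at k1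
  · rintro _ ⟨p, rfl⟩ p1 g ⟨hg, hc⟩
    obtain ⟨A, hA, k⟩ := tr_z (Bas3a.hLq p.toAdd) (fun k => p1 (show e _ = 1 by rw [k, e_zero h.add]))
    have hA := h.Γ1_le hA
    have hc : g * e (A • z0) = e (A • z0) * g := k ▸ (mem_centralizer_singleton_iff.1 hc)
    have k3 := Bas3a.sig0 h (g := (σ A)⁻¹ * g * σ A) (by
      rw [← h.σ_e A hA] at hc
      calc (σ A)⁻¹ * g * σ A * e z0 = (σ A)⁻¹ * (g * (σ A * e z0 * (σ A)⁻¹)) * σ A := by group
        _ = _ := by rw [hc]; group) fun v hv => by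
      have e1 : (σ A)⁻¹ * g * σ A * e v * ((σ A)⁻¹ * g * σ A)⁻¹ * (e v)⁻¹ =
          (σ A)⁻¹ * (g * (e (A • v) * g⁻¹ * (e (A • v))⁻¹)) * (σ A)⁻¹⁻¹ := by rw [← h.σ_e A hA]; group
      rw [e1, conj_pow, conj_eq_one_iff] at hv
      rw [e1, conj_eq_one_iff]
      exact Bas3a.one_of hK (mul_mem hg ((mem_normalizer_iff.1 (hn _) _).1 (inv_mem hg))) hv
    rw [show (σ A)⁻¹ * g * σ A = (σ A)⁻¹ * g * (σ A)⁻¹⁻¹ by rw [inv_inv], conj_pow, conj_eq_one_iff] at k3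
    exact Bas3a.one_of hK hg k3

/-- S2' -/
theorem Cf.n23 (h : Cf Γ e σ i) {g : G} (hg : g ∈ NN e) : g ^ (2 ^ 10 * 3 ^ 7) = 1 := by
  rw [show 2 ^ 10 * 3 ^ 7 = 1152 * 3 * 648 by norm_num, pow_mul, Bas3a.n23' h hg, one_pow]

/-- S2 -/
theorem Cf.c23 (h : Cf Γ e σ i) {v : V} (hv : q v = 0) (v0 : v ≠ 0) {g : G} (hg : g * e v = e v * g) :
    g ^ (2 ^ 10 * 3 ^ 7) = 1 := by
  obtain ⟨A, hA, rfl⟩ := tr_z hv v0
  have hA := h.Γ1_le hA
  have k := Bas3a.n23' h (Bas3a.c0 h (g := (σ A)⁻¹ * g * (σ A)⁻¹⁻¹) (by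
    rw [← h.σ_e A hA] at hg
    calc (σ A)⁻¹ * g * (σ A)⁻¹⁻¹ * e z0 = (σ A)⁻¹ * (g * (σ A * e z0 * (σ A)⁻¹)) * σ A := by group
      _ = _ := by rw [hg]; group))
  rw [← pow_mul, conj_pow, conj_eq_one_iff] at k
  rw [show 2 ^ 10 * 3 ^ 7 = 12 * (1152 * 3) * 54 by norm_num, pow_mul, k, one_pow]

/-- S3: `τ` is not conjugate into `J` -/
theorem Cf.nτ (h : Cf Γ e σ i) (g : G) (v : V) : g * σ cyc * g⁻¹ ≠ e v := by
  intro hg
  have : Fact (Nat.Prime 3) := ⟨Nat.prime_three⟩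
  have hA := h.Γ1_le A1_mem
  have hτ := h.Γ1_le cyc_mem
  have b3 : σ A1 ^ 3 = 1 := by rw [← h.σ_pow hA, show A1 ^ 3 = 1 by decide +kernel, h.σ_one]
  have pT : IsPGroup 3 ↥(zpowers (σ A1) ⊔ JJ e) := IsPGroup.to_sup_of_normal_right' (by
    rintro ⟨_, n, rfl⟩
    exact ⟨1, Subtype.ext (by rw [pow_one, coe_pow, coe_one, ← zpow_natCast, ← zpow_mul, mul_comm, zpow_mul,
      zpow_natCast, b3, one_zpow])⟩) (Bas2a.pJ h.toAd) (zpowers_le.2 (h.σ_mem hA))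
  obtain ⟨c, hc, k⟩ := Bas3a.into h (E := centralizer {e v})
    (B := ((zpowers (σ A1) ⊔ JJ e) ⊓ centralizer {σ cyc}).map (MulAut.conj g).toMonoidHom)
    (fun w => mem_centralizer_singleton_iff.2 (e_comm h.add _ _)) (pT.to_inf_left.map _) (by
      rintro _ ⟨y, ⟨-, hy⟩, rfl⟩
      rw [mem_centralizer_singleton_iff, ← hg]
      calc g * y * g⁻¹ * (g * σ cyc * g⁻¹) = g * (y * σ cyc) * g⁻¹ := by group
        _ = g * σ cyc * g⁻¹ * (g * y * g⁻¹) := by rw [mem_centralizer_singleton_iff.1 hy]; group)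
  have hg' : c * g * σ cyc * (c * g)⁻¹ = e v := by
    calc c * g * σ cyc * (c * g)⁻¹ = c * (g * σ cyc * g⁻¹) * c⁻¹ := by group
      _ = _ := by rw [hg, mem_centralizer_singleton_iff.1 hc, mul_inv_cancel_right]
  have k' : ∀ y ∈ zpowers (σ A1) ⊔ JJ e, y * σ cyc = σ cyc * y → c * g * y * (c * g)⁻¹ ∈ NN e := fun y h1 h2 => by
    simpa [mul_assoc] using k _ ⟨y, ⟨h1, mem_centralizer_singleton_iff.2 h2⟩, rfl⟩
  generalize c * g = a at hg' k'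
  obtain ⟨u1, A, mA, k1⟩ := h.norm _ (k' (e d0) (mem_sup_right ((mem_JJ h.add).2 ⟨_, rfl⟩)) (by
    rw [h.σ_e' hτ, show cyc • d0 = d0 by decide +kernel]))
  obtain ⟨u2, B, mB, k2⟩ := h.norm _ (k' (σ A1) (mem_sup_left (mem_zpowers _)) (by
    rw [← h.σ_mul _ hA _ hτ, ← h.σ_mul _ hτ _ hA, show A1 * cyc = cyc * A1 by decide +kernel]))
  have cube : ∀ {u : V} {A : O4} {y : G}, A ∈ Γ → a * y * a⁻¹ = e u * σ A → y ^ 3 = 1 → A * A * A = 1 :=
    fun {u A y} mA k y3 => by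
      obtain ⟨w, k3⟩ := Bas3a.pow_N h mA u 3
      rw [← k, conj_pow, y3, mul_one, mul_inv_cancel, ← e_zero h.add, eq_comm, h.eq_e (Γ.pow_mem mA 3)] at k3
      rw [← pow_three', k3.2]
  have act : ∀ {u : V} {A : O4} {y : G}, A ∈ Γ → a * y * a⁻¹ = e u * σ A → ∀ w,
      a * y * a⁻¹ * e w * (a * y * a⁻¹)⁻¹ = e (A • w) := fun mA k w => by rw [k, h.conj_e mA]
  have act3 : ∀ w, a * e (A1 • d0) * a⁻¹ * e w * (a * e (A1 • d0) * a⁻¹)⁻¹ = e ((B * A * B⁻¹) • w) := fun w => by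
    rw [mul_smul, mul_smul, ← act mB k2, ← act mA k1, ← h.σ_e _ hA]
    conv_lhs => rw [← smul_inv_smul B w, ← act mB k2]
    group
  have hc3 := Bas3a.comm3 (cube mA k1 (e_cube h.add _)) (cube mB k2 b3) (O4.ext' fun w => h.toAd.eq_iff.1 (by
    rw [mul_smul, mul_smul _ A, ← act mA k1, ← act3, ← act3, ← act mA k1]
    calc a * e d0 * a⁻¹ * (a * e (A1 • d0) * a⁻¹ * e w * (a * e (A1 • d0) * a⁻¹)⁻¹) * (a * e d0 * a⁻¹)⁻¹
        = a * (e d0 * e (A1 • d0)) * a⁻¹ * e w * (a * (e d0 * e (A1 • d0)) * a⁻¹)⁻¹ := by group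
      _ = _ := by rw [e_comm h.add d0]; group))
  have hz : ∀ w, a⁻¹ * e w * a⁻¹⁻¹ ∈ centralizer {e z0} := fun w => by
    have k3 := act3 w
    rw [hc3, ← act mA k1, Bas3a.A1_2, h.add] at k3
    rw [mem_centralizer_singleton_iff]
    calc a⁻¹ * e w * a⁻¹⁻¹ * e z0 = (e d0)⁻¹ * a⁻¹ * (a * e d0 * a⁻¹ * e w * (a * e d0 * a⁻¹)⁻¹) * a * e d0 * e z0 := by
          group
      _ = _ := by rw [← k3]; group
  obtain ⟨c, hc, k3⟩ := Bas2a.key h (fun w => mem_centralizer_singleton_iff.2 (e_comm h.add w z0)) hz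
  obtain ⟨r, hr, k4⟩ := h.cz c⁻¹ (mem_centralizer_singleton_iff.1 (inv_mem hc))
  obtain ⟨w, k5⟩ := (mem_NN h.add).1 (mul_mem k4 k3) v
  have k6 := h.R_σ hr hτ (by decide +kernel) (by decide +kernel)
  have k7 : σ cyc = e w := by
    rw [← k5, ← hg']
    calc σ cyc = r⁻¹ * (r * σ cyc) := by group
      _ = _ := by rw [k6]; group
  rw [← one_mul (σ cyc), ← e_zero h.add, h.eq_e hτ] at k7
  exact absurd k7.2 (by decide +kernel)

/-- S4 -/
theorem Cf.Z3 (h : Cf Γ e σ i) (k : Fin 4) {K : Subgroup G} (hK : (Nat.card K).Coprime 3)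
    (hn : ∀ v : V, v.1 = 0 → e v ∈ normalizer (K : Set G))
    (hc : ∀ g ∈ K, g * σ r0 = σ r0 * g ∧ g * e (zk k) = e (zk k) * g) : K ≤ Rk e σ i k := by
  intro g hg
  have pw : ∀ x ∈ K, x ^ Nat.card K = 1 := fun x hx => orderOf_dvd_iff_pow_eq_one.1 (K.orderOf_dvd_natCard hx)
  have h0 := h.Γ1_le r0_mem
  have hk := h.Γ1_le (gk_mem k)
  have tR : σ r0 ∈ Rk e σ i k := h.mem_Rk.2 (by
    rw [mul_assoc, ← (h.σ_t hk).2 (Or.inl (Bas3a.gk_d0 k)), inv_mul_cancel_left]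
    exact h.mem_R.2 (Or.inr (Or.inl rfl)))
  obtain ⟨r, hr, k1⟩ := h.czk (hc g hg).2
  obtain ⟨s, hs, v, A, hA, v0, A0, rfl⟩ : ∃ s ∈ Rk e σ i k, ∃ v : V, ∃ A ∈ Γ, v.1 = 0 ∧ A • d0 = d0 ∧
      g = s * (e v * σ A) := by
    obtain ⟨v, A, hA, v0, A0, k2⟩ := h.mem_NH k1 (Commute.mul_left (Commute.inv_left (h.Rk_t hr)) (hc g hg).1)
    rcases k2 with k2 | k2
    · exact ⟨r, hr, v, A, hA, v0, A0, by rw [← k2, mul_inv_cancel_left]⟩
    · refine ⟨r * σ r0, mul_mem hr tR, v, A, hA, v0, A0, ?_⟩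
      rw [mul_assoc, ← (h.comm_σ hA h0).2 ⟨(r0_fix v).2 v0, (comm_r0 A).2 (Or.inl A0)⟩, ← k2, mul_inv_cancel_left]
  have d1 : ∀ w : V, dot w d0 = w.1 := by decide +kernel
  have key : ∀ w : V, w.1 = 0 → A • w = w := fun w hw => by
    have w0 : (A • w).1 = 0 := by rw [← d1, ← A0, dot_smul, d1, hw]
    have k2 := mul_mem hg ((mem_normalizer_iff.1 (hn w hw) _).1 (inv_mem hg))
    have e1 : s * (e v * σ A) * (e w * (s * (e v * σ A))⁻¹ * (e w)⁻¹) =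
        s * (e (A • w) * s⁻¹ * (e (A • w))⁻¹) * e (A • w + -w) := by
      rw [h.add, e_neg h.add, ← h.conj_e hA v]; group
    rw [e1] at k2
    exact add_neg_eq_zero.1 (h.inj _ (Bas3a.lemL h (mul_mem hs (h.Rk_e (inv_mem hs) w0))
      (by rw [Prod.fst_add, Prod.fst_neg, w0, hw, neg_zero, add_zero]) hK (pw _ k2)))
  obtain rfl : A = 1 := (by decide +kernel : ∀ A : O4, A • d0 = d0 → A • O83.d1 = O83.d1 → A • d2 = d2 →
    A • d3 = d3 → A = 1) A A0 (key _ rfl) (key _ rfl) (key _ rfl)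
  rw [h.σ_one, mul_one] at hg ⊢
  rw [Bas3a.lemL h hs v0 hK (pw _ hg), mul_one]
  exact hs

end Cfsg.Agent.O83
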