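import Cfsg.Agent.O83.Bas0
import Cfsg.Agent.OR.S9b
import Cfsg.Agent.S4215

/-! Project O83: a group with `N(D) = 3³ : (2 ≀ A₃)` containing the centralisers of the elements of `D`. -/

set_option autoImplicit false
set_option synthInstance.maxSize 4096
set_option maxRecDepth 100000

namespace Cfsg.Agent.O83

open Subgroup

variable {G : Type*} [Group G] [Finite G] {ε : V → G} {ς : O4 → G}

namespace Wa

theorem t1 : ∀ A : O4, A • d0 = d0 → (A • d1).2 = d1.2 → (A • d2).2 = d2.2 → (A • d3).2 = d3.2 → A = 1 := by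
  decide +kernel

theorem t2 : ∀ B : O4, B • d0 = d0 → B ∈ Γ1 → B * B * B = 1 → B ≠ 1 → ∀ C : O4, C • d0 = d0 → C ∈ Γ1 →
    C * C * C = 1 → C * B = B * C → C = 1 ∨ C = B ∨ C = B * B := by decide +kernel

theorem t3 : ∀ B : O4, B • d0 = d0 → B ∈ Γ1 → B * B * B = 1 → B ≠ 1 →
    ∃ f : V, ∀ v : V, (B • v).2 = v.2 → v.2 = 0 ∨ v.2 = f.2 ∨ v.2 = (f + f).2 := by decide +kernel

theorem t4 : ∀ A : O4, A • d0 = d0 → A ∈ Γ1 → A ^ 6 = 1 ∧ (A * A = 1 → ∃ b c d, A = dg false b c d) ∧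
    (A * r1 = r1 * A → A * A = 1) ∧ ((A • d2).2 = d2.2 → (A • d3).2 = d3.2 → A = 1 ∨ A * r1 = 1) := by decide +kernel

theorem t5 : ∀ b c d, dg false b c d • d0 = d0 ∧ dg false b c d * dg false b c d = 1 ∧ cyc ≠ dg false b c d ∧
    (dg false b c d = dg false true true true ∨ ∃ v : V, v.2 ≠ 0 ∧ dg false b c d • v = v) ∧
    ∀ b' c' d', dg false b c d * dg false b' c' d' = dg false (b ^^ b') (c ^^ c') (d ^^ d') := by decide +kernel

theorem t6 : ∀ v : V, (v + dg false true true true • v).2 = 0 ∧ ((dg false true true true • v).2 = v.2 → v.2 = 0) ∧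
    ((r1 • v).2 = v.2 ↔ v.2.1 = 0) := by decide +kernel

/-- `g` acts as `A` -/
def Rep (ε : V → G) (ς : O4 → G) (g : G) (A : O4) : Prop := A ∈ Γ1 ∧ A • d0 = d0 ∧ ∃ v, g = ε v * ς A

variable {g g' : G} {A B : O4}

omit [Finite G] in
theorem ε_eq (h : Wr Γ1 ε ς) {u v : V} : ε u = ε v ↔ u.2 = v.2 := by
  rw [← mul_inv_eq_one, ← e_neg h.add, ← h.add, h.ker, Prod.snd_add, Prod.snd_neg, add_neg_eq_zero]

omit [Finite G] in
theorem ς_one (h : Wr Γ1 ε ς) : ς 1 = 1 := by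
  simpa using h.mul 1 (one_mem _) 1 (one_mem _) (one_smul _ _) (one_smul _ _)

omit [Finite G] in
theorem Rep.conj (h : Wr Γ1 ε ς) (k : Rep ε ς g A) (v : V) : g * ε v * g⁻¹ = ε (A • v) := by
  obtain ⟨h1, h2, u, rfl⟩ := k
  calc ε u * ς A * ε v * (ε u * ς A)⁻¹ = ε u * (ς A * ε v * (ς A)⁻¹) * (ε u)⁻¹ := by group
    _ = ε (A • v) := by rw [h.act A h1 h2, e_comm h.add, mul_inv_cancel_right]

omit [Finite G] in
theorem Rep.mul (h : Wr Γ1 ε ς) (k : Rep ε ς g A) (l : Rep ε ς g' B) : Rep ε ς (g * g') (A * B) := by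
  obtain ⟨h1, h2, u, rfl⟩ := k
  obtain ⟨h3, h4, v, rfl⟩ := l
  refine ⟨mul_mem h1 h3, by rw [mul_smul, h4, h2], u + A • v, ?_⟩
  rw [h.add, ← h.act A h1 h2, h.mul A h1 B h3 h2 h4]
  group

omit [Finite G] in
theorem rep_ε (h : Wr Γ1 ε ς) (v : V) : Rep ε ς (ε v) 1 := ⟨one_mem _, one_smul _ _, v, by rw [ς_one h, mul_one]⟩

omit [Finite G] in
theorem rep_ς (h : Wr Γ1 ε ς) (h1 : A ∈ Γ1) (h2 : A • d0 = d0) : Rep ε ς (ς A) A :=
  ⟨h1, h2, 0, by rw [e_zero h.add, one_mul]⟩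

omit [Finite G] in
theorem Rep.pow (h : Wr Γ1 ε ς) (k : Rep ε ς g A) (n : ℕ) : Rep ε ς (g ^ n) (A ^ n) := by
  induction n with
  | zero => simpa [e_zero h.add] using rep_ε h 0
  | succ n ih => rw [pow_succ, pow_succ]; exact ih.mul h k

omit [Finite G] in
theorem Rep.eq_one (h : Wr Γ1 ε ς) (k : Rep ε ς g A) (hc : ∀ v, g * ε v = ε v * g) : A = 1 := by
  have : ∀ v : V, (A • v).2 = v.2 := fun v => (ε_eq h).1 (by rw [← k.conj h, hc, mul_inv_cancel_right])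
  exact t1 A k.2.1 (this _) (this _) (this _)

omit [Finite G] in
theorem Rep.uniq (h : Wr Γ1 ε ς) (k : Rep ε ς g A) (l : Rep ε ς g B) : A = B := by
  have : ∀ v : V, (B⁻¹ • A • v).2 = v.2 := fun v => (ε_eq h).1 ((MulAut.conj g).injective
    (show g * _ * g⁻¹ = g * _ * g⁻¹ by rw [l.conj h, k.conj h, smul_inv_smul]))
  simp only [← mul_smul] at this
  exact (inv_mul_eq_one.1 (t1 _ (by rw [mul_smul, k.2.1, inv_smul_eq_iff, l.2.1]) (this _) (this _) (this _))).symm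

omit [Finite G] in
theorem Rep.mem (h : Wr Γ1 ε ς) (k : Rep ε ς g 1) : g ∈ JJ ε := by
  obtain ⟨-, -, v, rfl⟩ := k
  exact (mem_JJ h.add).2 ⟨v, by rw [ς_one h, mul_one]⟩

omit [Finite G] in
theorem Rep.one (h : Wr Γ1 ε ς) (k : Rep ε ς g A) (e : g = 1) : A = 1 := k.eq_one h (by simp [e])

theorem Rep.norm (h : Wr Γ1 ε ς) (k : Rep ε ς g A) : g ∈ NN ε := (mem_NN h.add).2 fun v => ⟨_, k.conj h v⟩

omit [Finite G] in
theorem exists_rep (h : Wr Γ1 ε ς) (k : g ∈ NN ε) : ∃ A, Rep ε ς g A := by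
  obtain ⟨v, A, h1, h2, e⟩ := h.norm g k
  exact ⟨A, h1, h2, v, e⟩

omit [Finite G] in
theorem cube (h : Wr Γ1 ε ς) {y : G} (hy : y ∈ JJ ε) : y ^ 3 = 1 := by
  obtain ⟨v, rfl⟩ := (mem_JJ h.add).1 hy
  exact e_cube h.add v

omit [Finite G] in
theorem comm (h : Wr Γ1 ε ς) {x y : G} (hx : x ∈ JJ ε) (hy : y ∈ JJ ε) : x * y = y * x := by
  obtain ⟨u, rfl⟩ := (mem_JJ h.add).1 hx
  obtain ⟨v, rfl⟩ := (mem_JJ h.add).1 hy
  exact e_comm h.add u v

omit [Finite G] in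
theorem isP (h : Wr Γ1 ε ς) : IsPGroup 3 (JJ ε) := fun y => ⟨1, Subtype.ext (cube h y.2)⟩

/-- weak closure -/
theorem wc (h : Wr Γ1 ε ς) (hg : ∀ v, g * ε v * g⁻¹ ∈ NN ε) : g ∈ NN ε := by
  choose R hR using fun v => exists_rep h (hg v)
  have h3 : ∀ v, R v * R v * R v = 1 := fun v => (((hR v).mul h (hR v)).mul h (hR v)).one h (by
    rw [conj_mul, conj_mul, ← pow_three', e_cube h.add, mul_one, mul_inv_cancel])
  have hc : ∀ u v, g * ε u * g⁻¹ * (g * ε v * g⁻¹) = g * ε v * g⁻¹ * (g * ε u * g⁻¹) := fun u v => by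
    rw [conj_mul, conj_mul, e_comm h.add]
  by_cases c : ∀ v, R v = 1
  · exact (mem_NN h.add).2 fun v => ((mem_JJ h.add).1 ((c v ▸ hR v).mem h)).imp fun _ e => e.symm
  obtain ⟨u, hu⟩ := not_forall.1 c
  obtain ⟨f, hf⟩ := t3 _ (hR u).2.1 (hR u).1 (h3 u) hu
  have h4 : ∀ w : F × F × F, ∃ p : Fin 3 × Fin 3,
      g * ε (0, w) * g⁻¹ * (g * ε u * g⁻¹) ^ p.1.val = ε f ^ p.2.val := fun w => by
    obtain ⟨k, hk⟩ : ∃ k : Fin 3, R (0, w) * R u ^ k.val = 1 := by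
      rcases t2 _ (hR u).2.1 (hR u).1 (h3 u) hu _ (hR (0, w)).2.1 (hR _).1 (h3 _)
        (((hR _).mul h (hR u)).uniq h (hc _ u ▸ (hR u).mul h (hR _))) with e | e | e <;> rw [e]
      · exact ⟨0, by simp⟩
      · exact ⟨2, by rw [← h3 u, mul_assoc, ← sq]; rfl⟩
      · exact ⟨1, by rw [← h3 u]; simp⟩
    obtain ⟨v, hv⟩ := (mem_JJ h.add).1 ((hk ▸ (hR (0, w)).mul h ((hR u).pow h k)).mem h)
    have h5 : (R u • v).2 = v.2 := (ε_eq h).1 (by
      rw [← (hR u).conj h, hv, mul_inv_eq_iff_eq_mul]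
      exact (Commute.mul_right (hc u _) ((Commute.refl _).pow_right _)).eq)
    rcases hf v h5 with e | e | e
    · exact ⟨(k, 0), by rw [← hv, (h.ker v).2 e]; simp⟩
    · exact ⟨(k, 1), by rw [← hv, (ε_eq h).2 e]; simp⟩
    · exact ⟨(k, 2), by rw [← hv, (ε_eq h).2 e, h.add, ← sq]; rfl⟩
  choose p hp using h4
  refine absurd (Fintype.card_le_of_injective p fun w w' e => ?_) (by decide)
  have := hp w
  rw [e, ← hp w', mul_left_inj, mul_left_inj, mul_right_inj] at this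
  exact (ε_eq h).1 this

variable (h : Wr Γ1 ε ς) (loc : ∀ v, ε v ≠ 1 → ∀ g, g * ε v = ε v * g → g ∈ NN ε)
include h loc

theorem ti {v : V} (h1 : ε v ≠ 1) (h2 : g * ε v * g⁻¹ ∈ JJ ε) : g ∈ NN ε := by
  obtain ⟨w, e⟩ := (mem_JJ h.add).1 h2
  exact wc h fun u => loc w (fun k => h1 (conj_eq_one_iff.1 (e ▸ k))) _ (by rw [e, conj_mul, conj_mul, e_comm h.add])

theorem sig (K : Subgroup G) (hK : (Nat.card K).Coprime 3) (hn : JJ ε ≤ normalizer (K : Set G)) : K = ⊥ := by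
  have : Fact (Nat.Prime 3) := ⟨Nat.prime_three⟩
  have h0 := H22.inf_eq_bot_of_pgroup_coprime (isP h) hK
  have m : ∀ v, ε v ∈ JJ ε := fun v => (mem_JJ h.add).2 ⟨v, rfl⟩
  refine le_bot_iff.1 (H46.le_of_forall_element (isP h) ⟨⟨fun a b => Subtype.ext (comm h a.2 b.2)⟩⟩ (fun c => ?_)
    ((Nat.Prime.coprime_iff_not_dvd Nat.prime_three).1 hK.symm) hn fun a ha a1 x hx => ?_)
  · have h1 := OR.three_lt_card (m d1) (m d2) (mt (h.ker _).1 (by decide)) (e_cube h.add _) (mt (h.ker _).1 (by decide))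
      (mt (ε_eq h).1 (by decide)) (by rw [← e_neg h.add]; exact mt (ε_eq h).1 (by decide))
    rw [← IsCyclic.exponent_eq_card] at h1
    exact h1.not_ge (Nat.le_of_dvd three_pos (Monoid.exponent_dvd_of_forall_pow_eq_one fun y => Subtype.ext (cube h y.2)))
  · obtain ⟨v, rfl⟩ := (mem_JJ h.add).1 ha
    obtain ⟨A, hA⟩ := exists_rep h (loc v a1 x (mem_centralizer_singleton_iff.1 hx.2))
    refine h0.le ⟨(hA.eq_one h (fun u => ?_) ▸ hA).mem h, hx.1⟩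
    have h1 : x * ε u * x⁻¹ * (ε u)⁻¹ ∈ JJ ε ⊓ K := mem_inf.2 ⟨mul_mem (hA.conj h u ▸ m _) (inv_mem (m u)), by
      simpa only [mul_assoc] using K.mul_mem hx.1 ((mem_normalizer_iff.1 (hn (m u)) _).1 (K.inv_mem hx.1))⟩
    rwa [h0, mem_bot, mul_inv_eq_one, mul_inv_eq_iff_eq_mul] at h1

/-- transfer for the prime three -/
theorem res (hg : g ∈ Cfsg.pResidual 3 G) (hN : g ∈ NN ε) : ∃ b c d, Rep ε ς g (dg false b c d) := by
  have : Fact (Nat.Prime 3) := ⟨Nat.prime_three⟩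
  have m : ∀ v, ε v ∈ JJ ε := fun v => (mem_JJ h.add).2 ⟨v, rfl⟩
  obtain ⟨S, hS⟩ := (isP h).exists_le_sylow
  have h1 : (S : Subgroup G) ≤ NN ε := by
    by_contra c
    obtain ⟨x, hx, h1, h2⟩ := H23.exists_mem_normalizer_not_mem S.isPGroup'
      (lt_of_le_of_ne (inf_le_left (b := NN ε)) fun e => c (inf_eq_left.1 e))
    exact h2 ⟨hx, wc h fun v => ((mem_normalizer_iff.1 h1 _).1 ⟨hS (m v), (rep_ε h v).norm h⟩).2⟩
  have h2 := S4215.result S (JJ ε) ⟨hS, fun g hg => mem_normalizer_iff_map_conj_eq.1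
    (wc h fun v => h1 (hg ⟨_, m v, rfl⟩))⟩ fun u hu z hz => by
      have h3 : u⁻¹ * z⁻¹ * u * z ∈ JJ ε :=
        mul_mem (by simpa using (mem_normalizer_iff.1 (inv_mem (h1 hu)) _).1 (inv_mem hz)) hz
      show (u⁻¹ * z⁻¹ * u * z)⁻¹ * z⁻¹ * (u⁻¹ * z⁻¹ * u * z) * z = 1
      rw [mul_assoc _ z⁻¹, ← comm h h3 (inv_mem hz)]
      group
  let M : Subgroup G :=
    { carrier := {g | ∃ b c d, Rep ε ς g (dg false b c d)}
      one_mem' := ⟨false, false, false, e_zero h.add ▸ rep_ε h 0⟩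
      mul_mem' := fun ⟨b, c, d, k⟩ ⟨b', c', d', l⟩ => ⟨_, _, _, (t5 b c d).2.2.2.2 b' c' d' ▸ k.mul h l⟩
      inv_mem' := fun {x} ⟨b, c, d, k⟩ => by
        obtain ⟨A, hA⟩ := exists_rep h (inv_mem (k.norm h))
        have := (k.mul h hA).one h (mul_inv_cancel x)
        exact ⟨b, c, d, (eq_inv_of_mul_eq_one_right this).trans
          (inv_eq_of_mul_eq_one_left (t5 b c d).2.1) ▸ hA⟩ }
  refine (map_le_iff_le_comap.2 ((closure_le _).2 fun x hx => ?_) : Cfsg.pResidualOf 3 (NN ε) ≤ M) (h2.ge ⟨hg, hN⟩)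
  obtain ⟨A, hA⟩ := exists_rep h x.2
  have h3 : orderOf A ∣ orderOf x := orderOf_dvd_of_pow_eq_one ((hA.pow h _).one h
    (congrArg Subtype.val (pow_orderOf_eq_one x)))
  have h4 : orderOf A ∣ 2 := (Nat.Coprime.coprime_dvd_left h3 hx).dvd_of_dvd_mul_right
    (orderOf_dvd_of_pow_eq_one (t4 A hA.2.1 hA.1).1)
  obtain ⟨b, c, d, rfl⟩ := (t4 A hA.2.1 hA.1).2.1 ((sq A).symm.trans (orderOf_dvd_iff_pow_eq_one.1 h4))
  exact ⟨b, c, d, hA⟩

/-- the centraliser of a reflection -/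
theorem cen (hg : g * ς r1 = ς r1 * g) : g * g ∈ JJ ε := by
  have m : ∀ v, ε v ∈ JJ ε := fun v => (mem_JJ h.add).2 ⟨v, rfl⟩
  have hr := rep_ς h r1_mem (t5 true false false).1
  have h1 : ∀ g ∈ centralizer ({ς r1} : Set G), g ∈ NN ε → g * g ∈ JJ ε := fun g hg hN => by
    obtain ⟨A, hA⟩ := exists_rep h hN
    exact ((t4 A hA.2.1 hA.1).2.2.1 ((hA.mul h hr).uniq h
      (mem_centralizer_singleton_iff.1 hg ▸ hr.mul h hA)) ▸ hA.mul h hA).mem h
  have h2 : ∀ v, ε v ∈ JJ ε ⊓ centralizer ({ς r1} : Set G) ↔ v.2.1 = 0 := fun v => by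
    rw [← (t6 v).2.2, ← ε_eq h, ← hr.conj h, mul_inv_eq_iff_eq_mul, mem_inf, mem_centralizer_singleton_iff, eq_comm]
    exact and_iff_right (m v)
  have h3 : ∀ g ∈ normalizer ((JJ ε ⊓ centralizer ({ς r1} : Set G) : Subgroup G) : Set G), g ∈ NN ε := fun g hg =>
    ti h loc (v := d2) (mt (h.ker _).1 (by decide)) ((mem_normalizer_iff.1 hg _).1 ((h2 d2).2 rfl)).1
  have r2 : ς r1 * ς r1 = 1 := by
    rw [← h.mul _ r1_mem _ r1_mem hr.2.1 hr.2.1, show r1 * r1 = 1 from (t5 true false false).2.1, ς_one h]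
  obtain ⟨W, _, T, h4, h5, -, -, h6, h7⟩ := OR.quot2 (E := centralizer {ς r1}) (P := JJ ε ⊓ centralizer {ς r1})
    inf_le_right (mem_centralizer_singleton_iff.2 rfl) r2 (fun e => absurd (hr.one h e) (by decide))
    (fun g => mem_centralizer_singleton_iff.1) (fun y hy => cube h hy.1) (fun x hx y hy => comm h hx.1 hy.1)
    ((Nat.card_congr (Equiv.ofBijective (fun p : F × F => (⟨ε (0, 0, p), (h2 _).2 rfl⟩ :
      (JJ ε ⊓ centralizer ({ς r1} : Set G) : Subgroup G)))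
      ⟨fun p p' e => congrArg Prod.snd ((ε_eq h).1 (congrArg Subtype.val e)), fun ⟨y, hy⟩ => by
        obtain ⟨v, rfl⟩ := (mem_JJ h.add).1 hy.1
        exact ⟨v.2.2, Subtype.ext ((ε_eq h).2 (Prod.ext ((h2 v).1 hy).symm rfl))⟩⟩)).symm.trans (by simp))
    (fun g hg hn k hk => ⟨OR.mem_of_sq (h1 g hg (h3 g hn)) k hk, hg⟩) (fun g hg hc => by
      obtain ⟨A, hA⟩ := exists_rep h (loc d2 (mt (h.ker _).1 (by decide)) g (hc _ ((h2 d2).2 rfl)))
      have : ∀ v : V, v.2.1 = 0 → (A • v).2 = v.2 := fun v hv =>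
        (ε_eq h).1 (by rw [← hA.conj h, hc _ ((h2 v).2 hv), mul_inv_cancel_right])
      exact ((t4 A hA.2.1 hA.1).2.2.2 (this _ rfl) (this _ rfl)).imp (fun e => ⟨(e ▸ hA).mem h, hg⟩)
        fun e => ⟨(e ▸ hA.mul h hr).mem h, mul_mem hg (mem_centralizer_singleton_iff.2 rfl)⟩)
    fun y hy y1 g hg hc => mem_normalizer_fintype fun x hx => by
      obtain ⟨v, rfl⟩ := (mem_JJ h.add).1 hy.1
      exact mem_inf.2 ⟨(mem_normalizer_iff.1 (loc v y1 g hc) x).1 hx.1, mul_mem (mul_mem hg hx.2) (inv_mem hg)⟩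
  have h8 := OR.e3_two h4 h5 fun x hx => by
    obtain ⟨x, rfl⟩ := QuotientGroup.mk'_surjective W x
    rw [← map_mul, h6]
    exact .inl ⟨h1 x x.2 (h3 x ((h7 x).1 hx)), mul_mem x.2 x.2⟩
  have hg' := mem_centralizer_singleton_iff.2 hg
  exact h1 g hg' (h3 g ((h7 ⟨g, hg'⟩).1 (h8.ge (mem_top _))))

end Wa

open Wa in
/-- notes/O83.md, section Wa -/
theorem Wr.wa (h : Wr Γ1 ε ς) (loc : ∀ v, ε v ≠ 1 → ∀ g, g * ε v = ε v * g → g ∈ NN ε) (g : G) :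
    g ∈ NN ε := by
  have : Fact (Nat.Prime 2) := ⟨Nat.prime_two⟩
  have : Fact (Nat.Prime 3) := ⟨Nat.prime_three⟩
  have m : ∀ v, ε v ∈ JJ ε := fun v => (mem_JJ h.add).2 ⟨v, rfl⟩
  have dm : ∀ b c d, dg false b c d ∈ Γ1 := fun b c d => Γ0_le (dg_mem _ _ _ _)
  have hr : ∀ b c d, Rep ε ς (ς (dg false b c d)) (dg false b c d) := fun b c d => rep_ς h (dm b c d) (t5 b c d).1
  have mu : ∀ b c d b' c' d', ς (dg false b c d) * ς (dg false b' c' d') =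
      ς (dg false (b ^^ b') (c ^^ c') (d ^^ d')) := fun b c d b' c' d' => by
    rw [← h.mul _ (dm b c d) _ (dm b' c' d') (t5 _ _ _).1 (t5 _ _ _).1, (t5 b c d).2.2.2.2]
  have s2 : ∀ b c d, ς (dg false b c d) * ς (dg false b c d) = 1 := fun b c d => by
    rw [← h.mul _ (dm b c d) _ (dm b c d) (t5 _ _ _).1 (t5 _ _ _).1, (t5 b c d).2.1, ς_one h]
  have y2 : ∀ x : G, x * x = 1 → x ∈ Cfsg.pResidual 3 G := fun x hx => subset_closure
    (Nat.Coprime.coprime_dvd_left (orderOf_dvd_of_pow_eq_one ((sq x).trans hx)) (by decide))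
  have nY : (Cfsg.pResidual 3 G).Normal := inferInstance
  have JY : JJ ε ≤ Cfsg.pResidual 3 G := fun x hx => by
    obtain ⟨v, rfl⟩ := (mem_JJ h.add).1 hx
    refine (mul_mem_cancel_right (y2 _ (s2 true true true))).1 (y2 _ ?_)
    calc ε v * ς (dg false true true true) * (ε v * ς (dg false true true true)) =
        ε v * (ς (dg false true true true) * ε v * (ς (dg false true true true))⁻¹) *
          (ς (dg false true true true) * ς (dg false true true true)) := by group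
      _ = 1 := by rw [(hr _ _ _).conj h, ← h.add, (h.ker _).2 (t6 v).1, s2, mul_one]
  let A : Subgroup G :=
    { carrier := {g | ∃ b c d, g = ς (dg false b c d)}
      one_mem' := ⟨false, false, false, (ς_one h).symm⟩
      mul_mem' := fun ⟨b, c, d, k⟩ ⟨b', c', d', l⟩ => ⟨b ^^ b', c ^^ c', d ^^ d', by rw [k, l, mu]⟩
      inv_mem' := fun ⟨b, c, d, k⟩ => ⟨b, c, d, by rw [k, inv_eq_of_mul_eq_one_left (s2 b c d)]⟩ }
  have AY : A ≤ Cfsg.pResidual 3 G := fun _ ⟨b, c, d, k⟩ => k ▸ y2 _ (s2 b c d)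
  have pA : IsPGroup 2 A := fun ⟨_, b, c, d, k⟩ => ⟨1, Subtype.ext ((sq _).trans (k ▸ s2 b c d))⟩
  have cA : ∀ x ∈ A, ∀ y ∈ A, x * y = y * x := by
    rintro _ ⟨b, c, d, rfl⟩ _ ⟨b', c', d', rfl⟩
    rw [mu, mu, Bool.xor_comm b, Bool.xor_comm c, Bool.xor_comm d]
  have nA : ∀ g ∈ Cfsg.pResidual 3 G, g ∈ normalizer (A : Set G) → g ∈ A := fun g gY hn => by
    obtain ⟨b, c, d, e⟩ := (mem_normalizer_iff.1 hn (ς r1)).1 ⟨true, false, false, rfl⟩
    have h1 : ∀ x, x ^ 3 = 1 → x * ς (dg false b c d) = ς (dg false b c d) * x → g⁻¹ * x * g⁻¹⁻¹ ∈ JJ ε :=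
      fun x x3 hc => OR.mem_of_sq (cen h loc (by
        rw [← e] at hc
        calc g⁻¹ * x * g⁻¹⁻¹ * ς r1 = g⁻¹ * (x * (g * ς r1 * g⁻¹)) * g := by group
          _ = _ := by rw [hc]; group)) 1 (by rw [pow_one, conj_pow, x3, mul_one, mul_inv_cancel])
    have hτ := rep_ς h cyc_mem (show cyc • d0 = d0 by decide +kernel)
    rcases (t5 b c d).2.2.2.1 with k | ⟨v, v0, k⟩
    · have h2 := nY.conj_mem _ (JY (h1 (ς cyc) (by
        rw [pow_three', ← h.mul _ cyc_mem _ cyc_mem hτ.2.1 hτ.2.1, ← h.mul _ (mul_mem cyc_mem cyc_mem) _ cyc_mem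
          (by decide +kernel) hτ.2.1, show cyc * cyc * cyc = 1 by decide +kernel, ς_one h]) (by
        rw [k, ← h.mul _ cyc_mem _ (dm _ _ _) hτ.2.1 (t5 _ _ _).1, ← h.mul _ (dm _ _ _) _ cyc_mem (t5 _ _ _).1 hτ.2.1]
        exact congrArg ς (by decide +kernel)))) g
      rw [show g * (g⁻¹ * ς cyc * g⁻¹⁻¹) * g⁻¹ = ς cyc by group] at h2
      obtain ⟨b, c, d, k⟩ := res h loc h2 (hτ.norm h)
      exact absurd (hτ.uniq h k) (t5 b c d).2.2.1
    · obtain ⟨b', c', d', -, -, u, rfl⟩ := res h loc gY ((NN ε).inv_mem_iff.1 (ti h loc (mt (h.ker v).1 v0)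
        (h1 _ (e_cube h.add v) (by rw [eq_comm, ← mul_inv_eq_iff_eq_mul, (hr b c d).conj h, k]))))
      have h2 : ε u ∈ normalizer (A : Set G) := (mul_mem_cancel_right (A.le_normalizer ⟨b', c', d', rfl⟩)).1 hn
      obtain ⟨b, c, d, e⟩ := (mem_normalizer_iff.1 h2 _).1 ⟨true, true, true, rfl⟩
      have h3 := ((rep_ε h u).mul h (hr true true true)).mul h (rep_ε h (-u))
      rw [e_neg h.add, e, one_mul, mul_one] at h3
      rw [← h3.uniq h (hr b c d), mul_inv_eq_iff_eq_mul, eq_comm, ← mul_inv_eq_iff_eq_mul, (hr _ _ _).conj h] at e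
      exact ⟨b', c', d', by rw [(h.ker u).2 ((t6 u).2.1 ((ε_eq h).1 e)), one_mul]⟩
  obtain ⟨S, hS⟩ := OR.exists_sylow_of_norm AY pA fun g h1 h2 _ _ => nA g h1 h2
  have h1 : (S : Subgroup (Cfsg.pResidual 3 G)) ⊓ Cfsg.pResidual 2 _ = ⊥ := (eq_bot_iff_forall _).2 fun x hx =>
    Subtype.ext (mem_bot.1 (OR.focal_amb AY pA cA (fun g h1 h2 _ _ => nA g h1 h2) ⊥ (fun g h1 h2 y hy => by
      rw [cA g (nA g h1 h2) y hy]; simp) x (by have := hx.1; rwa [hS] at this) hx.2))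
  have h2 := H22.coprime_card_map (Cfsg.pResidual 3 G).subtype
    (H3.hasNormalPComplement_iff_coprime.1 ((H3.hasNormalPComplement_iff_inf_eq_bot S).2 h1))
  have h3 : ∀ x ∈ Cfsg.pResidual 3 G, x ^ 3 = 1 →
      x ∈ (Cfsg.pResidual 2 (Cfsg.pResidual 3 G)).map (Cfsg.pResidual 3 G).subtype := fun x hx x3 =>
    ⟨⟨x, hx⟩, subset_closure (Nat.Coprime.coprime_dvd_left
      (orderOf_dvd_of_pow_eq_one (n := 3) (Subtype.ext x3)) (by decide)), rfl⟩
  have h4 := OR.le_of_burnside (fun x hx => h3 x (JY hx) (cube h hx)) (isP h) (fun x hx y hy => comm h hx hy)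
    (fun x hx hn => by
      obtain ⟨b, c, d, k⟩ := res h loc (map_subtype_le _ hx) hn
      exact H36.mem_of_pow_mem (n := 2) ((sq x).symm ▸ ((t5 b c d).2.1 ▸ k.mul h k).mem h)
        (Nat.Coprime.coprime_dvd_left (orderOf_dvd_natCard _ hx) h2).symm) (sig h loc)
  exact mem_normalizer_fintype fun x hx => h4 (h3 _ (nY.conj_mem x (JY hx) g)
    (by rw [conj_pow, cube h hx, mul_one, mul_inv_cancel]))

end Cfsg.Agent.O83
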