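import Cfsg.Agent.O83.Bas0
import Cfsg.Agent.S3343
import Cfsg.Agent.S3376

/-! Project O83: arithmetic in `Wr`, and elements of order three of `S₉`. -/

set_option autoImplicit false
set_option synthInstance.maxSize 4096
set_option maxRecDepth 100000

namespace Cfsg.Agent.O83

open Subgroup

namespace Wba

open S3702 in
theorem ct : (p0 (0, 0, 0)).cycleType = Multiset.replicate 0 3 ∧ (p0 (1, 0, 0)).cycleType = Multiset.replicate 1 3 ∧
    (p0 (1, 1, 0)).cycleType = Multiset.replicate 2 3 ∧ (p0 (1, 1, 1)).cycleType = Multiset.replicate 3 3 := by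
  decide +kernel

open Equiv Equiv.Perm S3702 in
/-- an element of order three of `S₉` lies in an elementary abelian subgroup of order `27` -/
theorem s9 (p : Perm (Fin 9)) (hp : p ^ 3 = 1) : ∃ E : Subgroup (Perm (Fin 9)), p ∈ E ∧ Nat.card E = 27 ∧
    ∀ a ∈ E, ∀ b ∈ E, a * b = b * a := by
  have : Fact (Nat.Prime 3) := ⟨Nat.prime_three⟩
  have e := cycleType_of_pow_prime_eq_one hp
  have s := sum_cycleType p
  have le := p.support.card_le_univ
  rw [e, Multiset.sum_replicate, smul_eq_mul] at s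
  rw [Fintype.card_fin] at le
  obtain ⟨v, hv⟩ : ∃ v, (p0 v).cycleType = p.cycleType := by
    rw [e]
    obtain k | k | k | k : p.cycleType.card = 0 ∨ p.cycleType.card = 1 ∨ p.cycleType.card = 2 ∨
      p.cycleType.card = 3 := by omega
    all_goals rw [k]
    exacts [⟨_, ct.1⟩, ⟨_, ct.2.1⟩, ⟨_, ct.2.2.1⟩, ⟨_, ct.2.2.2⟩]
  obtain ⟨c, hc⟩ := isConj_iff.1 (isConj_of_cycleType_eq hv)
  let f : Multiplicative (ZMod 3 × ZMod 3 × ZMod 3) →* Perm (Fin 9) :=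
    (MulAut.conj c).toMonoidHom.comp (MonoidHom.mk' (fun v => p0 v.toAdd) fun u v => p0_add _ _)
  have fi : Function.Injective f := (MulAut.conj c).injective.comp ((injective_iff_map_eq_one
    (MonoidHom.mk' (fun v : Multiplicative (ZMod 3 × ZMod 3 × ZMod 3) => p0 v.toAdd) fun u v => p0_add _ _)).2
      fun v k => p0_L v.toAdd 0 (k.trans L_zero.symm))
  refine ⟨f.range, ⟨Multiplicative.ofAdd v, hc⟩, ?_, ?_⟩
  · rw [← Nat.card_congr (MonoidHom.ofInjective fi).toEquiv]; simp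
  · rintro _ ⟨a, rfl⟩ _ ⟨b, rfl⟩
    rw [← map_mul, ← map_mul, mul_comm]

theorem one_of : ∀ A : O4, A • d0 = d0 → (∀ v : V, (A • v).2 = v.2) → A = 1 := by decide +kernel

theorem z_of : ∀ A : O4, A • d0 = d0 → (A • z0).2 = z0.2 → A • z0 = z0 := by decide +kernel

theorem cube : ∀ A : O4, A • d0 = d0 → A ^ 81 = 1 → A ^ 3 = 1 := by decide +kernel

theorem fix3 : ∀ A : O4, A • d0 = d0 → A ^ 3 = 1 → A ≠ 1 → ∃ k : Fin 4, (A • zk k).2 = (zk k).2 ∧ ∀ v : V,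
    (A • v).2 = v.2 → v.2 = 0 ∨ v.2 = (zk k).2 ∨ v.2 = (-zk k).2 := by decide +kernel

theorem fixz : ∀ A : O4, A • d0 = d0 → A ^ 3 = 1 → A ≠ 1 → A • z0 = z0 → ∀ v : V,
    (A • v).2 = v.2 → v.2 = 0 ∨ v.2 = z0.2 ∨ v.2 = (-z0).2 := by decide +kernel

theorem card6 : Nat.card {A : O4 // A • d0 = d0 ∧ A • z0 = z0} = 6 := by
  rw [Nat.card_eq_fintype_card, Fintype.card_subtype]; decide +kernel

end Wba

variable {G : Type*} [Group G] {Γ : Subgroup O4} {ε : V → G} {ς : O4 → G}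

namespace Wba

theorem eq_iff (h : Wr Γ ε ς) {u v : V} : ε u = ε v ↔ u.2 = v.2 := by
  rw [← mul_inv_eq_one, ← e_neg h.add, ← h.add, h.ker, ← sub_eq_add_neg, Prod.snd_sub, sub_eq_zero]

theorem conj (h : Wr Γ ε ς) {A : O4} (hA : A ∈ Γ) (h0 : A • d0 = d0) (u : V) : Act ε (ε u * ς A) A := fun v => by
  calc ε u * ς A * ε v * (ε u * ς A)⁻¹ = ε u * (ς A * ε v * (ς A)⁻¹) * (ε u)⁻¹ := by group
    _ = _ := by rw [h.act A hA h0, e_comm h.add, mul_inv_cancel_right]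

theorem act_pow {g : G} {A : O4} (k : Act ε g A) (n : ℕ) : Act ε (g ^ n) (A ^ n) := by
  induction n with
  | zero => intro v; simp
  | succ n ih =>
    intro v
    calc g ^ (n + 1) * ε v * (g ^ (n + 1))⁻¹ = g ^ n * (g * ε v * g⁻¹) * (g ^ n)⁻¹ := by group
      _ = _ := by rw [k, ih, pow_succ, mul_smul]

theorem comm (h : Wr Γ ε ς) {g : G} {A : O4} (k : Act ε g A) {v : V} : g * ε v = ε v * g ↔ (A • v).2 = v.2 := by
  rw [← mul_inv_eq_iff_eq_mul, k, eq_iff h]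

theorem pow_one_of (h : Wr Γ ε ς) {g : G} {A : O4} (k : Act ε g A) (h0 : A • d0 = d0) {n : ℕ} (hg : g ^ n = 1) :
    A ^ n = 1 :=
  one_of _ (MulAction.mem_stabilizer_iff.1 (pow_mem (MulAction.mem_stabilizer_iff.2 h0) n)) fun v =>
    (comm h (act_pow k n)).1 (by rw [hg, one_mul, mul_one])

theorem ς_one (h : Wr Γ ε ς) : ς 1 = 1 := by
  simpa using h.mul 1 Γ.one_mem 1 Γ.one_mem (one_smul ..) (one_smul ..)

theorem card_J (h : Wr Γ ε ς) : Nat.card (JJ ε) = 27 := by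
  rw [← Nat.card_congr (Equiv.ofBijective (fun w : F × F × F => (⟨ε (0, w), (mem_JJ h.add).2 ⟨_, rfl⟩⟩ : JJ ε))
    ⟨fun u v k => (eq_iff h).1 (congrArg Subtype.val k), fun x => ((mem_JJ h.add).1 x.2).elim fun v k =>
      ⟨v.2, Subtype.ext (((eq_iff h (u := (0, v.2)) (v := v)).2 rfl).trans k)⟩⟩)]
  simp

theorem ord (h : Wr Γ ε ς) {v : V} (hv : v.2 ≠ 0) : orderOf (ε v) = 3 :=
  haveI : Fact (Nat.Prime 3) := ⟨Nat.prime_three⟩
  orderOf_eq_prime (e_cube h.add v) fun k => hv ((h.ker v).1 k)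

theorem mem_zp (h : Wr Γ ε ς) {u v : V} (k : v.2 = 0 ∨ v.2 = u.2 ∨ v.2 = (-u).2) : ε v ∈ zpowers (ε u) := by
  rcases k with k | k | k
  · rw [(h.ker v).2 k]; exact one_mem _
  · rw [(eq_iff h).2 k]; exact mem_zpowers _
  · rw [(eq_iff h).2 k, e_neg h.add]; exact inv_mem (mem_zpowers _)

end Wba

end Cfsg.Agent.O83
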