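import Cfsg.Agent.O83.Bas0
import Cfsg.Agent.O83.Wba

set_option autoImplicit false

namespace Cfsg.Agent.O83

open Subgroup

variable {G : Type*} [Group G] [Finite G] {ε : V → G} {ς : O4 → G}

namespace Wba

omit [Finite G] in
theorem form (h : Wr ⊤ ε ς) {g : G} (hg : g ∈ NN ε) : ∃ v A, A • d0 = d0 ∧ g = ε v * ς A ∧ Act ε g A := by
  obtain ⟨v, A, hA, h0, rfl⟩ := h.norm g hg
  exact ⟨v, A, h0, rfl, conj h hA h0 v⟩

theorem card_C (h : Wr ⊤ ε ς) (cz : ∀ g, g * ε z0 = ε z0 * g → g ∈ NN ε) :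
    Nat.card (centralizer ({ε z0} : Set G)) = 162 := by
  rw [← Nat.card_congr (Equiv.ofBijective (fun w : (F × F × F) × {A : O4 // A • d0 = d0 ∧ A • z0 = z0} =>
    (⟨ε (0, w.1) * ς w.2.1, mem_centralizer_singleton_iff.2
      ((comm h (conj h (mem_top _) w.2.2.1 _)).2 (by rw [w.2.2.2]))⟩ : centralizer ({ε z0} : Set G))) ⟨?_, ?_⟩)]
  · rw [Nat.card_prod, card6]; simp
  · rintro ⟨u, A, hA⟩ ⟨v, B, hB⟩ k
    have k : ε (0, u) * ς A = ε (0, v) * ς B := congrArg Subtype.val k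
    obtain rfl : A = B := by
      refine (inv_mul_eq_one.1 (one_of (B⁻¹ * A) (by rw [mul_smul, hA.1, inv_smul_eq_iff, hB.1]) fun w => ?_)).symm
      have e1 := conj h (mem_top _) hA.1 (0, u) w
      have e2 := conj h (mem_top _) hB.1 (0, v) (B⁻¹ • A • w)
      rw [smul_inv_smul, ← e1, k] at e2
      rw [mul_smul, ← eq_iff h]
      simpa using e2
    obtain rfl : u = v := (eq_iff h).1 (mul_right_cancel k)
    rfl
  · rintro ⟨g, hg⟩
    have hg' := mem_centralizer_singleton_iff.1 hg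
    obtain ⟨v, A, h0, rfl, k⟩ := form h (cz g hg')
    exact ⟨⟨v.2, A, h0, z_of A h0 ((comm h k).1 hg')⟩, Subtype.ext (by
      show ε (0, v.2) * ς A = _
      rw [(eq_iff h (u := (0, v.2)) (v := v)).2 rfl])⟩

theorem iso (h : Wr ⊤ ε ς) (cz : ∀ g, g * ε z0 = ε z0 * g → g ∈ NN ε) :
    Nonempty (centralizer ({ε z0} : Set G) ≃* centralizer ({Equiv.swap (0 : Fin 9) 1 * Equiv.swap 1 2 *
      Equiv.swap 3 4 * Equiv.swap 4 5 * Equiv.swap 6 7 * Equiv.swap 7 8} : Set (Equiv.Perm (Fin 9)))) := by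
  have : Fact (Nat.Prime 3) := ⟨Nat.prime_three⟩
  have hC := card_C h cz
  have eC : ∀ v, ε v ∈ centralizer ({ε z0} : Set G) := fun v => mem_centralizer_singleton_iff.2 (e_comm h.add ..)
  have JC : JJ ε ≤ centralizer ({ε z0} : Set G) := fun x hx => by
    obtain ⟨v, rfl⟩ := (mem_JJ h.add).1 hx
    exact eC v
  have CN : centralizer ({ε z0} : Set G) ≤ NN ε := fun g hg => cz g (mem_centralizer_singleton_iff.1 hg)
  obtain ⟨S⟩ : Nonempty (Sylow 3 (centralizer ({ε z0} : Set G))) := inferInstance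
  obtain ⟨T⟩ : Nonempty (Sylow 2 (centralizer ({ε z0} : Set G))) := inferInstance
  have hS := S3376.card_sylow S (a := 4) (m := 2) (by rw [hC]; norm_num) (by norm_num)
  have hT := S3376.card_sylow T (a := 1) (m := 81) (by rw [hC]; norm_num) (by norm_num)
  have nJ : ((JJ ε).subgroupOf (centralizer ({ε z0} : Set G))).Normal := normal_subgroupOf_of_le_normalizer CN
  have cJ : Nat.card ((JJ ε).subgroupOf (centralizer ({ε z0} : Set G))) = 27 := by
    rw [Nat.card_congr (subgroupOfEquivOfLe JC).toEquiv, card_J h]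
  have JS : (JJ ε).subgroupOf (centralizer ({ε z0} : Set G)) ≤ S :=
    (IsPGroup.of_card (n := 3) (by rw [cJ]; norm_num)).le_sylow_of_normal S
  have eS : ∀ v, (⟨ε v, eC v⟩ : centralizer ({ε z0} : Set G)) ∈ (S : Subgroup _) := fun v =>
    JS ((mem_JJ h.add).2 ⟨v, rfl⟩)
  have zc : ∀ g : centralizer ({ε z0} : Set G), g * ⟨ε z0, eC z0⟩ = ⟨ε z0, eC z0⟩ * g := fun g =>
    Subtype.ext (mem_centralizer_singleton_iff.1 g.2)
  have key : ∀ g : centralizer ({ε z0} : Set G), (∀ v, g * ⟨ε v, eC v⟩ = ⟨ε v, eC v⟩ * g) → ∃ v, g.1 = ε v :=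
    fun g hg => by
      obtain ⟨v, A, h0, e, k⟩ := form h (CN g.2)
      obtain rfl := one_of A h0 fun w => (comm h k).1 (congrArg Subtype.val (hg w))
      exact ⟨v, by rw [e, ς_one h, mul_one]⟩
  have hZ : zpowers (⟨ε z0, eC z0⟩ : centralizer ({ε z0} : Set G)) =
      (S : Subgroup _) ⊓ centralizer ((S : Subgroup (centralizer ({ε z0} : Set G))) : Set _) := by
    refine le_antisymm (zpowers_le.2 ⟨eS z0, mem_centralizer_iff.2 fun g _ => zc g⟩) fun g hg => ?_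
    obtain ⟨v, hv⟩ := key g fun v => (mem_centralizer_iff.1 hg.2 _ (eS v)).symm
    obtain ⟨s, hs, hn⟩ := SetLike.exists_of_lt (lt_of_le_of_ne JS fun k => by
      rw [k, hS] at cJ; norm_num at cJ)
    obtain ⟨u, A, h0, e, k⟩ := form h (CN s.2)
    have s81 : s.1 ^ 81 = 1 := by
      have := pow_card_eq_one' (x := (⟨s, hs⟩ : (S : Subgroup _)))
      rw [hS] at this
      exact congrArg (fun x => x.1.1) this
    have c : s.1 * ε v = ε v * s.1 := hv ▸ congrArg Subtype.val (mem_centralizer_iff.1 hg.2 _ hs)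
    obtain ⟨n, hn⟩ := mem_zp h (fixz A h0 (cube A h0 (pow_one_of h k h0 s81))
      (by rintro rfl; exact hn ((mem_JJ h.add).2 ⟨u, by rw [coe_subtype, e, ς_one h, mul_one]⟩))
      (z_of A h0 ((comm h k).1 (mem_centralizer_singleton_iff.1 s.2))) v ((comm h k).1 c))
    exact ⟨n, Subtype.ext (hn.trans hv.symm)⟩
  refine S3376.result hC S T _ ⟨⟨fun a b => Subtype.ext (Subtype.ext ?_)⟩⟩ (fun a ha => Subtype.ext ?_) cJ _ hZ
    (by rw [Nat.card_zpowers, ← orderOf_coe, ord h (by decide)])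
    (zpowers_le.2 (mem_centralizer_iff.2 fun g _ => zc g)) fun k => ?_
  · obtain ⟨u, hu⟩ := (mem_JJ h.add).1 a.2
    obtain ⟨v, hv⟩ := (mem_JJ h.add).1 b.2
    exact (congrArg₂ (· * ·) hu hv).symm.trans ((e_comm h.add u v).trans (congrArg₂ (· * ·) hv hu))
  · obtain ⟨u, hu⟩ := (mem_JJ h.add).1 ha
    exact (congrArg (· ^ 3) hu).symm.trans (e_cube h.add u)
  · obtain ⟨t, ht, t1⟩ := (bot_or_exists_ne_one T.1).resolve_left fun e => by
      rw [e] at hT; simp at hT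
    obtain ⟨v, hv⟩ := key t fun v => mem_centralizer_iff.1 (k.ge (eS v)).2 t ht
    have t2 : t.1 ^ 2 = 1 := by
      have := pow_card_eq_one' (x := (⟨t, ht⟩ : T.1))
      rw [hT] at this
      exact congrArg (fun x => x.1.1) this
    have t3 : t.1 ^ 3 = 1 := hv ▸ e_cube h.add v
    rw [pow_succ, t2, one_mul] at t3
    exact t1 (Subtype.ext t3)

end Wba

open Wba in
/-- notes/O83.md, section Wb -/
theorem Wr.wb (h : Wr ⊤ ε ς) (cz : ∀ g, g * ε z0 = ε z0 * g → g ∈ NN ε)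
    (sig : ∀ K : Subgroup G, (Nat.card K).Coprime 3 → (∀ v, ε v ∈ normalizer (K : Set G)) → K = ⊥)
    (nτ : ∀ g v, g * ς cyc * g⁻¹ ≠ ε v) (g : G) : g ∈ NN ε := by
  have : Fact (Nat.Prime 3) := ⟨Nat.prime_three⟩
  obtain ⟨eC⟩ := iso h cz
  have cm : ∀ a ∈ JJ ε, ∀ b ∈ JJ ε, a * b = b * a := fun a ha b hb => by
    obtain ⟨u, rfl⟩ := (mem_JJ h.add).1 ha
    obtain ⟨v, rfl⟩ := (mem_JJ h.add).1 hb
    exact e_comm h.add u v
  rcases S3343.result (ε z0) (ord h (by decide)) eC (JJ ε)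
    (fun x hx => mem_centralizer_singleton_iff.2 (cm _ hx _ ((mem_JJ h.add).2 ⟨_, rfl⟩)))
    ⟨⟨fun a b => Subtype.ext (cm _ a.2 _ b.2)⟩⟩
    (fun x hx => by obtain ⟨v, rfl⟩ := (mem_JJ h.add).1 hx; exact e_cube h.add v) (card_J h)
    (fun K hK hn => sig K hK fun v => mem_normalizer_fintype fun x hx =>
      (hn _ ((mem_JJ h.add).2 ⟨v, rfl⟩)).le ⟨x, hx, rfl⟩) with n | ⟨⟨φ⟩⟩
  · rw [NN, normalizer_eq_top]; exact mem_top g
  exfalso
  have c0 : cyc • d0 = d0 := by decide +kernel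
  have τ3 : ς cyc ^ 3 = 1 := by
    rw [pow_three', ← h.mul _ (mem_top _) _ (mem_top _) c0 c0, ← h.mul _ (mem_top _) _ (mem_top _) (by decide +kernel) c0,
      show cyc * cyc * cyc = 1 by decide +kernel, ς_one h]
  obtain ⟨E0, hE, cE, aE⟩ := s9 (φ (ς cyc)) (by rw [← map_pow, τ3, map_one])
  have cG : Nat.card G = 3 ^ 4 * 4480 := by
    rw [Nat.card_congr φ.toEquiv, Nat.card_perm, Nat.card_fin]; decide
  obtain ⟨S, hS⟩ := (IsPGroup.of_card (p := 3) (n := 3) (card_J h)).exists_le_sylow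
  have cS := S3376.card_sylow S cG (by norm_num)
  have cE' : Nat.card (E0.map φ.symm.toMonoidHom) = 27 := by rw [card_map_of_injective φ.symm.injective, cE]
  obtain ⟨R, hR⟩ := (IsPGroup.of_card (p := 3) (n := 3) cE').exists_le_sylow
  obtain ⟨c, hc⟩ := MulAction.exists_smul_eq G R S
  let E : Subgroup G := (E0.map φ.symm.toMonoidHom).map (MulAut.conj c).toMonoidHom
  have ES : E ≤ S := by
    rw [← hc]
    exact map_mono hR
  have cE2 : Nat.card E = 27 := by rw [card_map_of_injective (MulAut.conj c).injective, cE']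
  have aE2 : ∀ a ∈ E, ∀ b ∈ E, a * b = b * a := by
    rintro _ ⟨_, ⟨a, ha, rfl⟩, rfl⟩ _ ⟨_, ⟨b, hb, rfl⟩, rfl⟩
    rw [← map_mul, ← map_mul, aE a ha b hb, map_mul, map_mul]
  have iS : (JJ ε).relIndex S = 3 := by
    have := ((JJ ε).subgroupOf S).card_mul_index
    rw [Nat.card_congr (subgroupOfEquivOfLe hS).toEquiv, card_J h, cS] at this
    unfold relIndex
    omega
  have SN : (S : Subgroup G) ≤ NN ε := le_normalizer_of_normal_subgroupOf
    (hK := normal_of_index_eq_minFac_card (by rw [cS]; exact iS.trans (by norm_num))) hS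
  have m : c * ς cyc * c⁻¹ ∈ E := ⟨ς cyc, ⟨_, hE, φ.symm_apply_apply _⟩, rfl⟩
  obtain ⟨u, A, h0, e, k⟩ := form h (SN (ES m))
  have s3 : (c * ς cyc * c⁻¹) ^ 3 = 1 := by rw [conj_pow, τ3, mul_one, mul_inv_cancel]
  obtain ⟨l, -, hl⟩ := fix3 A h0 (pow_one_of h k h0 s3) (by
    rintro rfl
    exact nτ c u (by rw [e, ς_one h, mul_one]))
  have le : JJ ε ⊓ E ≤ zpowers (ε (zk l)) := fun x hx => by
    obtain ⟨v, rfl⟩ := (mem_JJ h.add).1 hx.1
    exact mem_zp h (hl v ((comm h k).1 (aE2 _ m _ hx.2)))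
  have c1 : Nat.card ↥(JJ ε ⊓ E) ≤ 3 := (card_le_of_le le).trans (by
    rw [Nat.card_zpowers]; exact Nat.le_of_dvd (by norm_num) (orderOf_dvd_of_pow_eq_one (e_cube h.add _)))
  have c2 : (JJ ε).relIndex E ≤ 3 := iS ▸ relIndex_le_of_le_right ES (by rw [iS]; norm_num)
  have c3 := ((JJ ε).subgroupOf E).card_mul_index
  rw [← inf_subgroupOf_right, Nat.card_congr (subgroupOfEquivOfLe inf_le_right).toEquiv, inf_subgroupOf_right,
    cE2] at c3
  have := Nat.mul_le_mul c1 c2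
  unfold relIndex at this
  omega

end Cfsg.Agent.O83
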