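import Cfsg.Agent.O83.Cda
import Cfsg.Agent.O83.Wa
import Cfsg.Agent.O83.Wb

set_option autoImplicit false
set_option synthInstance.maxSize 4096
set_option maxRecDepth 100000

namespace Cfsg.Agent.O83

open Subgroup

variable {G : Type*} [Group G] [Finite G] {Γ : Subgroup O4} {e : V → G} {σ : O4 → G} {i : G}

namespace Cd

/-- the centraliser of `e d0` -/
abbrev CC (e : V → G) : Subgroup G := centralizer {e d0}

/-- the central subgroup `⟨e d0⟩` -/
abbrev ZZ (e : V → G) : Subgroup (CC e) := (zpowers (e d0)).subgroupOf (CC e)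

omit [Finite G] in
theorem cZ {g z : G} (hg : g ∈ CC e) (hz : z ∈ zpowers (e d0)) : g * z = z * g := by
  obtain ⟨k, rfl⟩ := hz
  exact Commute.zpow_right (mem_centralizer_singleton_iff.1 hg) k

omit [Finite G] in
theorem ZZ_normal : (ZZ e).Normal := ⟨fun n hn g => by
  rw [show g * n = n * g from Subtype.ext (cZ g.2 hn), mul_inv_cancel_right]; exact hn⟩

attribute [local instance] ZZ_normal

/-- the projection -/
abbrev pr (e : V → G) : CC e →* CC e ⧸ ZZ e := QuotientGroup.mk' _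

omit [Finite G] in
theorem eC (h : Cf Γ e σ i) (v : V) : e v ∈ CC e := mem_centralizer_singleton_iff.2 (e_comm h.add _ _)

omit [Finite G] in
theorem σC (h : Cf Γ e σ i) {A : O4} (hA : A ∈ Γ ∧ A • d0 = d0) : σ A ∈ CC e :=
  mem_centralizer_singleton_iff.2 (by rw [h.σ_e' hA.1, hA.2])

/-- the image of `e v` -/
def εε (h : Cf Γ e σ i) (v : V) : CC e ⧸ ZZ e := pr e ⟨e v, eC h v⟩

open Classical in
/-- the image of `σ A` -/
noncomputable def ςς (h : Cf Γ e σ i) (A : O4) : CC e ⧸ ZZ e :=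
  if hA : A ∈ Γ ∧ A • d0 = d0 then pr e ⟨σ A, σC h hA⟩ else 1

omit [Finite G] in
theorem ςς_eq (h : Cf Γ e σ i) {A : O4} (hA : A ∈ Γ) (h0 : A • d0 = d0) : ςς h A = pr e ⟨σ A, σC h ⟨hA, h0⟩⟩ :=
  dif_pos ⟨hA, h0⟩

theorem mem_Z (h : Cf Γ e σ i) {z : G} : z ∈ zpowers (e d0) ↔ ∃ v : V, v.2 = 0 ∧ z = e v := by
  constructor
  · intro hz
    obtain ⟨k, rfl⟩ := mem_powers_iff_mem_zpowers.2 hz
    exact ⟨k • d0, by simp [d0], (e_nsmul h.add k d0).symm⟩
  · rintro ⟨v, hv, rfl⟩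
    rw [show v = v.1.val • d0 by revert v; decide +kernel, e_nsmul h.add]
    exact pow_mem (mem_zpowers _) _

theorem pr_eq (h : Cf Γ e σ i) {x : CC e} {w : V} : pr e x = εε h w ↔ ∃ u : V, u.2 = 0 ∧ (x : G) = e (w + u) := by
  rw [εε, eq_comm, QuotientGroup.mk'_apply, QuotientGroup.mk'_apply, QuotientGroup.eq, mem_subgroupOf, mem_Z h]
  refine exists_congr fun u => and_congr_right fun _ => ?_
  rw [h.add, ← inv_mul_eq_iff_eq_mul]; rfl

omit [Finite G] in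
theorem εε_add (h : Cf Γ e σ i) (u v : V) : εε h (u + v) = εε h u * εε h v := by
  rw [εε, εε, εε, ← map_mul]; exact congrArg _ (Subtype.ext (h.add u v))

theorem mem_NNε (h : Cf Γ e σ i) {g : CC e} : pr e g ∈ NN (εε h) ↔ (g : G) ∈ NN e := by
  rw [mem_NN (εε_add h), mem_NN h.add]
  refine forall_congr' fun v => ?_
  rw [εε, ← map_inv, ← map_mul, ← map_mul]
  constructor
  · rintro ⟨w, k⟩
    obtain ⟨u, -, k⟩ := (pr_eq h).1 k
    exact ⟨_, k⟩
  · rintro ⟨w, k⟩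
    exact ⟨w, (pr_eq h).2 ⟨0, rfl, by rw [add_zero]; exact k⟩⟩

theorem wr (h : Cf Γ e σ i) : Wr Γ (εε h) (ςς h) where
  add := εε_add h
  ker v := by
    rw [εε, QuotientGroup.mk'_apply, QuotientGroup.eq_one_iff, mem_subgroupOf, mem_Z h]
    exact ⟨fun ⟨u, hu, k⟩ => h.toAd.eq_iff.1 k ▸ hu, fun k => ⟨v, k, rfl⟩⟩
  mul A hA B hB a b := by
    rw [ςς_eq h hA a, ςς_eq h hB b, ςς_eq h (Γ.mul_mem hA hB) (by rw [mul_smul, b, a]), ← map_mul]
    exact congrArg _ (Subtype.ext (h.σ_mul A hA B hB))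
  act A hA a v := by
    rw [ςς_eq h hA a, εε, εε, ← map_inv, ← map_mul, ← map_mul]
    exact congrArg _ (Subtype.ext (h.σ_e A hA v))
  norm g hg := by
    obtain ⟨g, rfl⟩ := QuotientGroup.mk'_surjective _ g
    obtain ⟨v, A, hA, k⟩ := h.mem_N.1 ((mem_NNε h).1 hg)
    have a : A • d0 = d0 := (h.comm_e hA).1 (k ▸ mem_centralizer_singleton_iff.1 g.2)
    exact ⟨v, A, hA, a, by rw [ςς_eq h hA a, εε, ← map_mul]; exact congrArg _ (Subtype.ext k)⟩

theorem lift_comm (h : Cf Γ e σ i) {g : CC e} {v : V} (v1 : v.1 = 0) (hc : pr e g * εε h v = εε h v * pr e g) :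
    (g : G) * e v = e v * g := by
  rw [← mul_inv_eq_iff_eq_mul] at hc ⊢
  conv_lhs at hc => rw [εε, ← map_inv, ← map_mul, ← map_mul]
  obtain ⟨u, hu, k⟩ := (pr_eq h).1 hc
  have c := mem_centralizer_singleton_iff.1 g.2
  have := (dot_fix h c c k).1
  simp only [dot_def, d0, Prod.fst_add, mul_one, mul_zero, add_zero, v1, zero_add] at this
  rw [show u = 0 from Prod.ext this hu, add_zero] at k
  exact k

theorem sigε (h : Cf Γ e σ i) (K : Subgroup (CC e ⧸ ZZ e)) (hK : (Nat.card K).Coprime 3)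
    (hn : ∀ v, εε h v ∈ normalizer (K : Set (CC e ⧸ ZZ e))) : K = ⊥ := by
  have : Fact (Nat.Prime 3) := ⟨Nat.prime_three⟩
  have le : (K.comap (pr e)).map (CC e).subtype ≤ zpowers (e d0) := by
    refine le_of_central (IsPGroup.of_card (n := 1) ?_) (fun g hg z hz => cZ (map_subtype_le _ hg) hz) ?_
      fun O hO hN => h.sigJ hO fun v => hN (mem_normalizer_fintype ?_)
    · rw [Nat.card_zpowers, orderOf_eq_prime (e_cube h.add d0) fun k => absurd (h.inj _ k) (by decide), pow_one]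
    · rw [← relIndex_subgroupOf (map_subtype_le _), subgroupOf, subgroupOf,
        comap_map_eq_self_of_injective (CC e).subtype_injective]
      have := relIndex_ker (K.comap (pr e)) (pr e)
      rw [QuotientGroup.ker_mk', map_comap_eq_self_of_surjective (QuotientGroup.mk'_surjective _)] at this
      exact this ▸ hK
    · rintro _ ⟨x, hx, rfl⟩
      refine ⟨⟨e v, eC h v⟩ * x * ⟨e v, eC h v⟩⁻¹, ?_, rfl⟩
      rw [SetLike.mem_coe, mem_comap, map_mul, map_mul, map_inv]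
      exact (mem_normalizer_iff.1 (hn v) _).1 hx
  refine eq_bot_iff.2 fun x hx => ?_
  obtain ⟨x, rfl⟩ := QuotientGroup.mk'_surjective _ x
  exact (QuotientGroup.eq_one_iff x).2 (le ⟨x, hx, rfl⟩)

theorem fixD : ∀ A : O4, A • d0 = d0 → A • d1 = d1 → A • d2 = d2 → A • d3 = d3 → A = 1 := by decide +kernel

omit [Finite G] in
/-- an element of order three of a `3'`-group is trivial -/
theorem eq_one3 {K : Subgroup G} (hK : (Nat.card K).Coprime 3) {g : G} (hg : g ∈ K) (h3 : g ^ 3 = 1) : g = 1 :=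
  orderOf_eq_one_iff.1 (Nat.eq_one_of_dvd_coprimes hK (K.orderOf_dvd_natCard hg) (orderOf_dvd_of_pow_eq_one h3))

/-- a `D`-invariant `3'`-subgroup of `N ∩ C(t)` lies in `⟨t⟩` -/
theorem inN (h : Cf Γ e σ i) {K : Subgroup G} (hK : (Nat.card K).Coprime 3)
    (hn : ∀ v : V, v.1 = 0 → e v ∈ normalizer (K : Set G)) {g : G} (hg : g ∈ K) (hN : g ∈ NN e)
    (ht : g * σ r0 = σ r0 * g) : g = 1 ∨ g = σ r0 := by
  obtain ⟨v, A, hA, v1, A0, hg'⟩ := h.mem_NH hN ht
  have act : ∀ d : V, d.1 = 0 → g * e d * g⁻¹ = e (A • d) := fun d hd => by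
    rcases hg' with rfl | rfl
    · exact h.conj_e hA _ _
    · rw [mul_assoc _ (σ r0), ← (h.e_t.2 hd), ← h.conj_e hA v d]; group
  have fx : ∀ d : V, d.1 = 0 → A • d = d := fun d hd => by
    have m : g * (e d * g⁻¹ * (e d)⁻¹) ∈ K := K.mul_mem hg ((mem_normalizer_iff.1 (hn d hd) _).1 (K.inv_mem hg))
    rw [show g * (e d * g⁻¹ * (e d)⁻¹) = g * e d * g⁻¹ * (e d)⁻¹ by group, act d hd, ← e_neg h.add, ← h.add] at m
    exact add_neg_eq_zero.1 (h.inj _ (eq_one3 hK m (e_cube h.add _)))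
  obtain rfl := fixD A A0 (fx _ rfl) (fx _ rfl) (fx _ rfl)
  rw [h.σ_one, mul_one] at hg'
  have sq : g * g = e v * e v := by
    rcases hg' with rfl | rfl
    · rfl
    · rw [mul_assoc, ← mul_assoc (σ r0), ← h.e_t.2 v1, mul_assoc, h.t2, mul_one]
  have v0 : v = 0 := by
    have m := K.mul_mem hg hg
    rw [sq, ← h.add, add_self] at m
    exact neg_eq_zero.1 (h.inj _ (eq_one3 hK m (e_cube h.add _)))
  subst v0
  rw [e_zero h.add, one_mul] at hg'
  exact hg'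

omit [Finite G] in
theorem t_mem (h : Cf Γ e σ i) : σ r0 ∈ SS e σ i := by
  have m : ik σ i 0 ∈ Rk e σ i 0 := subset_closure (by simp)
  rw [ik, show gk 0 = 1 from rfl, h.σ_one, one_mul, inv_one, mul_one] at m
  rw [← h.ii]
  exact le_iSup (Rk e σ i) 0 (mul_mem m m)

theorem perp : ∀ k : V, ∃ u : V, dot u k = 0 ∧ u.1 = 0 ∧ u ≠ 0 ∧ (q u = 1 ∨ ∃ l, u = zk l) := by decide +kernel

omit [Finite G] in
/-- a subgroup of `D` with cyclic quotient contains a vector of norm one or a singular vector -/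
theorem hyp (h : Cf Γ e σ i) {B : Subgroup G} (hB : B ≤ eS h UD) {a : V} (hs : B ⊔ zpowers (e a) = eS h UD) :
    ∃ u : V, e u ∈ B ∧ u.1 = 0 ∧ (q u = 1 ∨ ∃ l, u = zk l) := by
  let B' : AddSubgroup V :=
    { carrier := {v | e v ∈ B}
      zero_mem' := by rw [Set.mem_ofPred_eq, e_zero h.add]; exact B.one_mem
      add_mem' := fun hu hv => by rw [Set.mem_ofPred_eq, h.add]; exact B.mul_mem hu hv
      neg_mem' := fun hu => by rw [Set.mem_ofPred_eq, e_neg h.add]; exact B.inv_mem hu }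
  have le : eS h UD ≤ eS h (B' ⊔ (Submodule.span F {a}).toAddSubgroup) := by
    rw [← hs]
    refine sup_le (fun b hb => ?_) (zpowers_le.2 ((mem_eS h).2 (AddSubgroup.mem_sup_right
      (Submodule.mem_span_singleton_self a))))
    obtain ⟨v, -, rfl⟩ := hB hb
    exact (mem_eS h).2 (AddSubgroup.mem_sup_left hb)
  have key : ∀ d : V, d.1 = 0 → ∃ k : F, d - k • a ∈ B' := fun d hd => by
    obtain ⟨y, hy, z, hz, rfl⟩ := AddSubgroup.mem_sup.1 ((mem_eS h).1 (le ((mem_eS h).2 hd)))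
    obtain ⟨k, rfl⟩ := Submodule.mem_span_singleton.1 hz
    exact ⟨k, by rwa [add_sub_cancel_right]⟩
  obtain ⟨k1, h1⟩ := key d1 rfl
  obtain ⟨k2, h2⟩ := key d2 rfl
  obtain ⟨k3, h3⟩ := key d3 rfl
  obtain ⟨u, hu, u1, -, hq⟩ := perp (0, k1, k2, k3)
  refine ⟨u, ?_, u1, hq⟩
  have := B'.add_mem (B'.add_mem (ZMod.smul_mem h1 u.2.1) (ZMod.smul_mem h2 u.2.2.1)) (ZMod.smul_mem h3 u.2.2.2)
  have e1 : u.2.1 • (d1 - k1 • a) + u.2.2.1 • (d2 - k2 • a) + u.2.2.2 • (d3 - k3 • a) =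
      u.2.1 • d1 + u.2.2.1 • d2 + u.2.2.2 • d3 - dot u (0, k1, k2, k3) • a := by
    rw [dot_def]; module
  rw [e1, hu, zero_smul, sub_zero] at this
  rwa [show u.2.1 • d1 + u.2.2.1 • d2 + u.2.2.2 • d3 = u from
    Prod.ext (by simp [u1, d1, d2, d3]) (by simp [d1, d2, d3])] at this

end Cd

open Cd

attribute [local instance] ZZ_normal

/-- notes/O83.md, section Cd -/
theorem Cf.cd (h : Cf Γ e σ i) {g : G} (hg : g * e d0 = e d0 * g) : g ∈ NN e := by
  refine (mem_NNε h (g := ⟨g, mem_centralizer_singleton_iff.2 hg⟩)).1 ?_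
  rcases h.hΓ with rfl | rfl
  · refine (wr h).wa (fun v hv x hx => ?_) _
    obtain ⟨x, rfl⟩ := QuotientGroup.mk'_surjective _ x
    have e1 : εε h v = εε h (0, v.2) := by
      rw [show v = (0, v.2) + (v.1, 0) by simp, εε_add, ((wr h).ker (v.1, 0)).2 rfl, mul_one]; simp
    rw [e1] at hv hx
    exact (mem_NNε h).2 (c0v h (v := (0, v.2)) rfl (fun k => hv (((wr h).ker _).2 (congrArg Prod.snd k)))
      (mem_centralizer_singleton_iff.1 x.2) (lift_comm h rfl hx))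
  · refine (wr h).wb (fun x hx => ?_) (sigε h) (fun x v k => ?_) _
    · obtain ⟨x, rfl⟩ := QuotientGroup.mk'_surjective _ x
      exact (mem_NNε h).2 (zN0 h (u := z0) (by decide) (by decide) (mem_centralizer_singleton_iff.1 x.2)
        (lift_comm h rfl hx))
    · obtain ⟨x, rfl⟩ := QuotientGroup.mk'_surjective _ x
      rw [ςς_eq h (mem_top cyc) (by decide +kernel), ← map_inv, ← map_mul, ← map_mul] at k
      obtain ⟨u, -, k⟩ := (pr_eq h).1 k
      exact h.nτ x _ k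

/-- notes/O83.md, section Cd -/
theorem Cf.dN (h : Cf Γ e σ i) {v w : V} (hv : q v = 1) {g : G} (hg : g * e v * g⁻¹ = e w) : g ∈ NN e := by
  obtain ⟨A, hA, rfl⟩ := h.fus hg
  obtain ⟨B, hB, rfl⟩ := tr_d hv
  have hB := h.Γ1_le hB
  have := h.cd (g := (σ B)⁻¹ * ((σ A)⁻¹ * g) * σ B) (by
    rw [← h.σ_e A hA, ← h.σ_e B hB] at hg
    calc _ = (σ B)⁻¹ * (σ A)⁻¹ * (g * (σ B * e d0 * (σ B)⁻¹) * g⁻¹) * g * σ B := by group
      _ = _ := by rw [hg]; group)
  exact ((NN e).mul_mem_cancel_left ((NN e).inv_mem (h.σ_mem hA))).1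
    (((NN e).mul_mem_cancel_left ((NN e).inv_mem (h.σ_mem hB))).1
      (((NN e).mul_mem_cancel_right (h.σ_mem hB)).1 this))

/-- `D`-invariant `3'`-subgroups of `C(t)` lie in `Σ` -/
theorem Cf.sigD (h : Cf Γ e σ i) {K : Subgroup G} (hK : (Nat.card K).Coprime 3)
    (hn : ∀ v : V, v.1 = 0 → e v ∈ normalizer (K : Set G)) (hc : ∀ g ∈ K, g * σ r0 = σ r0 * g) : K ≤ SS e σ i := by
  have : Fact (Nat.Prime 3) := ⟨Nat.prime_three⟩
  have cm : ∀ x ∈ eS h UD, ∀ v, e v * x = x * e v := by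
    rintro _ ⟨u, -, rfl⟩ v
    exact e_comm h.add _ _
  refine H46.le_of_forall_cyclic_quotient (p := 3) (A := eS h UD) ?_ ⟨⟨fun a b => Subtype.ext ?_⟩⟩ _ K
    (fun k => by simpa using Nat.Coprime.eq_one_of_dvd hK.symm k) ?_ ?_
  · rintro ⟨_, v, hv, rfl⟩
    exact ⟨1, Subtype.ext (e_cube h.add v)⟩
  · obtain ⟨_, v, hv, rfl⟩ := a
    exact cm _ b.2 v
  · rintro _ ⟨v, hv, rfl⟩
    exact hn v hv
  rintro B hB ⟨_, ⟨a, -, rfl⟩, hs⟩
  obtain ⟨u, hu, u1, hq⟩ := hyp h hB hs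
  have hK' : (Nat.card (K ⊓ centralizer (B : Set G) : Subgroup G)).Coprime 3 :=
    Nat.Coprime.coprime_dvd_left (card_dvd_of_le inf_le_left) hK
  have hn' : ∀ w : V, w.1 = 0 → e w ∈ normalizer ((K ⊓ centralizer (B : Set G) : Subgroup G) : Set G) :=
    fun w hw => inf_normalizer_le_normalizer_inf ⟨hn w hw, le_normalizer fun x hx => (cm x (hB hx) w).symm⟩
  rcases hq with k | ⟨l, rfl⟩
  · intro g hg
    rcases inN h hK' hn' hg (h.dN k (w := u) (by rw [← hg.2 _ hu, mul_inv_cancel_right])) (hc g hg.1) with rfl | rfl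
    exacts [one_mem _, t_mem h]
  · exact (h.Z3 l hK' hn' fun g hg => ⟨hc g hg.1, (hg.2 _ hu).symm⟩).trans (le_iSup (Rk e σ i) l)

end Cfsg.Agent.O83
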