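import Cfsg.Agent.O83.Bas3
import Cfsg.Agent.OR.S9a
import Cfsg.Agent.H22.Core

/-! Project O83, section Cd: general lemmas, and the centraliser of `⟨e d0, e d1⟩`. -/

set_option autoImplicit false
set_option synthInstance.maxSize 4096
set_option maxRecDepth 100000

namespace Cfsg.Agent.O83.Cd

open Subgroup

variable {G : Type*} [Group G] [Finite G] {Γ : Subgroup O4} {e : V → G} {σ : O4 → G} {i : G}

/-- a central extension of a `3'`-group without characteristic `3'`-subgroups -/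
theorem le_of_central {K Z : Subgroup G} (hZ : IsPGroup 3 Z) (hc : ∀ g ∈ K, ∀ z ∈ Z, g * z = z * g)
    (hi : (Z.relIndex K).Coprime 3) (hs : ∀ O : Subgroup G, (Nat.card O).Coprime 3 →
      normalizer (K : Set G) ≤ normalizer (O : Set G) → O = ⊥) : K ≤ Z := by
  have : Fact (Nat.Prime 3) := ⟨Nat.prime_three⟩
  have cz : ∀ z ∈ Z.subgroupOf K, ∀ g : K, g * z = z * g := fun z hz g => Subtype.ext (hc g g.2 z hz)
  have hN : (Z.subgroupOf K).Normal := ⟨fun n hn g => by rw [cz n hn, mul_inv_cancel_right]; exact hn⟩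
  obtain ⟨n, hn⟩ := IsPGroup.iff_card.1 (hZ.comap_subtype (K := K))
  obtain ⟨H, hH⟩ := exists_right_complement'_of_coprime (N := Z.subgroupOf K)
    (by rw [subgroupOf, hn]; exact Nat.Coprime.pow_left _ hi.symm)
  have hHn : H.Normal := ⟨fun x hx g => by
    obtain ⟨c, hc, k, hk, rfl⟩ := mem_sup_of_normal_left.1
      (show g ∈ Z.subgroupOf K ⊔ H by rw [hH.sup_eq_top]; trivial)
    rw [show c * k * x * (c * k)⁻¹ = c * (k * x * k⁻¹) * c⁻¹ by group, ← cz c hc, mul_inv_cancel_right]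
    exact H.mul_mem (H.mul_mem hk hx) (H.inv_mem hk)⟩
  have h0 := hs ((pPrimeCore 3 K).map K.subtype)
    (by rw [card_map_of_injective K.subtype_injective]; exact H22.coprime_card_pPrimeCore) (OR.norm_le_char _)
  rw [map_eq_bot_iff_of_injective _ K.subtype_injective] at h0
  have h1 : H = ⊥ := le_bot_iff.1 (h0 ▸ H22.le_pPrimeCore hHn (by rw [← hH.symm.index_eq_card]; exact hi))
  have h2 := hH.sup_eq_top
  rwa [h1, sup_bot_eq, subgroupOf_eq_top] at h2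

/-- the quotient by a central subgroup of index nine in `J` -/
theorem quotW {E J W : Subgroup G} (hJE : J ≤ E) (hWJ : W ≤ J) (wc : ∀ g ∈ E, ∀ w ∈ W, g * w = w * g)
    (hexp : ∀ y ∈ J, y ^ 3 = 1) (hc : ∀ x ∈ J, ∀ y ∈ J, x * y = y * x) (h9 : Nat.card J = Nat.card W * 9)
    (sq : ∀ g ∈ E, g ∈ normalizer (J : Set G) → g * g ∈ J)
    (hcent : ∀ g ∈ E, (∀ y ∈ J, g * y * g⁻¹ * y⁻¹ ∈ W) → g ∈ J)
    (hloc : ∀ y ∈ J, y ∉ W → ∀ g ∈ E, g * y * g⁻¹ * y⁻¹ ∈ W → g ∈ normalizer (J : Set G)) :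
    E ≤ normalizer (J : Set G) := by
  have : Fact (Nat.Prime 3) := ⟨Nat.prime_three⟩
  have hW : (W.subgroupOf E).Normal := ⟨fun n hn g => by
    rw [show g * n = n * g from Subtype.ext (wc g g.2 n hn), mul_inv_cancel_right]; exact hn⟩
  let π := QuotientGroup.mk' (W.subgroupOf E)
  have hπ : ∀ g : E, π g = 1 ↔ (g : G) ∈ W := fun g => QuotientGroup.eq_one_iff g
  have hs : Function.Surjective π := QuotientGroup.mk'_surjective _
  have h1 : ((J.subgroupOf E).map π).comap π = J.subgroupOf E :=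
    comap_map_eq_self fun g hg => hWJ ((hπ g).1 hg)
  have h2 : ∀ g : E, π g ∈ (J.subgroupOf E).map π ↔ (g : G) ∈ J := fun g => by
    rw [← mem_comap, h1]; rfl
  have h3 : ∀ g : E, π g ∈ normalizer ((J.subgroupOf E).map π : Set (E ⧸ W.subgroupOf E)) ↔
      (g : G) ∈ normalizer (J : Set G) := fun g =>
    ⟨fun hg => mem_normalizer_fintype fun y hy => (h2 (g * ⟨y, hJE hy⟩ * g⁻¹)).1 (by
      rw [map_mul, map_mul, map_inv]; exact (mem_normalizer_iff.1 hg _).1 ((h2 _).2 hy)),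
    fun hg => mem_normalizer_fintype (by
      rintro _ ⟨y, hy, rfl⟩
      exact ⟨g * y * g⁻¹, (mem_normalizer_iff.1 hg y).1 hy, by simp⟩)⟩
  have cm : ∀ g y : E, π g * π y = π y * π g ↔ (g : G) * y * (g : G)⁻¹ * (y : G)⁻¹ ∈ W := fun g y => by
    rw [← mul_inv_eq_iff_eq_mul, ← mul_inv_eq_one, ← map_inv, ← map_inv, ← map_mul, ← map_mul, ← map_mul, hπ]; rfl
  obtain ⟨S, hS⟩ := OR.exists_sylow_of_norm hJE (fun y => ⟨1, Subtype.ext (hexp y y.2)⟩)
    fun g hg hn k hk => OR.mem_of_sq (sq g hg hn) k hk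
  have := OR.e3_two (T := (J.subgroupOf E).map π) ⟨?_, ?_, le_antisymm (fun g hg => ?_) ?_, ?_⟩ ?_ ?_
  · exact fun g hg => (h3 ⟨g, hg⟩).1 (by rw [this]; trivial)
  · rintro _ ⟨y, hy, rfl⟩
    rw [← map_pow, show y ^ 3 = 1 from Subtype.ext (hexp y hy), map_one]
  · exact fun e => S.not_dvd_index (e.trans (hS ▸ index_map_dvd _ hs))
  · obtain ⟨g, rfl⟩ := hs g
    exact (h2 g).2 (hcent g g.2 fun y hy => (cm g ⟨y, hJE hy⟩).1 (hg _ ((h2 _).2 hy)).symm)
  · rintro _ ⟨x, hx, rfl⟩ _ ⟨y, hy, rfl⟩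
    rw [← map_mul, ← map_mul]
    exact congrArg π (Subtype.ext (hc y hy x hx))
  · rintro _ ⟨y, hy, rfl⟩ y1 g hg
    obtain ⟨g, rfl⟩ := hs g
    exact (h3 g).2 (hloc y hy (fun e => y1 ((hπ y).2 e)) g g.2 ((cm g y).1 (mem_centralizer_singleton_iff.1 hg)))
  · have h4 := QuotientGroup.card_preimage_mk (W.subgroupOf E) ((J.subgroupOf E).map π : Set _)
    have h5 : Nat.card (W.subgroupOf E) = Nat.card W := Nat.card_congr (subgroupOfEquivOfLe (hWJ.trans hJE)).toEquiv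
    have h6 : Nat.card (((J.subgroupOf E).map π).comap π) = Nat.card W * 9 := by
      rw [h1, Nat.card_congr (subgroupOfEquivOfLe hJE).toEquiv, h9]
    have h7 : Nat.card W * 9 = Nat.card W * Nat.card ((J.subgroupOf E).map π) := by rw [← h6, ← h5]; exact h4
    exact (Nat.eq_of_mul_eq_mul_left Nat.card_pos h7).symm
  · intro g hg
    obtain ⟨g, rfl⟩ := hs g
    rw [← map_mul, h2]
    exact sq g g.2 ((h3 g).1 hg)

/-- the image of an additive subgroup -/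
def eS (h : Cf Γ e σ i) (U : AddSubgroup V) : Subgroup G where
  carrier := e '' U
  one_mem' := ⟨0, U.zero_mem, e_zero h.add⟩
  mul_mem' := by
    rintro _ _ ⟨u, hu, rfl⟩ ⟨v, hv, rfl⟩
    exact ⟨_, U.add_mem hu hv, h.add u v⟩
  inv_mem' := by
    rintro _ ⟨u, hu, rfl⟩
    exact ⟨_, U.neg_mem hu, e_neg h.add u⟩

omit [Finite G] in
theorem mem_eS (h : Cf Γ e σ i) {U : AddSubgroup V} {v : V} : e v ∈ eS h U ↔ v ∈ U :=
  ⟨fun ⟨_, hu, k⟩ => h.toAd.eq_iff.1 k ▸ hu, fun hv => ⟨v, hv, rfl⟩⟩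

omit [Finite G] in
theorem card_eS (h : Cf Γ e σ i) (U : AddSubgroup V) : Nat.card (eS h U) = Nat.card U :=
  (Nat.card_congr (Equiv.Set.image e U fun _ _ => h.toAd.eq_iff.1)).symm

omit [Finite G] in
theorem eS_top (h : Cf Γ e σ i) : eS h ⊤ = JJ e :=
  Subgroup.ext fun _ => by rw [mem_JJ h.add]; exact ⟨fun ⟨v, _, k⟩ => ⟨v, k⟩, fun ⟨v, k⟩ => ⟨v, trivial, k⟩⟩

/-- coordinates of `D` -/
def UD : AddSubgroup V := (AddMonoidHom.fst _ _).ker

/-- coordinates of `⟨e d0, e d1⟩` -/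
def UW : AddSubgroup V := ((AddMonoidHom.snd _ _).comp (AddMonoidHom.snd _ _)).ker

theorem card_UW : Nat.card UW = 9 := by
  rw [show Nat.card UW = Nat.card {v : V // v.2.2 = 0} from rfl, Nat.card_eq_fintype_card]
  decide +kernel

/-- an element fixing `e a` and `e b` preserves the products with `a` and `b` -/
theorem dot_fix (h : Cf Γ e σ i) {g : G} {a b v w : V} (ha : g * e a = e a * g) (hb : g * e b = e b * g)
    (hv : g * e v * g⁻¹ = e w) : dot w a = dot v a ∧ dot w b = dot v b := by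
  have a1 : g * e a * g⁻¹ = e a := by rw [ha, mul_inv_cancel_right]
  have b1 : g * e b * g⁻¹ = e b := by rw [hb, mul_inv_cancel_right]
  obtain ⟨A, -, hA⟩ := h.frat {a, b, v} (g := g) (by
    rintro _ (rfl | rfl | rfl)
    exacts [⟨_, a1⟩, ⟨_, b1⟩, ⟨_, hv⟩])
  have e1 := h.toAd.eq_iff.1 (a1.symm.trans (hA a (by simp)))
  have e2 := h.toAd.eq_iff.1 (b1.symm.trans (hA b (by simp)))
  have e3 := h.toAd.eq_iff.1 (hv.symm.trans (hA v (by simp)))
  rw [e3]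
  exact ⟨by rw [← dot_smul A v a, ← e1], by rw [← dot_smul A v b, ← e2]⟩

/-- an element centralising `e d0` and a singular vector -/
theorem zN0 (h : Cf Γ e σ i) {g : G} {u : V} (hu : q u = 0) (u0 : u ≠ 0) (h0 : g * e d0 = e d0 * g)
    (hg : g * e u = e u * g) : g ∈ NN e :=
  h.zN (v := d0) (w := d0) hu u0 (by decide) (by rintro rfl; exact absurd hu (by decide))
    (fun k => by rw [← q_neg, ← k] at hu; exact absurd hu (by decide)) (fun k => absurd k.2 (by decide)) hg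
    (by rw [h0, mul_inv_cancel_right])

theorem sq01 : ∀ A : O4, A • d0 = d0 → A • d1 = d1 → A ∈ Γ1 → A * A = 1 := by decide +kernel

theorem one01 : ∀ A : O4, A • d0 = d0 → A • d1 = d1 → (A • d2 + -d2).2.2 = 0 → (A • d3 + -d3).2.2 = 0 → A = 1 := by
  decide +kernel

theorem sing01 : ∀ v : V, v.1 = 0 → v.2.1 = 0 → v ≠ 0 → (q (d0 + v) = 0 ∧ d0 + v ≠ 0) ∨
    (q (d0 + d1 + v) = 0 ∧ d0 + d1 + v ≠ 0) := by decide +kernel

/-- case `α`: the centraliser of `⟨e d0, e d1⟩` -/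
theorem c01 (h : Cf Γ1 e σ i) {g : G} (h0 : g * e d0 = e d0 * g) (h1 : g * e d1 = e d1 * g) : g ∈ NN e := by
  have mem : ∀ g, g ∈ (centralizer {e d0} ⊓ centralizer {e d1} : Subgroup G) ↔
      g * e d0 = e d0 * g ∧ g * e d1 = e d1 * g := fun g => by
    rw [mem_inf, mem_centralizer_singleton_iff, mem_centralizer_singleton_iff]
  have wc : ∀ g ∈ (centralizer {e d0} ⊓ centralizer {e d1} : Subgroup G), ∀ v : V, v.2.2 = 0 →
      g * e v = e v * g := fun g hg v hv => by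
    have : v = v.1.val • d0 + v.2.1.val • d1 := by revert v; decide +kernel
    rw [this, h.add, e_nsmul h.add, e_nsmul h.add]
    exact (Commute.pow_right ((mem g).1 hg).1 _).mul_right (Commute.pow_right ((mem g).1 hg).2 _)
  refine quotW (J := JJ e) (W := eS h UW) (fun x hx => ?_) (fun x hx => ?_) ?_ (fun x hx => ?_) (fun x hx y hy => ?_) ?_
    (fun g hg hn => ?_) (fun g hg hc => ?_) (fun y hy y1 g hg hc => ?_) ((mem g).2 ⟨h0, h1⟩)
  · obtain ⟨v, rfl⟩ := (mem_JJ h.add).1 hx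
    exact (mem _).2 ⟨e_comm h.add _ _, e_comm h.add _ _⟩
  · obtain ⟨v, -, rfl⟩ := hx
    exact (mem_JJ h.add).2 ⟨v, rfl⟩
  · rintro g hg _ ⟨v, hv, rfl⟩
    exact wc g hg v hv
  · obtain ⟨v, rfl⟩ := (mem_JJ h.add).1 hx
    exact e_cube h.add v
  · obtain ⟨v, rfl⟩ := (mem_JJ h.add).1 hx
    obtain ⟨w, rfl⟩ := (mem_JJ h.add).1 hy
    exact e_comm h.add _ _
  · rw [← eS_top h, card_eS, card_eS, card_UW, AddSubgroup.card_top]; simp
  · obtain ⟨v, A, hA, rfl⟩ := h.mem_N.1 hn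
    obtain ⟨a0, a1⟩ := (mem _).1 hg
    rw [h.mul_eq hA hA, sq01 A ((h.comm_e hA).1 a0) ((h.comm_e hA).1 a1) hA, h.σ_one, mul_one]
    exact (mem_JJ h.add).2 ⟨_, rfl⟩
  · have hn : g ∈ NN e := (mem_NN h.add).2 fun v => by
      obtain ⟨w, -, k⟩ := hc _ ((mem_JJ h.add).2 ⟨v, rfl⟩)
      exact ⟨w + v, by rw [h.add, k, inv_mul_cancel_right]⟩
    obtain ⟨v, A, hA, rfl⟩ := h.mem_N.1 hn
    obtain ⟨a0, a1⟩ := (mem _).1 hg
    have k := fun w => hc _ ((mem_JJ h.add).2 ⟨w, rfl⟩)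
    simp only [h.conj_e hA, ← e_neg h.add, ← h.add, mem_eS] at k
    rw [one01 A ((h.comm_e hA).1 a0) ((h.comm_e hA).1 a1) (k d2) (k d3), h.σ_one, mul_one]
    exact (mem_JJ h.add).2 ⟨_, rfl⟩
  · obtain ⟨v, rfl⟩ := (mem_JJ h.add).1 hy
    obtain ⟨w, hw, k⟩ := hc
    obtain ⟨a0, a1⟩ := (mem _).1 hg
    have ev : e v = e (0, 0, v.2.2) * e (v.1, v.2.1, 0) := by rw [← h.add]; simp
    have k2 : g * e (0, 0, v.2.2) * g⁻¹ = e (w + (0, 0, v.2.2)) := by
      have := wc g hg (v.1, v.2.1, 0) rfl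
      rw [h.add, k, ev, ← mul_assoc g, mul_assoc (g * _) _ g⁻¹, ← (Commute.inv_left this).eq]
      group
    obtain ⟨c0, c1⟩ := dot_fix h a0 a1 k2
    have w0 : w = 0 := by
      simp only [dot_def, d0, d1, Prod.fst_add, Prod.snd_add, mul_one, mul_zero, add_zero, zero_add] at c0 c1
      exact Prod.ext c0 (Prod.ext c1 hw)
    rw [w0, zero_add, mul_inv_eq_iff_eq_mul] at k2
    rcases sing01 (0, 0, v.2.2) rfl rfl (fun k => y1 ((mem_eS h).2 (congrArg (fun u : V => u.2.2) k))) with k | k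
    · exact zN0 h k.1 k.2 a0 (by rw [h.add]; exact Commute.mul_right a0 k2)
    · exact zN0 h k.1 k.2 a0 (by rw [h.add, h.add]; exact Commute.mul_right (Commute.mul_right a0 a1) k2)

theorem mv1 : ∀ v : V, v.1 = 0 → q v = 1 → ∃ A : O4, A • d0 = d0 ∧ A • d1 = v ∧ A ∈ Γ1 := by decide +kernel

theorem sing0 : ∀ v : V, v.1 = 0 → v ≠ 0 → q v = 0 ∨ q v = 1 ∨ (q (d0 + v) = 0 ∧ d0 + v ≠ 0) := by decide +kernel

/-- case `α`: the centraliser of `⟨e d0, e v⟩` -/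
theorem c0v (h : Cf Γ1 e σ i) {g : G} {v : V} (v1 : v.1 = 0) (v0 : v ≠ 0) (h0 : g * e d0 = e d0 * g)
    (h1 : g * e v = e v * g) : g ∈ NN e := by
  rcases sing0 v v1 v0 with k | k | k
  · exact zN0 h k v0 h0 h1
  · obtain ⟨A, a0, rfl, hA⟩ := mv1 v v1 k
    have c : ∀ u, g * e (A • u) = e (A • u) * g → (σ A)⁻¹ * g * σ A * e u = e u * ((σ A)⁻¹ * g * σ A) := fun u k => by
      rw [mul_assoc, h.σ_e' hA, ← mul_assoc, mul_assoc _ g, k, ← h.σ_e A hA]; group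
    have := c01 h (c d0 (by rw [a0]; exact h0)) (c d1 h1)
    exact ((NN e).mul_mem_cancel_left ((NN e).inv_mem (h.σ_mem hA))).1
      (((NN e).mul_mem_cancel_right (h.σ_mem hA)).1 this)
  · exact zN0 h k.1 k.2 h0 (by rw [h.add]; exact Commute.mul_right h0 h1)

end Cfsg.Agent.O83.Cd
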