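import Cfsg.Agent.O83.Defs
import Cfsg.Agent.L43.Vd2

/-! Project O83, section Ee: the symplectic space `Q / Z` and the pair `Q, Q'` (as in `L43/Vd`, `L43/Vd2`). -/

set_option autoImplicit false
set_option synthInstance.maxSize 4096
set_option maxRecDepth 100000

namespace Cfsg.Agent.O83

open Subgroup Module
open L43 (Vd mem_zp3 pow_val_add pow_val_eq_one pow_val_neg pow_val_inj mem_of_pow_val exists_perp s2_cyc)

universe u

variable {G : Type u} [Group G] {z z' : G} {C Q C' Q' : Subgroup G} {π : C →* S2 × M2} {π' : C' →* S2 × M2}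
  {U : Type u} [AddCommGroup U] [Module F U] {p : G → U} {B : LinearMap.BilinForm F U} {R : G → End F U}

/-- the part of `Hy` needed for both `Q` and `Q'` -/
structure H0 (z : G) (C Q : Subgroup G) (π : C →* S2 × M2) : Prop where
  memC : ∀ g, g ∈ C ↔ g * z = z * g
  oz : orderOf z = 3
  zQ : z ∈ Q
  QC : Q ≤ C
  exp : ∀ a ∈ Q, a ^ 3 = 1
  card : Nat.card Q = 243
  comm : ∀ a ∈ Q, ∀ b ∈ Q, a * b * a⁻¹ * b⁻¹ ∈ zpowers z
  cen : ∀ g, (∀ a ∈ Q, g * a = a * g) → g ∈ zpowers z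
  ker : ∀ c, π c = 1 ↔ c.1 ∈ Q

theorem Hy.h0 (h : Hy z C Q π) : H0 z C Q π := ⟨h.1, h.2, h.3, h.4, h.5, h.6, h.7, h.8, h.10⟩

theorem m2_cube : ∀ a : M2, a * a * a = 1 → a = 1 := by decide

namespace H0

variable (h : H0 z C Q π)
include h

theorem z3 : z ^ 3 = 1 := h.exp z h.zQ

theorem zc {a : G} (ha : a ∈ Q) : a * z = z * a := (h.memC a).1 (h.QC ha)

theorem zle : zpowers z ≤ Q := zpowers_le.2 h.zQ

theorem CN : C ≤ normalizer (Q : Set G) := fun c hc => by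
  have key : ∀ c ∈ C, ∀ a ∈ Q, c * a * c⁻¹ ∈ Q := fun c hc a ha =>
    (h.ker (⟨c, hc⟩ * ⟨a, h.QC ha⟩ * ⟨c, hc⟩⁻¹)).1 (by
      rw [map_mul, map_mul, (h.ker ⟨a, h.QC ha⟩).2 ha, map_inv, mul_one, mul_inv_cancel])
  exact mem_normalizer_iff.2 fun a => ⟨key c hc a, fun k => by simpa [mul_assoc] using key _ (inv_mem hc) _ k⟩

theorem norm_z {g : G} (hg : g ∈ normalizer (Q : Set G)) : g * z * g⁻¹ ∈ zpowers z := h.cen _ fun a ha => by
  have := h.zc ((mem_normalizer_iff.1 (inv_mem hg) a).1 ha)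
  calc g * z * g⁻¹ * a = g * (z * (g⁻¹ * a * g⁻¹⁻¹)) * g⁻¹ := by group
    _ = _ := by rw [← this]; group

theorem exists_vd : ∃ (V : Type u) (_ : AddCommGroup V) (_ : Module F V) (p : G → V) (B : LinearMap.BilinForm F V)
    (R : G → End F V), Vd z Q p B R := by
  classical
  have : Fact (Nat.Prime 3) := ⟨Nat.prime_three⟩
  have mz : ∀ a : Q, a ∈ zpowers (⟨z, h.zQ⟩ : Q) ↔ a.1 ∈ zpowers z := fun a => by
    simp only [mem_zpowers_iff, Subtype.ext_iff, coe_zpow]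
  obtain ⟨V, _, _, D, h1, h2⟩ := H3.exists_esData (p := 3) (⟨z, h.zQ⟩ : Q)
    (mem_center_iff.2 fun a => Subtype.ext (h.zc a.2)) (by rw [orderOf_mk, h.oz])
    (by rw [commutator_def, commutator_le]; exact fun a _ b _ => (mz _).2 (h.comm a a.2 b b.2))
    fun a => (mz _).2 (by rw [coe_pow, h.exp a a.2]; exact one_mem _)
  let p : G → V := fun g => if k : g ∈ Q then D.π ⟨g, k⟩ else 0
  have hp : ∀ a : Q, p a = D.π a := fun a => dif_pos a.2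
  have ex : ∀ g ∈ normalizer (Q : Set G), ∃ R : End F V, ∀ a ∈ Q, R (p a) = p (g * a * g⁻¹) := fun g hg => by
    let f : Q →* Multiplicative V := D.πHom.comp (Q.normalizerMonoidHom ⟨g, hg⟩).toMonoidHom
    let f' := D.πHom.liftOfRightInverse _ (Function.rightInverse_surjInv D.πHom_surjective) ⟨f, fun a ha => by
      obtain ⟨n, hn⟩ := mem_zpowers_iff.1 ((mz a).1 ((h2 a).1 ha))
      exact (h2 _).2 ((mz _).2 (by
        show g * a * g⁻¹ ∈ _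
        rw [← hn, ← conj_zpow]
        exact zpow_mem (h.norm_z hg) n))⟩
    let f'' : V →+ V := MonoidHom.toAdditive f'
    refine ⟨f''.toZModLinearMap 3, fun a ha => ?_⟩
    rw [hp ⟨a, ha⟩, hp ⟨_, (mem_normalizer_iff.1 hg a).1 ha⟩]
    exact congrArg Multiplicative.toAdd (D.πHom.liftOfRightInverse_comp_apply _ _ _ ⟨a, ha⟩)
  choose! R hR using ex
  refine ⟨V, _, _, p, D.B, R, fun a ha b hb => ?_, fun v => ?_, fun a ha => ?_, fun a ha b hb => ?_, hR, ?_,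
    D.isAlt, fun v hv => ?_⟩
  · rw [hp ⟨a, ha⟩, hp ⟨b, hb⟩, ← D.π_mul, ← hp]; rfl
  · obtain ⟨a, e⟩ := D.π_surj v
    exact ⟨a, a.2, (hp a).trans e⟩
  · rw [hp ⟨a, ha⟩, h2, mz]
  · have e := congrArg Subtype.val (D.comm_eq ⟨a, ha⟩ ⟨b, hb⟩)
    rw [← ZMod.natCast_zmod_val (D.B _ _), ← nsmul_one, D.ζ_nsmul, h1] at e
    rw [hp ⟨a, ha⟩, hp ⟨b, hb⟩]
    exact e
  · have e := D.card_eq
    rw [h.card] at e
    omega
  · obtain ⟨a, rfl⟩ := D.π_surj v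
    exact (h2 a).2 ((mz a).2 (h.cen _ fun b hb => congrArg Subtype.val
      ((D.commute_iff a ⟨b, hb⟩).2 (hv _)).eq))

theorem conj (g : G) : ∃ (C' Q' : Subgroup G) (π' : C' →* S2 × M2), H0 (g * z * g⁻¹) C' Q' π' ∧
    ∀ a, a ∈ Q' ↔ g⁻¹ * a * g ∈ Q := by
  let e : G →* G := (MulAut.conj g⁻¹).toMonoidHom
  have he : ∀ a, e a = g⁻¹ * a * g := fun a => by simp [e]
  have zz : ∀ a, e a ∈ zpowers z → a ∈ zpowers (g * z * g⁻¹) := fun a ha => by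
    obtain ⟨n, hn⟩ := mem_zpowers_iff.1 ha
    exact mem_zpowers_iff.2 ⟨n, by rw [conj_zpow, hn, he]; group⟩
  have ez : e (g * z * g⁻¹) = z := by rw [he]; group
  have inj : Function.Injective e := (MulAut.conj g⁻¹).injective
  refine ⟨C.comap e, Q.comap e, π.comp (e.subgroupComap C), ⟨fun a => ?_, ?_, ?_, comap_mono h.QC, fun a ha => ?_, ?_,
    fun a ha b hb => zz _ ?_, fun a ha => zz _ (h.cen _ fun b hb => ?_), fun c => h.ker _⟩, fun a => by rw [mem_comap, he]⟩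
  · rw [mem_comap, h.memC, ← inj.eq_iff (a := a * _), map_mul e a, map_mul e _ a, ez]
  · rw [← orderOf_injective e inj, ez, h.oz]
  · rw [mem_comap, ez]; exact h.zQ
  · exact inj (by rw [map_pow, h.exp _ ha, map_one])
  · rw [← h.card, show Q.comap e = Q.map (MulAut.conj g⁻¹).symm.toMonoidHom from comap_equiv_eq_map_symm' _ _]
    exact card_map_of_injective (MulAut.conj g⁻¹).symm.injective
  · simpa only [map_mul, map_inv] using h.comm _ ha _ hb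
  · obtain ⟨b, rfl⟩ := (MulAut.conj g⁻¹).surjective b
    exact (map_mul e a b).symm.trans ((congrArg e (ha b hb)).trans (map_mul e b a))

section

variable (d : Vd z Q p B R)
include d

theorem R_Q {q : G} (hq : q ∈ Q) : R q = 1 := d.ext fun a ha => by
  have := d.sub (le_normalizer hq) ha
  rw [(d.zero _ (h.zle (h.comm q hq a ha))).2 (h.comm q hq a ha), LinearMap.sub_apply, sub_eq_zero] at this
  exact this

theorem comm_iff {a b : G} (ha : a ∈ Q) (hb : b ∈ Q) : a * b = b * a ↔ B (p a) (p b) = 0 := by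
  rw [← pow_val_eq_one h.oz, ← d.comm a ha b hb, mul_inv_eq_one, mul_inv_eq_iff_eq_mul]

/-- the action of `C` -/
def ρ : C →* End F U where
  toFun c := R c
  map_one' := h.R_Q d (one_mem _)
  map_mul' a b := d.R_mul (h.CN a.2) (h.CN b.2)

theorem ρ_eq {a b : C} (e : π a = π b) : h.ρ d a = h.ρ d b := by
  have : h.ρ d (a * b⁻¹) = 1 := h.R_Q d ((h.ker _).1 (by rw [map_mul, map_inv, e, mul_inv_cancel]))
  rw [← one_mul (h.ρ d b), ← this, ← map_mul, inv_mul_cancel_right]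

theorem B_R {g : G} (hg : g ∈ normalizer (Q : Set G)) {ε : F}
    (e : ∀ k : F, g * z ^ k.val * g⁻¹ = z ^ (ε * k).val) (u v : U) : B (R g u) (R g v) = ε * B u v := by
  obtain ⟨a, ha, rfl⟩ := d.sur u
  obtain ⟨b, hb, rfl⟩ := d.sur v
  refine pow_val_inj h.oz ?_
  rw [d.act _ hg _ ha, d.act _ hg _ hb, ← e, ← d.comm a ha b hb,
    ← d.comm _ ((mem_normalizer_iff.1 hg a).1 ha) _ ((mem_normalizer_iff.1 hg b).1 hb)]
  group

theorem B_ρ (c : C) (u v : U) : B (h.ρ d c u) (h.ρ d c v) = B u v :=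
  (h.B_R d (h.CN c.2) (ε := 1) (fun k => by
    rw [one_mul, ← conj_pow, (h.memC _).1 c.2, mul_inv_cancel_right]) u v).trans (one_mul _)

end

/-- `C_Q(w)` is not abelian -/
theorem nab {w : G} (hw : w ∈ Q) (hn : w ∉ zpowers z) : ∃ a ∈ Q, ∃ b ∈ Q, a * w = w * a ∧ b * w = w * b ∧
    ∃ k : F, k ≠ 0 ∧ a * b * a⁻¹ * b⁻¹ = z ^ k.val := by
  obtain ⟨V, _, _, p, B, R, d⟩ := h.exists_vd
  have := Nat.finite_of_card_ne_zero (d.card ▸ by decide : Nat.card V ≠ 0)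
  obtain ⟨u, v, h1, h2, h3⟩ := exists_perp (d.card ▸ by decide) d.alt d.nd fun e => hn ((d.zero w hw).1 e)
  obtain ⟨a, ha, rfl⟩ := d.sur u
  obtain ⟨b, hb, rfl⟩ := d.sur v
  exact ⟨a, ha, b, hb, (h.comm_iff d ha hw).2 h1, (h.comm_iff d hb hw).2 h2, _, h3, d.comm a ha b hb⟩

omit h in
theorem cube {a : C} (h3 : a.1 ^ 3 = 1) : π a * π a * π a = 1 := by
  rw [← pow_three', ← map_pow, show a ^ 3 = 1 from Subtype.ext h3, map_one]

/-- subgroups of exponent three of `C` -/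
theorem cyc {H : Subgroup G} (hH : H ≤ C) (h3 : ∀ a ∈ H, a ^ 3 = 1) {x a : G} (hx : x ∈ H) (xQ : x ∉ Q)
    (ha : a ∈ H) : ∃ i < 3, a * (x ^ i)⁻¹ ∈ Q := by
  have key : ∀ i, π ⟨a, hH ha⟩ = π ⟨x, hH hx⟩ ^ i → a * (x ^ i)⁻¹ ∈ Q := fun i e =>
    (h.ker (⟨a, hH ha⟩ * (⟨x, hH hx⟩ ^ i)⁻¹)).1 (by rw [map_mul, map_inv, map_pow, e, mul_inv_cancel])
  have c1 : ∀ {b : C}, b.1 ^ 3 = 1 → (π b).1 * (π b).1 * (π b).1 = 1 := fun k => congrArg Prod.fst (cube k)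
  have c2 : ∀ {b : C}, b.1 ^ 3 = 1 → (π b).2 = 1 := fun k => m2_cube _ (congrArg Prod.snd (cube k))
  replace key : ∀ i, (π ⟨a, hH ha⟩).1 = (π ⟨x, hH hx⟩).1 ^ i → a * (x ^ i)⁻¹ ∈ Q := fun i e =>
    key i (Prod.ext e (by rw [Prod.pow_snd, c2 (h3 a ha), c2 (h3 x hx), one_pow]))
  rcases s2_cyc (π ⟨x, hH hx⟩).1 (π ⟨a, hH ha⟩).1 (fun e => xQ ((h.ker _).1 (Prod.ext e (c2 (h3 x hx)))))
    (c1 (h3 x hx)) (c1 (h3 a ha))
    (by rw [← Prod.fst_mul (π _), ← map_mul]; exact c1 (h3 _ (mul_mem hx ha)))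
    (by rw [← Prod.fst_mul (π ⟨a, _⟩), ← Prod.fst_mul (π _), ← map_mul, ← map_mul]
        exact c1 (h3 _ (mul_mem hx (mul_mem ha ha)))) with e | e | e
  · exact ⟨0, by decide, key 0 (by rw [e, pow_zero])⟩
  · exact ⟨1, by decide, key 1 (by rw [e, pow_one])⟩
  · exact ⟨2, by decide, key 2 (by rw [e, pow_two])⟩

variable (h' : H0 z' C' Q' π')
include h'

theorem sym (hw : z' ∈ Q) (hn : z' ∉ zpowers z) : z ∈ Q' := by
  obtain ⟨a, ha, b, hb, h1, h2, k, hk, e⟩ := h.nab hw hn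
  have aC := (h'.memC a).2 h1
  refine mem_of_pow_val h.z3 hk (e ▸ ?_)
  by_cases aQ : a ∈ Q'
  · have := (mem_normalizer_iff.1 (h'.CN ((h'.memC b).2 h2)) _).1 (inv_mem aQ)
    simpa only [mul_assoc] using mul_mem aQ this
  · obtain ⟨i, -, hi⟩ := h'.cyc (H := Q ⊓ C') inf_le_right (fun a ha => h.exp a ha.1) ⟨ha, aC⟩ aQ
      ⟨hb, (h'.memC b).2 h2⟩
    have := mul_mem ((mem_normalizer_iff.1 (h'.CN aC) _).1 hi) (inv_mem hi)
    convert this using 1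
    group

theorem sym' (hn : z' ∉ zpowers z) : z ∉ zpowers z' := fun k => by
  obtain ⟨i, e⟩ := (mem_zp3 h'.oz).1 k
  refine hn (mem_of_pow_val h'.z3 (k := i) (fun i0 => ?_) (e ▸ mem_zpowers z))
  have := h.oz
  rw [e, i0, ZMod.val_zero, pow_zero, orderOf_one] at this
  omega

theorem inf_comm (hn : z' ∉ zpowers z) {a b : G} (ha : a ∈ Q ⊓ Q') (hb : b ∈ Q ⊓ Q') : a * b = b * a := by
  obtain ⟨i, e⟩ := (mem_zp3 h'.oz).1 (h'.comm a ha.2 b hb.2)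
  by_cases i0 : i = 0
  · rwa [i0, ZMod.val_zero, pow_zero, mul_inv_eq_one, mul_inv_eq_iff_eq_mul] at e
  · exact absurd (mem_of_pow_val h'.z3 i0 (e ▸ h.comm a ha.1 b hb.1)) hn

theorem exists_x (hw : z' ∈ Q) (hn : z' ∉ zpowers z) : ∃ x ∈ Q' ⊓ C, x ∉ Q ∧ ∃ e ∈ Q ⊓ Q', x * e ≠ e * x := by
  have zQ := h.sym h' hw hn
  obtain ⟨a, ha, b, hb, h1, h2, k, hk, e⟩ := h'.nab zQ (h.sym' h' hn)
  have nc : a * b ≠ b * a := fun c => hk ((pow_val_eq_one h'.oz).1 (by rw [← e, c]; group))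
  have aX : a ∈ Q' ⊓ C := ⟨ha, (h.memC a).2 h1⟩
  have bX : b ∈ Q' ⊓ C := ⟨hb, (h.memC b).2 h2⟩
  obtain ⟨x, hx, xQ⟩ : ∃ x ∈ Q' ⊓ C, x ∉ Q := by
    by_contra! k
    exact nc (h.inf_comm h' hn ⟨k a aX, ha⟩ ⟨k b bX, hb⟩)
  have cov : ∀ a ∈ Q' ⊓ C, ∃ i < 3, a * (x ^ i)⁻¹ ∈ Q ⊓ Q' := fun a ha =>
    (h.cyc inf_le_right (fun a ha => h'.exp a ha.1) hx xQ ha).imp fun i hi =>
      ⟨hi.1, hi.2, Q'.mul_mem ha.1 (Q'.inv_mem (Q'.pow_mem hx.1 i))⟩
  refine ⟨x, hx, xQ, by_contra fun k => nc ?_⟩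
  replace k : ∀ e ∈ Q ⊓ Q', Commute x e := fun e he => by_contra fun c => k ⟨e, he, c⟩
  obtain ⟨i, -, hi⟩ := cov a aX
  obtain ⟨j, -, hj⟩ := cov b bX
  rw [← inv_mul_cancel_right a (x ^ i), ← inv_mul_cancel_right b (x ^ j)]
  exact (((Commute.mul_right (h.inf_comm h' hn hi hj) ((k _ hi).pow_left j).symm)).mul_left
    (((k _ hj).pow_left i).mul_right (Commute.pow_pow_self x i j))).eq

end H0

end Cfsg.Agent.O83
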