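import Cfsg.Agent.O83.Ee1

/-! Project O83, section Ee: `Q / Z = V₁ ⊕ V₂` in coordinates. -/

set_option autoImplicit false
set_option synthInstance.maxSize 4096
set_option maxRecDepth 100000

namespace Cfsg.Agent.O83

open Subgroup Module
open L43 (Vd mem_zp3 pow_val_add pow_val_eq_one pow_val_neg pow_val_inj mem_of_pow_val eq_zero_of_neg)

universe u

/-- the plane -/
abbrev W : Type := F × F
/-- the natural action of `SL₂(3)` -/
def ac (M : S2) (v : W) : W := (M.1 0 0 * v.1 + M.1 0 1 * v.2, M.1 1 0 * v.1 + M.1 1 1 * v.2)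
/-- the symplectic form -/
def ω (u v : W) : F := u.1 * v.2 - u.2 * v.1

theorem ac_mul (M N : S2) (v : W) : ac (M * N) v = ac M (ac N v) := by
  simp only [ac, Matrix.SpecialLinearGroup.coe_mul, Matrix.mul_apply, Fin.sum_univ_two, Prod.mk.injEq]
  constructor <;> ring

theorem ac_one (v : W) : ac 1 v = v := by simp [ac]

theorem ac_ext {M N : S2} (h : ∀ v, ac M v = ac N v) : M = N := by
  have h1 := h (1, 0)
  have h2 := h (0, 1)
  simp only [ac, mul_one, mul_zero, add_zero, zero_add, Prod.mk.injEq] at h1 h2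
  ext i j
  fin_cases i <;> fin_cases j
  exacts [h1.1, h2.1, h1.2, h2.2]

variable {G : Type u} [Group G] {z : G} {C Q : Subgroup G} {π : C →* S2 × M2}

/-- coordinates of `Q / Z` -/
structure Cr (z : G) (C Q : Subgroup G) (π : C →* S2 × M2) (p : G → W × W) (ρ σ : C →* S2) : Prop where
  mul : ∀ a ∈ Q, ∀ b ∈ Q, p (a * b) = p a + p b
  sur : ∀ v, ∃ a ∈ Q, p a = v
  zero : ∀ a ∈ Q, p a = 0 ↔ a ∈ zpowers z
  comm : ∀ a ∈ Q, ∀ b ∈ Q, a * b * a⁻¹ * b⁻¹ = z ^ (ω (p a).1 (p b).1 + ω (p a).2 (p b).2).val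
  act : ∀ c : C, ∀ a ∈ Q, p (c * a * c.1⁻¹) = (ac (ρ c) (p a).1, ac (σ c) (p a).2)
  neg : ∀ c, π c = (-1, 1) → ρ c = -1 ∧ σ c = 1

section
variable {U : Type*} [AddCommGroup U] [Module F U] {B : LinearMap.BilinForm F U}

theorem basis4 (alt : B.IsAlt) (hc : Nat.card U = 81) {a a' b b' : U} (h1 : B a a' = 1) (h2 : B b b' = 1)
    (k1 : B a b = 0) (k2 : B a b' = 0) (k3 : B a' b = 0) (k4 : B a' b' = 0) :
    (∀ v, v = B v a' • a + B a v • a' + B v b' • b + B b v • b') ∧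
      ∀ s : W × W, ∃ v, ((B v a', B a v), (B v b', B b v)) = s := by
  have n : ∀ u v, B u v = -B v u := fun u v => (alt.neg_eq v u).symm
  have key : ∀ s : W × W, ∀ v, v = s.1.1 • a + s.1.2 • a' + s.2.1 • b + s.2.2 • b' →
      ((B v a', B a v), (B v b', B b v)) = s := fun s v e => by
    simp [e, h1, h2, k1, k2, k3, k4, alt.self_eq_zero, n b a, n b a', n b' a']
  have := Nat.finite_of_card_ne_zero (hc ▸ by decide : Nat.card U ≠ 0)
  have bj := (Nat.bijective_iff_injective_and_card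
    (fun s : W × W => s.1.1 • a + s.1.2 • a' + s.2.1 • b + s.2.2 • b')).2
    ⟨fun s s' e => (key s _ rfl).symm.trans (key s' _ e), by simp [hc]⟩
  refine ⟨fun v => ?_, fun s => ⟨_, key s _ rfl⟩⟩
  obtain ⟨s, e⟩ := bj.2 v
  have := key s v e.symm
  rw [← this] at e
  exact e.symm

theorem half {H : Type*} [Group H] (alt : B.IsAlt) (ρ : H →* End F U) (hB : ∀ c u v, B (ρ c u) (ρ c v) = B u v)
    {a a' b b' : U} (h1 : B a a' = 1) (sp : ∀ v, v = B v a' • a + B a v • a' + B v b' • b + B b v • b')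
    (su : ∀ s : W, ∃ v, (B v a', B a v) = s)
    (k : ∀ c, (∀ u ∈ [a, a'], B (ρ c u) b' = 0 ∧ B b (ρ c u) = 0) ∧
      ∀ u ∈ [b, b'], B (ρ c u) a' = 0 ∧ B a (ρ c u) = 0) :
    ∃ r : H →* S2, ∀ c v, (B (ρ c v) a', B a (ρ c v)) = ac (r c) (B v a', B a v) := by
  have n : ∀ u v, B u v = -B v u := fun u v => (alt.neg_eq v u).symm
  let m : H → S2 := fun c => ⟨!![B (ρ c a) a', B (ρ c a') a'; B a (ρ c a), B a (ρ c a')], by
    have e := hB c a a'
    rw [sp (ρ c a), sp (ρ c a'), ((k c).1 a (by simp)).1, ((k c).1 a (by simp)).2, ((k c).1 a' (by simp)).1,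
      ((k c).1 a' (by simp)).2] at e
    simp only [zero_smul, add_zero, map_add, map_smul, LinearMap.add_apply, LinearMap.smul_apply, alt.self_eq_zero,
      h1, n a' a, smul_eq_mul] at e
    rw [Matrix.det_fin_two_of]
    linear_combination e⟩
  have hm : ∀ c v, (B (ρ c v) a', B a (ρ c v)) = ac (m c) (B v a', B a v) := fun c v => by
    nth_rw 1 [sp v]
    nth_rw 5 [sp v]
    simp only [map_add, map_smul, LinearMap.add_apply, LinearMap.smul_apply, ((k c).2 b (by simp)).1,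
      ((k c).2 b (by simp)).2, ((k c).2 b' (by simp)).1, ((k c).2 b' (by simp)).2, smul_eq_mul, ac, m]
    simp only [Matrix.of_apply, Matrix.cons_val', Matrix.cons_val_zero, Matrix.cons_val_one, Prod.mk.injEq]
    constructor <;> ring
  refine ⟨MonoidHom.mk' m fun c c' => ac_ext fun s => ?_, hm⟩
  obtain ⟨v, rfl⟩ := su s
  rw [ac_mul, ← hm, ← hm, ← hm, map_mul, End.mul_apply]

end

/-- an involution over `(-1, 1)` -/
theorem Hy.exists_t (h : Hy z C Q π) : ∃ t : C, π t = (-1, 1) ∧ t * t = 1 := by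
  obtain ⟨c, hc⟩ := h.sur (-1)
  refine ⟨c ^ 3, by rw [map_pow, hc]; decide, Subtype.ext ?_⟩
  rw [← pow_two, ← pow_mul, mul_comm, pow_mul]
  exact h.exp _ ((h.ker (c ^ 2)).1 (by rw [map_pow, hc]; decide))

theorem Hy.exists_cr (h : Hy z C Q π) : ∃ p ρ σ, Cr z C Q π p ρ σ := by
  have h0 := h.h0
  obtain ⟨U, _, _, p, B, R, d⟩ := h0.exists_vd
  obtain ⟨t, ht, t2⟩ := h.exists_t
  obtain ⟨T, hT⟩ : ∃ T, h0.ρ d t = T := ⟨_, rfl⟩
  have TT : ∀ v, T (T v) = v := fun v => by rw [← hT, ← End.mul_apply, ← map_mul, t2, map_one, End.one_apply]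
  have cT : ∀ c v, T (h0.ρ d c v) = h0.ρ d c (T v) := fun c v => by
    rw [← hT, ← End.mul_apply, ← End.mul_apply, ← map_mul, ← map_mul]
    exact LinearMap.congr_fun (h0.ρ_eq d (by rw [map_mul, map_mul, ht]; ext <;> simp)) v
  have BT : ∀ u v, B (T u) (T v) = B u v := hT ▸ h0.B_ρ d t
  have ort : ∀ u v, T u = -u → T v = v → B u v = 0 := fun u v e1 e2 => eq_zero_of_neg (V := F) (by
    have := BT u v
    rw [e1, e2, map_neg, LinearMap.neg_apply] at this
    exact this.symm)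
  have ort' : ∀ u v, T u = -u → T v = v → B v u = 0 := fun u v e1 e2 => by
    rw [← d.alt.neg_eq, ort u v e1 e2, neg_zero]
  have pr : ∀ (ε : F) (a : U), ε * ε = 1 → a ≠ 0 → T a = ε • a → ∃ a', T a' = ε • a' ∧ B a a' = 1 := by
    intro ε a e a0 ha
    obtain ⟨u, hu⟩ : ∃ u, B a u ≠ 0 := by_contra fun k => a0 (d.nd _ fun u => by_contra fun k' => k ⟨u, k'⟩)
    have e1 : B a (T u) = ε * B a u := by rw [← BT, TT, ha, map_smul, LinearMap.smul_apply, smul_eq_mul]
    refine ⟨(-(B a u)⁻¹) • (u + ε • T u), ?_, ?_⟩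
    · simp only [map_smul, map_add, TT, smul_add, smul_smul]
      rw [add_comm]
      congr 2
      · ring
      · rw [mul_comm ε, mul_assoc, e, mul_one]
    · simp only [map_smul, map_add, e1, smul_eq_mul]
      rw [← mul_assoc ε, e, one_mul, ← two_mul, show (2 : F) = -1 from rfl]
      simp [hu]
  obtain ⟨a, a0, ha⟩ : ∃ a, a ≠ 0 ∧ T a = (-1 : F) • a := by
    by_contra! k
    have k1 : ∀ v, T v = v := fun v => sub_eq_zero.1 (by_contra fun e => k _ e (by rw [map_sub, TT]; simp))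
    have k2 := h.cen t fun q hq => by
      have m := (mem_normalizer_iff.1 (h0.CN t.2) q).1 hq
      obtain ⟨i, hi⟩ := (mem_zp3 h.oz).1 ((d.zero _ (mul_mem m (inv_mem hq))).1 (by
        rw [← d.sub (h0.CN t.2) hq, LinearMap.sub_apply, sub_eq_zero]
        exact (LinearMap.congr_fun hT _).trans (k1 _)))
      have c : Commute t.1 (z ^ i.val) := Commute.pow_right ((h.memC _).1 t.2) _
      have t2' : t.1 * t.1 = 1 := congrArg Subtype.val t2
      have e1 : t * q * t.1⁻¹ = z ^ i.val * q := by rw [← hi]; group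
      have e2 : q = z ^ (i + i).val * q := by
        calc q = t * (t * q * t.1⁻¹) * t.1⁻¹ := by
              rw [← mul_assoc, ← mul_assoc, t2', mul_assoc _ _ t.1⁻¹, ← mul_inv_rev, t2']; group
          _ = _ := by rw [e1, ← mul_assoc, c.eq, mul_assoc _ t.1, mul_assoc (z ^ _), e1, pow_val_add h0.z3, mul_assoc]
      have e3 := (pow_val_eq_one h.oz).1 (by simpa using e2.symm)
      rw [eq_zero_of_neg (V := F) (eq_neg_of_add_eq_zero_left e3)] at e1
      simpa [mul_inv_eq_iff_eq_mul] using e1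
    exact absurd (ht.symm.trans ((h.ker t).2 (h0.zle k2))) (by decide)
  obtain ⟨b, b0, hb⟩ : ∃ b, b ≠ 0 ∧ T b = (1 : F) • b := by
    obtain ⟨q, hq, q1, q2⟩ := h.fix t ht
    refine ⟨p q, fun e => q1 ((d.zero q hq).1 e), ?_⟩
    have := (d.zero _ (h0.zle q2)).2 q2
    rw [← d.sub (h0.CN t.2) hq, LinearMap.sub_apply, sub_eq_zero] at this
    rw [one_smul, ← hT]
    exact this
  obtain ⟨a', ha', h1⟩ := pr _ a (by decide) a0 ha
  obtain ⟨b', hb', h2⟩ := pr _ b (by decide) b0 hb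
  simp only [neg_smul, one_smul] at ha ha' hb hb'
  obtain ⟨sp, su⟩ := basis4 d.alt d.card h1 h2 (ort _ _ ha hb) (ort _ _ ha hb') (ort _ _ ha' hb) (ort _ _ ha' hb')
  have k1 : ∀ c, ∀ u ∈ [a, a'], B (h0.ρ d c u) b' = 0 ∧ B b (h0.ρ d c u) = 0 := fun c u hu => by
    have : T (h0.ρ d c u) = -h0.ρ d c u := by
      rw [cT, ← map_neg]; congr 1; simp only [List.mem_cons, List.not_mem_nil, or_false] at hu
      rcases hu with rfl | rfl <;> assumption
    exact ⟨ort _ _ this hb', ort' _ _ this hb⟩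
  have k2 : ∀ c, ∀ u ∈ [b, b'], B (h0.ρ d c u) a' = 0 ∧ B a (h0.ρ d c u) = 0 := fun c u hu => by
    have : T (h0.ρ d c u) = h0.ρ d c u := by
      rw [cT]; congr 1; simp only [List.mem_cons, List.not_mem_nil, or_false] at hu
      rcases hu with rfl | rfl <;> assumption
    exact ⟨ort' _ _ ha' this, ort _ _ ha this⟩
  obtain ⟨ρ, hρ⟩ := half d.alt (h0.ρ d) (h0.B_ρ d) h1 sp (fun s => (su (s, 0)).imp fun _ e => congrArg Prod.fst e)
    fun c => ⟨k1 c, k2 c⟩
  obtain ⟨σ, hσ⟩ := half d.alt (h0.ρ d) (h0.B_ρ d) h2 (b := a) (b' := a') (fun v => (sp v).trans (by abel))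
    (fun s => (su (0, s)).imp fun _ e => congrArg Prod.snd e) fun c => ⟨k2 c, k1 c⟩
  have n : ∀ u v, B u v = -B v u := fun u v => (d.alt.neg_eq v u).symm
  refine ⟨fun g => ((B (p g) a', B a (p g)), (B (p g) b', B b (p g))), ρ, σ, fun x hx y hy => by simp [d.mul x hx y hy],
    fun s => ?_, fun x hx => ?_, fun x hx y hy => ?_, fun c x hx => ?_, fun c hc => ?_⟩
  · obtain ⟨v, e⟩ := su s
    obtain ⟨x, hx, rfl⟩ := d.sur v
    exact ⟨x, hx, e⟩
  · rw [← d.zero x hx]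
    refine ⟨fun e => ?_, fun e => by simp [e]⟩
    simp only [Prod.mk_eq_zero] at e
    rw [sp (p x), e.1.1, e.1.2, e.2.1, e.2.2]; simp
  · rw [d.comm x hx y hy]
    congr 2
    nth_rw 1 [sp (p x)]
    simp only [map_add, map_smul, LinearMap.add_apply, LinearMap.smul_apply, smul_eq_mul, ω, n a' (p y), n b' (p y)]
    ring
  · rw [← d.act _ (h0.CN c.2) _ hx, ← hρ, ← hσ]; rfl
  · have e : h0.ρ d c = T := hT ▸ h0.ρ_eq d (hc.trans ht.symm)
    refine ⟨ac_ext fun s => ?_, ac_ext fun s => ?_⟩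
    · obtain ⟨v, e1⟩ := su (s, 0)
      obtain rfl : (B v a', B a v) = s := congrArg Prod.fst e1
      rw [← hρ, e, ← BT, TT, ha', ← BT a, TT, ha]
      simp [ac]
    · obtain ⟨v, e1⟩ := su (0, s)
      obtain rfl : (B v b', B b v) = s := congrArg Prod.snd e1
      rw [← hσ, e, ← BT, TT, hb', ← BT b, TT, hb, ac_one]

end Cfsg.Agent.O83
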