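import Cfsg.Agent.O83.Ee2

/-! Project O83, section Ee: calculus in `C`, and conjugates of `z` in `Q`. -/

set_option autoImplicit false
set_option synthInstance.maxSize 4096
set_option maxRecDepth 100000

namespace Cfsg.Agent.O83

open Subgroup
open L43 (mem_zp3 pow_val_add pow_val_eq_one pow_val_neg pow_val_inj mem_of_pow_val)

universe u

variable {G : Type u} [Group G] {z : G} {C Q : Subgroup G} {π : C →* S2 × M2} {p : G → W × W} {ρ σ : C →* S2}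

theorem s2_w : ∀ X : S2, X * X * X = 1 → ∀ u : W, ω u (ac X u - u) = 0 → ac X u - u = 0 := by decide +kernel

theorem dih3 {t t' : G} (h1 : t * t = 1) (h2 : t' * t' = 1) (h3 : (t' * t) ^ 3 = 1) :
    (t' * t) ^ 2 * t * ((t' * t) ^ 2)⁻¹ = t' := by
  have i1 : t⁻¹ = t := inv_eq_of_mul_eq_one_right h1
  have i2 : t'⁻¹ = t' := inv_eq_of_mul_eq_one_right h2
  calc (t' * t) ^ 2 * t * ((t' * t) ^ 2)⁻¹ = (t' * t) ^ 3 * (t' * (t * t)) := by
        simp only [pow_succ, pow_zero, one_mul, mul_inv_rev, i1, i2, mul_assoc]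
        simp only [← mul_assoc t t, h1, one_mul, mul_one]
    _ = t' := by rw [h3, h1, one_mul, mul_one]

theorem H0.conj_mem (h : H0 z C Q π) {c a : G} (hc : c ∈ C) (ha : a ∈ Q) : c * a * c⁻¹ ∈ Q :=
  (mem_normalizer_iff.1 (h.CN hc) a).1 ha

theorem H0.cz (h : H0 z C Q π) {c : G} (hc : c ∈ C) (k : ℕ) : c * z ^ k = z ^ k * c :=
  (Commute.pow_right ((h.memC c).1 hc) k).eq

theorem H0.mem_Q (h : H0 z C Q π) {a b : C} (e : π a = π b) : a.1⁻¹ * b ∈ Q :=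
  (h.ker (a⁻¹ * b)).1 (by rw [map_mul, map_inv, e, inv_mul_cancel])

/-- move an element into the centraliser of an involution -/
theorem H0.exists_comm (h : H0 z C Q π) {t : C} (t2 : t * t = 1) (c : C) (hc : π c * π t = π t * π c) :
    ∃ c' : C, π c' = π c ∧ c' * t = t * c' := by
  have m : π (c * t * c⁻¹ * t) = 1 := by
    rw [map_mul, map_mul, map_mul, hc, map_inv, mul_inv_cancel_right, ← map_mul, t2, map_one]
  have e := dih3 t2 (t' := c * t * c⁻¹) (by rw [show c * t * c⁻¹ * (c * t * c⁻¹) = c * (t * t) * c⁻¹ by group, t2]; group)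
    (Subtype.ext (h.exp _ ((h.ker _).1 m)))
  refine ⟨((c * t * c⁻¹ * t) ^ 2)⁻¹ * c, by rw [map_mul, map_inv, map_pow, m, one_pow, inv_one, one_mul], ?_⟩
  generalize (c * t * c⁻¹ * t) ^ 2 = y at e
  calc y⁻¹ * c * t = y⁻¹ * (c * t * c⁻¹) * c := by group
    _ = _ := by rw [← e]; group

namespace Cr

variable (d : Cr z C Q π p ρ σ)
include d

theorem one : p 1 = 0 := (d.zero 1 (one_mem _)).2 (one_mem _)

theorem inv {a : G} (ha : a ∈ Q) : p a⁻¹ = -p a :=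
  eq_neg_of_add_eq_zero_left (by rw [← d.mul _ (inv_mem ha) _ ha, inv_mul_cancel, d.one])

theorem pow {a : G} (ha : a ∈ Q) (n : ℕ) : p (a ^ n) = (n : F) • p a := by
  induction n with
  | zero => simp [d.one]
  | succ n ih => rw [pow_succ, d.mul _ (pow_mem ha n) _ ha, ih, Nat.cast_succ, add_smul, one_smul]

theorem pow_val {a : G} (ha : a ∈ Q) (k : F) : p (a ^ k.val) = k • p a := by rw [d.pow ha, ZMod.natCast_zmod_val]

variable (h : H0 z C Q π)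
include h

theorem eq_of {a b : G} (ha : a ∈ Q) (hb : b ∈ Q) (e : p a = p b) : ∃ k : F, a = z ^ k.val * b := by
  obtain ⟨k, hk⟩ := (mem_zp3 h.oz).1 ((d.zero _ (mul_mem ha (inv_mem hb))).1 (by
    rw [d.mul _ ha _ (inv_mem hb), d.inv hb, e, add_neg_cancel]))
  exact ⟨k, by rw [← hk, inv_mul_cancel_right]⟩

theorem comm_iff {a b : G} (ha : a ∈ Q) (hb : b ∈ Q) :
    a * b = b * a ↔ ω (p a).1 (p b).1 + ω (p a).2 (p b).2 = 0 := by
  rw [← pow_val_eq_one h.oz, ← d.comm a ha b hb, mul_inv_eq_one, mul_inv_eq_iff_eq_mul]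

theorem ρ_Q {c : C} (hc : c.1 ∈ Q) : ρ c = 1 ∧ σ c = 1 := by
  have k : ∀ s, (ac (ρ c) s.1, ac (σ c) s.2) = s := fun s => by
    obtain ⟨a, ha, rfl⟩ := d.sur s
    have m := h.comm c hc a ha
    have e := (d.zero _ (h.zle m)).2 m
    rw [d.mul _ (h.conj_mem c.2 ha) _ (inv_mem ha), d.inv ha, add_neg_eq_zero] at e
    rw [← d.act c a ha, e]
  exact ⟨ac_ext fun s => by rw [ac_one]; exact congrArg Prod.fst (k (s, 0)),
    ac_ext fun s => by rw [ac_one]; exact congrArg Prod.snd (k (0, s))⟩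

theorem ρ_eq {a b : C} (e : π a = π b) : ρ a = ρ b ∧ σ a = σ b := by
  obtain ⟨e1, e2⟩ := d.ρ_Q h (c := a⁻¹ * b) (h.mem_Q e)
  rw [map_mul, map_inv, inv_mul_eq_one] at e1 e2
  exact ⟨e1, e2⟩

theorem ρ_cube {c : C} (e : c.1 ^ 3 = 1) : ρ c * ρ c * ρ c = 1 ∧ σ c * σ c * σ c = 1 := by
  rw [← pow_three', ← pow_three', ← map_pow, ← map_pow, show c ^ 3 = 1 from Subtype.ext e, map_one, map_one]
  exact ⟨rfl, rfl⟩

/-- `C / Q` acts faithfully on `Q / Z` -/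
theorem faith {c : C} (h1 : ρ c = 1) (h2 : σ c = 1) : c.1 ∈ Q := by
  have k : ∀ s, ∃ a ∈ Q, p a = s ∧ ∃ k : F, c * a * c.1⁻¹ = z ^ k.val * a := fun s => by
    obtain ⟨a, ha, e⟩ := d.sur s
    exact ⟨a, ha, e, d.eq_of h (h.conj_mem c.2 ha) ha (by rw [d.act c a ha, h1, h2, ac_one, ac_one])⟩
  obtain ⟨a1, m1, p1, k1, e1⟩ := k ((1, 0), 0)
  obtain ⟨a2, m2, p2, k2, e2⟩ := k ((0, 1), 0)
  obtain ⟨a3, m3, p3, k3, e3⟩ := k (0, (1, 0))
  obtain ⟨a4, m4, p4, k4, e4⟩ := k (0, (0, 1))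
  obtain ⟨q, hq, pq⟩ := d.sur ((k2, -k1), (k4, -k3))
  have key : ∀ a ∈ Q, ∀ k : F, c * a * c.1⁻¹ = z ^ k.val * a → ω (p q).1 (p a).1 + ω (p q).2 (p a).2 = k →
      Commute (q⁻¹ * c) a := fun a ha k e1 e2 => by
    have e3 := d.comm q hq a ha
    rw [e2, mul_inv_eq_iff_eq_mul, ← e1] at e3
    calc q⁻¹ * c * a = q⁻¹ * (c * a * c.1⁻¹) * c := by group
      _ = _ := by rw [← e3]; group
  have c1 := key a1 m1 k1 e1 (by simp [pq, p1, ω])
  have c2 := key a2 m2 k2 e2 (by simp [pq, p2, ω])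
  have c3 := key a3 m3 k3 e3 (by simp [pq, p3, ω])
  have c4 := key a4 m4 k4 e4 (by simp [pq, p4, ω])
  have := h.zle (h.cen (q⁻¹ * c) fun a ha => by
    have n1 := pow_mem m1 (p a).1.1.val
    have n2 := pow_mem m2 (p a).1.2.val
    have n3 := pow_mem m3 (p a).2.1.val
    have n4 := pow_mem m4 (p a).2.2.val
    obtain ⟨k, e⟩ := d.eq_of h ha (mul_mem (mul_mem (mul_mem n1 n2) n3) n4) (by
      rw [d.mul _ (mul_mem (mul_mem n1 n2) n3) _ n4, d.mul _ (mul_mem n1 n2) _ n3, d.mul _ n1 _ n2, d.pow_val m1,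
        d.pow_val m2, d.pow_val m3, d.pow_val m4, p1, p2, p3, p4]
      simp)
    rw [e]
    exact (Commute.mul_right (h.cz (mul_mem (inv_mem (h.QC hq)) c.2) _) ((((c1.pow_right _).mul_right
      (c2.pow_right _)).mul_right (c3.pow_right _)).mul_right (c4.pow_right _))).eq)
  simpa using mul_mem hq this

/-- conjugates of `z` in `Q` -/
theorem pair {g : G} (hg : g * z * g⁻¹ ∈ Q) (hz : g * z * g⁻¹ ∉ zpowers z) :
    g⁻¹ * z * g ∈ Q ∧ (p (g * z * g⁻¹)).1 ≠ 0 ∧ (p (g * z * g⁻¹)).2 ≠ 0 ∧ ∃ x : C, ∃ e ∈ Q, ∃ k : F,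
      x.1 ∉ Q ∧ (∀ j, g⁻¹ * (x * e ^ j) * g ∈ Q) ∧ k ≠ 0 ∧
      (ac (ρ x) (p e).1 - (p e).1, ac (σ x) (p e).2 - (p e).2) = k • p (g * z * g⁻¹) ∧
      ω (p e).1 (p (g * z * g⁻¹)).1 + ω (p e).2 (p (g * z * g⁻¹)).2 = 0 := by
  obtain ⟨C', Q', π', h', m⟩ := h.conj g
  obtain ⟨x, hx, xQ, e, he, ne⟩ := h.exists_x h' hg hz
  obtain ⟨k, hk⟩ := (mem_zp3 h'.oz).1 (h'.comm x hx.1 e he.2)
  have k0 : k ≠ 0 := fun k0 => ne (by
    rwa [k0, ZMod.val_zero, pow_zero, mul_inv_eq_one, mul_inv_eq_iff_eq_mul] at hk)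
  have e1 := d.pow_val hg k
  rw [← hk, d.mul _ (h.conj_mem hx.2 he.1) _ (inv_mem he.1), d.inv he.1, d.act ⟨x, hx.2⟩ e he.1,
    ← sub_eq_add_neg] at e1
  have e2 := (d.comm_iff h he.1 hg).1 (h'.zc he.2)
  obtain ⟨c1, c2⟩ := d.ρ_cube h (c := ⟨x, hx.2⟩) (h'.exp x hx.1)
  have w0 : p (g * z * g⁻¹) ≠ 0 := fun k => hz ((d.zero _ hg).1 k)
  have l : ∀ {X u w}, X * X * X = 1 → ac X u - u = k • w → ω u w = 0 → w = 0 := fun {X u w} c e1 e2 =>
    (smul_eq_zero.1 (e1 ▸ s2_w X c u (by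
      rw [e1]; simp only [ω, Prod.smul_fst, Prod.smul_snd, smul_eq_mul] at e2 ⊢
      linear_combination k * e2))).resolve_left k0
  refine ⟨(m z).1 (h.sym h' hg hz), fun w1 => w0 (Prod.ext w1 (l c2 (congrArg Prod.snd e1) ?_)),
    fun w2 => w0 (Prod.ext (l c1 (congrArg Prod.fst e1) ?_) w2), ⟨x, hx.2⟩, e, he.1, k, xQ,
    fun j => (m _).1 (mul_mem hx.1 (pow_mem he.2 j)), k0, e1, e2⟩
  · simpa [w1, ω] using e2
  · simpa [w2, ω] using e2

end Cr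

end Cfsg.Agent.O83
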