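import Cfsg.Agent.O83.Ee3

/-! Project O83, section Ee: generators and relations in `C`. -/

set_option autoImplicit false
set_option synthInstance.maxSize 4096
set_option maxRecDepth 100000

namespace Cfsg.Agent.O83

open Subgroup
open L43 (mem_zp3 pow_val_add pow_val_eq_one pow_val_neg pow_val_inj mem_of_pow_val)

universe u

variable {G : Type u} [Group G] {z : G} {C Q : Subgroup G} {π : C →* S2 × M2} {p : G → W × W} {ρ σ : C →* S2}

/-- generators and relations -/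
structure Dt (z : G) (C Q : Subgroup G) (π : C →* S2 × M2) (t x i : C) (d b β τ : G) : Prop where
  πt : π t = (-1, 1)
  t2 : t * t = 1
  xQ : x.1 ∉ Q
  x3 : x.1 ^ 3 = 1
  xt : x * t = t * x
  dQ : d ∈ Q
  bQ : b ∈ Q
  βQ : β ∈ Q
  τQ : τ ∈ Q
  xd : x * d = d * x
  xβ : x * β = β * x
  dβ : d * β = β * d
  td : t * d * t.1⁻¹ = d⁻¹
  tβ : t * β = β * t
  tτ : t * τ = τ * t
  tb : t * b * t.1⁻¹ = b⁻¹
  bd : b * d * b⁻¹ = d * z
  bβ : b * β = β * b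
  bx : b * x * b⁻¹ = x * d⁻¹ * z
  τd : τ * d = d * τ
  τx : τ * x * τ⁻¹ = x * β
  τβ : τ * β * τ⁻¹ = β * z
  ii : i * i = t
  πi : (π i).2 = 1
  id : i * d * i.1⁻¹ = b

theorem s2_fix : ∀ X : S2, X * X * X = 1 → ∀ u : W, ac X u - u ≠ 0 → ac X (ac X u - u) = ac X u - u ∧
    ω u (ac X u - u) ≠ 0 ∧ ∀ v, (ac X v = v ↔ ω v (ac X u - u) = 0) := by decide +kernel

theorem w_dep : ∀ a : W, a ≠ 0 → ∀ v, ω v a = 0 → ∃ k : F, v = k • a := by decide +kernel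

theorem s2_sgn : ∀ X : S2, X * X * X = 1 → ∀ u : W, ac X u - u ≠ 0 →
    ω (-u) (ac X⁻¹ (-u) - -u) = 1 ∧ ω u (ac X u - u) = -1 ∨
      ω (-u) (ac X⁻¹⁻¹ (-u) - -u) = 1 ∧ ω u (ac X⁻¹ u - u) = -1 := by decide +kernel

theorem s2_inv : ∀ X : S2, X * X * X = 1 → ∀ u : W, ω u (ac X⁻¹ u - u) = -ω u (ac X u - u) := by decide +kernel

theorem s2_eta : ∀ X : S2, X * X * X = 1 → ∀ u : W, ω u (ac X u - u) = 1 → ∀ a : W, ac X a = a → ∀ b : W,
    ω b a = 1 → ac X⁻¹ b - b = -a := by decide +kernel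

theorem s2_i : ∀ I : S2, I * I = -1 → ∀ v : W, v ≠ 0 → ω (ac I v) v = 1 ∨ ω (ac (I * -1) v) v = 1 := by
  decide +kernel

theorem ω_smul (c : F) (u v : W) : ω (c • u) v = c * ω u v := by
  simp only [ω, Prod.smul_fst, Prod.smul_snd, smul_eq_mul]; ring

theorem ac_neg (v : W) : ac (-1) v = -v := by revert v; decide +kernel
theorem ac_zero (X : S2) : ac X 0 = 0 := by simp [ac]

/-- an element of order four -/
def I0 : S2 := ⟨!![0, -1; 1, 0], by decide⟩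

theorem Hy.exists_i (h : Hy z C Q π) {t : C} (ht : π t = (-1, 1)) (t2 : t * t = 1) :
    ∃ i : C, i * i = t ∧ (π i).2 = 1 := by
  obtain ⟨c, hc⟩ := h.sur I0
  obtain ⟨c, e, k⟩ := h.h0.exists_comm t2 c (by rw [hc, ht]; decide)
  rw [hc] at e
  have m := h.h0.mem_Q (a := t) (b := c * c) (by rw [map_mul, e, ht]; decide)
  have k2 : Commute t (t⁻¹ * (c * c)) :=
    (Commute.refl t).inv_right.mul_right ((Commute.symm k).mul_right (Commute.symm k))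
  refine ⟨c ^ 3, ?_, by rw [map_pow, e]; decide⟩
  rw [← pow_two, ← pow_mul, mul_comm, pow_mul, pow_two, ← mul_inv_cancel_left t (c * c), k2.mul_pow,
    show (t⁻¹ * (c * c)) ^ 3 = 1 from Subtype.ext (h.exp _ m), mul_one, pow_three, t2, mul_one]

namespace Cr

variable (d : Cr z C Q π p ρ σ) (h : Hy z C Q π)
include d h

theorem step {t x : C} (ht : π t = (-1, 1)) (t2 : t * t = 1) (xQ : x.1 ∉ Q) (x3 : x.1 ^ 3 = 1) (xt : x * t = t * x)
    {a τ : G} (aQ : a ∈ Q) (ta : t * a * t.1⁻¹ = a⁻¹) (a1 : (p a).1 ≠ 0) (a2 : (p a).2 = 0) (τQ : τ ∈ Q)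
    (tτ : t * τ = τ * t) (τ1 : (p τ).1 = 0) (θ : ω (p τ).2 (ac (σ x)⁻¹ (p τ).2 - (p τ).2) = 1)
    (hx : ∀ q ∈ Q, ac (σ x) (p q).2 = (p q).2 → ac (ρ x) (p q).1 = (p q).1 → x * q = q * x)
    (xa : ac (ρ x) (p a).1 = (p a).1) {u : W} (η : ω u (ac (ρ x) u - u) = 1) :
    ∃ i b, Dt z C Q π t x i a b (x.1⁻¹ * τ * x * τ⁻¹) τ := by
  have h0 := h.h0
  obtain ⟨c1, c2⟩ := d.ρ_cube h0 x3
  have xτ := h0.conj_mem (inv_mem x.2) τQ
  rw [inv_inv] at xτ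
  have βQ := mul_mem xτ (inv_mem τQ)
  have pc : ∀ q ∈ Q, p (x.1⁻¹ * q * x * q⁻¹) = (ac (ρ x)⁻¹ (p q).1 - (p q).1, ac (σ x)⁻¹ (p q).2 - (p q).2) := by
    intro q hq
    have e := d.act x⁻¹ q hq
    have m := h0.conj_mem (inv_mem x.2) hq
    rw [coe_inv, inv_inv] at e
    rw [inv_inv] at m
    rw [d.mul _ m _ (inv_mem hq), e, d.inv hq, map_inv, map_inv, ← sub_eq_add_neg]; rfl
  have pβ := pc τ τQ
  rw [τ1, ac_zero, sub_zero] at pβ
  obtain ⟨i, ii, πi, hi⟩ : ∃ i : C, i * i = t ∧ (π i).2 = 1 ∧ ω (ac (ρ i) (p a).1) (p a).1 = 1 := by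
    obtain ⟨i, ii, πi⟩ := h.exists_i ht t2
    rcases s2_i (ρ i) (by rw [← map_mul, ii, (d.neg t ht).1]) _ a1 with k | k
    · exact ⟨i, ii, πi, k⟩
    · refine ⟨i * t, ?_, by rw [map_mul, Prod.snd_mul, πi, ht]; rfl, by rwa [map_mul, (d.neg t ht).1]⟩
      rw [← ii, show i * (i * i) * (i * (i * i)) = i * i * (i * i) * (i * i) by group, ii, t2, one_mul]
  have bQ := h0.conj_mem i.2 aQ
  have pb := d.act i a aQ
  rw [a2, ac_zero] at pb
  have it : Commute t.1 i.1 := by rw [← ii]; exact (Commute.refl i.1).mul_left (Commute.refl _)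
  have tb : t * (i * a * i.1⁻¹) * t.1⁻¹ = (i * a * i.1⁻¹)⁻¹ := by
    rw [conj_inv, ← ta]
    calc _ = t.1 * i * a * (t.1 * i)⁻¹ := by group
      _ = _ := by rw [it.eq]; group
  have bd : i * a * i.1⁻¹ * a * (i * a * i.1⁻¹)⁻¹ = a * z := by
    have e := d.comm _ bQ a aQ
    rw [pb, hi, a2, show ω 0 0 = 0 from rfl, add_zero, ZMod.val_one, pow_one, mul_inv_eq_iff_eq_mul] at e
    rw [e, h0.zc aQ]
  generalize hb : i * a * i.1⁻¹ = b at *
  have xt' : Commute x.1 t.1 := congrArg Subtype.val xt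
  have xa' := hx a aQ (by rw [a2, ac_zero]) xa
  refine ⟨i, b, ht, t2, xQ, x3, xt, aQ, bQ, βQ, τQ, xa', hx _ βQ ?_ (by rw [pβ, ac_zero]),
    (d.comm_iff h0 aQ βQ).2 (by simp [pβ, a2, ω]), ta, ?_, tτ, tb, bd, (d.comm_iff h0 bQ βQ).2 (by simp [pβ, pb, ω]), ?_,
    (d.comm_iff h0 τQ aQ).2 (by simp [τ1, a2, ω]), by group, ?_, ii, πi, hb⟩
  · rw [pβ]
    revert c2
    generalize σ x = X
    generalize (p τ).2 = v
    revert X v
    decide +kernel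
  · exact (((xt'.symm.inv_right.mul_right tτ).mul_right xt'.symm).mul_right (Commute.inv_right tτ)).eq
  · have m := mul_mem (h0.conj_mem (inv_mem x.2) bQ) (inv_mem bQ)
    rw [inv_inv] at m
    obtain ⟨k, e⟩ := d.eq_of h0 m (inv_mem aQ) (by
      rw [pc b bQ, d.inv aQ, pb, s2_eta _ c1 u η _ xa _ hi, ac_zero, sub_zero]
      exact Prod.ext rfl (by rw [Prod.snd_neg, a2, neg_zero]))
    have e1 : b * x * b⁻¹ = x * z ^ k.val * a⁻¹ := by rw [mul_assoc _ (z ^ _), ← e]; group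
    have e2 : b⁻¹ * x * b = x * z ^ k.val * a := by
      have := congrArg (fun g => t.1 * g * t.1⁻¹) e1
      have tb' : t * b⁻¹ * t.1⁻¹ = b := by rw [← conj_inv, tb, inv_inv]
      have ta' : t * a⁻¹ * t.1⁻¹ = a := by rw [← conj_inv, ta, inv_inv]
      simpa only [← conj_mul, tb, tb', ta', ← xt'.eq, h0.cz t.2, mul_inv_cancel_right] using this
    have e3 : x.1 = x * z ^ (k + k + 1).val := by
      calc x.1 = b * (x * z ^ k.val * a) * b⁻¹ := by rw [← e2]; group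
        _ = b * x * b⁻¹ * (b * z ^ k.val * b⁻¹) * (b * a * b⁻¹) := by group
        _ = _ := by
          rw [e1, bd, h0.cz (h0.QC bQ), mul_inv_cancel_right, mul_assoc _ a⁻¹, h0.cz (h0.QC (inv_mem aQ)),
            pow_val_add h0.z3, pow_val_add h0.z3, ZMod.val_one, pow_one]
          group
    obtain rfl : k = 1 := (by decide : ∀ k : F, k + k + 1 = 0 → k = 1) k
      ((pow_val_eq_one h.oz).1 (by simpa using e3.symm))
    rw [e1, ZMod.val_one, pow_one, mul_assoc, mul_assoc, h0.zc (inv_mem aQ)]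
  · have e := d.comm _ τQ _ βQ
    rw [pβ, θ, τ1, show ω 0 0 = 0 from rfl, zero_add, ZMod.val_one, pow_one, mul_inv_eq_iff_eq_mul] at e
    rw [e, h0.zc βQ]

theorem exists_dt {g : G} (hg : g * z * g⁻¹ ∈ Q) (hz : g * z * g⁻¹ ∉ zpowers z) :
    ∃ t x i a b β τ, Dt z C Q π t x i a b β τ ∧ g * z * g⁻¹ * a = a * (g * z * g⁻¹) ∧
      g * z * g⁻¹ * β = β * (g * z * g⁻¹) ∧ ∃ y ∈ C, g⁻¹ * y * g ∈ Q ∧ y ∉ Q ∧ y * x = x * y ∧ y * a = a * y ∧
        y * β = β * y := by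
  have h0 := h.h0
  obtain ⟨-, w1, w2, x, e, eQ, k, xQ, xe, k0, e1, e2⟩ := d.pair h0 hg hz
  have q3 : ∀ y, g⁻¹ * y * g ∈ Q → y ^ 3 = 1 ∧ y * (g * z * g⁻¹) = g * z * g⁻¹ * y := fun y hy => by
    have k1 := h.exp _ hy
    rw [show g⁻¹ * y * g = g⁻¹ * y * g⁻¹⁻¹ by rw [inv_inv], conj_pow, conj_eq_one_iff] at k1
    refine ⟨k1, ?_⟩
    calc _ = g * (g⁻¹ * y * g * z) * g⁻¹ := by group
      _ = _ := by rw [h0.zc hy]; group
  generalize g * z * g⁻¹ = z' at *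
  obtain ⟨c1, c2⟩ := d.ρ_cube h0 (c := x) (by simpa using (q3 _ (xe 0)).1)
  have f1 : ac (ρ x) (p e).1 - (p e).1 = k • (p z').1 := congrArg Prod.fst e1
  have f2 : ac (σ x) (p e).2 - (p e).2 = k • (p z').2 := congrArg Prod.snd e1
  have n1 := f1 ▸ smul_ne_zero k0 w1
  have n2 := f2 ▸ smul_ne_zero k0 w2
  obtain ⟨g1, g2, g3⟩ := s2_fix _ c1 _ n1
  obtain ⟨-, -, g4⟩ := s2_fix _ c2 _ n2
  obtain ⟨t, ht, t2⟩ := h.exists_t
  have t2' : t.1 * t.1 = 1 := congrArg Subtype.val t2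
  have tt : ∀ y : G, t * (t * y * t.1⁻¹) * t.1⁻¹ = y := fun y => by
    rw [← mul_assoc, ← mul_assoc, t2', mul_assoc _ _ t.1⁻¹, ← mul_inv_rev, t2']; group
  have pt : ∀ q ∈ Q, p (t * q * t.1⁻¹) = (-(p q).1, (p q).2) := fun q hq => by
    rw [d.act t q hq, (d.neg t ht).1, (d.neg t ht).2, ac_one, ac_neg]
  obtain ⟨a, aQ, ta, pa⟩ : ∃ a ∈ Q, t * a * t.1⁻¹ = a⁻¹ ∧ p a = (ac (ρ x) (p e).1 - (p e).1, 0) := by
    obtain ⟨a, aQ, pa⟩ := d.sur (-(ac (ρ x) (p e).1 - (p e).1), 0)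
    have m := h0.conj_mem t.2 aQ
    refine ⟨a * (t * a * t.1⁻¹)⁻¹, mul_mem aQ (inv_mem m), by rw [← conj_mul, conj_inv, tt]; group, ?_⟩
    rw [d.mul _ aQ _ (inv_mem m), d.inv m, pt a aQ, pa]
    generalize ac (ρ x) (p e).1 - (p e).1 = v
    revert v; decide +kernel
  obtain ⟨τ, τQ, tτ, pτ⟩ : ∃ τ ∈ Q, t * τ = τ * t ∧ p τ = (0, -(p e).2) := by
    obtain ⟨a, aQ, pa⟩ := d.sur (0, (p e).2)
    have m := h0.conj_mem t.2 aQ
    refine ⟨a * (t * a * t.1⁻¹), mul_mem aQ m, ?_, ?_⟩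
    · rw [← mul_inv_eq_iff_eq_mul, ← conj_mul, tt, (d.comm_iff h0 aQ m).2 (by simp [pt a aQ, pa, ω, mul_comm])]
    · rw [d.mul _ aQ _ m, pt a aQ, pa]
      generalize (p e).2 = v
      revert v; decide +kernel
  obtain ⟨y, πy, yQ, ya⟩ : ∃ y : C, π y = π x ∧ g⁻¹ * y * g ∈ Q ∧ y * a = a * y := by
    obtain ⟨m, hm⟩ := d.eq_of h0 (h0.conj_mem x.2 aQ) aQ (by rw [d.act x a aQ, pa, g1, ac_zero])
    have e3 := d.comm _ (pow_mem eQ (-m / ω (p e).1 (p a).1).val) a aQ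
    rw [d.pow_val eQ, pa] at e3
    refine ⟨x * ⟨e, h0.QC eQ⟩ ^ _, by rw [map_mul, map_pow, (h.ker ⟨e, _⟩).2 eQ, one_pow, mul_one],
      xe (-m / ω (p e).1 (p a).1).val, ?_⟩
    rw [coe_mul, coe_pow, pa]
    generalize e ^ _ = f at e3 ⊢
    have e4 : ω ((-m / ω (p e).1 (ac (ρ x) (p e).1 - (p e).1)) • p e).1 (ac (ρ x) (p e).1 - (p e).1) +
        ω ((-m / ω (p e).1 (ac (ρ x) (p e).1 - (p e).1)) • p e).2 0 = -m := by
      rw [Prod.smul_fst, ω_smul, div_mul_cancel₀ _ g2]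
      simp [ω]
    rw [e4, pow_val_neg h0.z3, mul_inv_eq_iff_eq_mul] at e3
    calc x * f * a = x * (f * a * f⁻¹) * x.1⁻¹ * (x * f) := by group
      _ = _ := by
        rw [e3, ← conj_mul, hm, ← conj_inv, h0.cz x.2, mul_inv_cancel_right, inv_mul_cancel_left]
  obtain ⟨r1, r2⟩ := d.ρ_eq h0 πy
  have J0 : ∀ s : G, s * z = z * s → s * a = a * s → s * z' = z' * s → ∀ q ∈ Q, ac (σ x) (p q).2 = (p q).2 →
      ac (ρ x) (p q).1 = (p q).1 → s * q = q * s := fun s s1 s2 s3 q hq k2 k1 => by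
    obtain ⟨j, hj⟩ := w_dep _ n2 _ ((g4 _).1 k2)
    obtain ⟨l, hl⟩ := w_dep _ n1 _ ((g3 _).1 k1)
    obtain ⟨m, e3⟩ := d.eq_of h0 hq (mul_mem (pow_mem aQ (l - j).val) (pow_mem hg (j * k).val)) (by
      rw [d.mul _ (pow_mem aQ _) _ (pow_mem hg _), d.pow_val aQ, d.pow_val hg, mul_smul, ← e1, pa]
      refine Prod.ext ?_ ?_
      · rw [hl]; simp only [Prod.fst_add, Prod.smul_fst, ← add_smul, sub_add_cancel]
      · rw [hj]; simp only [Prod.snd_add, Prod.smul_snd, smul_zero, zero_add])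
    rw [e3]
    exact ((Commute.pow_right s1 _).mul_right ((Commute.pow_right s2 _).mul_right (Commute.pow_right s3 _))).eq
  have Jy := J0 y ((h.memC _).1 y.2) ya (q3 _ yQ).2
  have za : z' * a = a * z' := (d.comm_iff h0 hg aQ).2 (by
    rw [pa, f1]; simp only [ω, Prod.smul_fst, Prod.smul_snd, smul_eq_mul, Prod.fst_zero, Prod.snd_zero]; ring)
  have Jz := J0 z' (h0.zc hg) za rfl
  have fz1 : ac (ρ x) (p z').1 = (p z').1 := (g3 _).2 (by
    rw [f1]; simp only [ω, Prod.smul_fst, Prod.smul_snd, smul_eq_mul]; ring)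
  have fz2 : ac (σ x) (p z').2 = (p z').2 := (g4 _).2 (by
    rw [f2]; simp only [ω, Prod.smul_fst, Prod.smul_snd, smul_eq_mul]; ring)
  have Jy' : ∀ q ∈ Q, ac (σ x) (p q).2 = (p q).2 → ac (ρ x) (p q).1 = (p q).1 →
      Commute (t * y * t.1⁻¹) q := fun q hq k2 k1 => by
    have := Jy _ (h0.conj_mem t.2 hq) (by rw [pt q hq]; exact k2) (by
      rw [pt q hq]; exact (g3 _).2 (by have := (g3 _).1 k1; simp only [ω, Prod.fst_neg, Prod.snd_neg] at this ⊢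
                                       linear_combination -this))
    rw [commute_iff_eq, ← tt q, conj_mul, conj_mul, this]
  have πt : π (t * y * t⁻¹) = π y := by rw [map_mul, map_mul, map_inv, ht]; ext <;> simp
  have yy : Commute y.1 (t * y * t.1⁻¹) := by
    have m := h0.mem_Q πt.symm
    have k1 := (d.comm_iff h0 m aQ).1 ((Commute.inv_left ya).mul_left (Jy' a aQ (by rw [pa, ac_zero]) (by rw [pa, g1])))
    have k2 := (d.comm_iff h0 m hg).1 ((Commute.inv_left (q3 _ yQ).2).mul_left (Jy' z' hg fz2 fz1))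
    rw [pa] at k1
    rw [show ∀ v : W, ω v 0 = 0 from fun v => by simp [ω], add_zero] at k1
    have := Jy _ m ((g4 _).2 (by
      rw [f1] at k1; rw [f2]
      simp only [ω, Prod.smul_fst, Prod.smul_snd, smul_eq_mul] at k1 k2 ⊢
      linear_combination k * k2 - k1)) ((g3 _).2 k1)
    rw [← mul_inv_cancel_left y.1 (t * y * t.1⁻¹)]
    exact (Commute.refl _).mul_right this
  have y3 := (q3 _ yQ).1
  obtain ⟨s, πs, s3, st, sy, Js⟩ : ∃ s : C, π s = π x ∧ s.1 ^ 3 = 1 ∧ s * t = t * s ∧ y.1 * s = s * y ∧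
      ∀ q ∈ Q, ac (σ x) (p q).2 = (p q).2 → ac (ρ x) (p q).1 = (p q).1 → s * q = q * s := by
    refine ⟨(y * (t * y * t⁻¹)) ^ 2, ?_, ?_, Subtype.ext ?_, (((Commute.refl _).mul_right yy).pow_right 2).eq,
      fun q hq k2 k1 => ((Commute.mul_left (Jy q hq k2 k1) (Jy' q hq k2 k1)).pow_left 2).eq⟩
    · rw [map_pow, map_mul, πt, ← πy, ← pow_two, ← pow_mul, pow_succ, ← map_pow, show y ^ 3 = 1 from Subtype.ext y3,
        map_one, one_mul]
    · show ((y.1 * (t * y * t.1⁻¹)) ^ 2) ^ 3 = 1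
      rw [← pow_mul, mul_comm, pow_mul, yy.mul_pow, conj_pow, y3]; simp
    · show (y.1 * (t * y * t.1⁻¹)) ^ 2 * t = t * (y.1 * (t * y * t.1⁻¹)) ^ 2
      rw [eq_comm, ← mul_inv_eq_iff_eq_mul, ← conj_pow, ← conj_mul, tt, yy.eq]
  obtain ⟨r3, r4⟩ := d.ρ_eq h0 πs
  have nQ : ∀ c : C, π c = π x → c.1 ∉ Q := fun c e k => xQ ((h.ker x).1 (e ▸ (h.ker c).2 k))
  have sum : ω (p e).1 (ac (ρ x) (p e).1 - (p e).1) = -ω (p e).2 (ac (σ x) (p e).2 - (p e).2) := by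
    rw [f1, f2]
    simp only [ω, Prod.smul_fst, Prod.smul_snd, smul_eq_mul] at e2 ⊢
    linear_combination k * e2
  have fin : ∀ (s' : C) i b, (∀ v, ac (σ s') v = v → ac (σ x) v = v) → y.1 * s' = s' * y →
      Dt z C Q π t s' i a b (s'.1⁻¹ * τ * s' * τ⁻¹) τ → ∃ t x i a b β τ, Dt z C Q π t x i a b β τ ∧ z' * a = a * z' ∧
      z' * β = β * z' ∧ ∃ y ∈ C, g⁻¹ * y * g ∈ Q ∧ y ∉ Q ∧ y * x = x * y ∧ y * a = a * y ∧ y * β = β * y := by
    intro s' i b k1 k2 D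
    have k3 := d.act s' _ D.βQ
    rw [D.xβ, mul_inv_cancel_right] at k3
    have k4 := d.act t _ D.βQ
    rw [D.tβ, mul_inv_cancel_right, (d.neg t ht).1, ac_neg] at k4
    have k5 := L43.eq_zero_of_neg (congrArg Prod.fst k4)
    have k6 := k1 _ (congrArg Prod.snd k3).symm
    exact ⟨t, s', i, a, b, _, τ, D, za, Jz _ D.βQ k6 (by rw [k5, ac_zero]), y, y.2, yQ, nQ y πy, k2, ya,
      Jy _ D.βQ k6 (by rw [k5, ac_zero])⟩
  rcases s2_sgn _ c2 _ n2 with ⟨k1, k2⟩ | ⟨k1, k2⟩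
  · obtain ⟨i, b, D⟩ := d.step h ht t2 (nQ s πs) s3 st aQ ta (by rwa [pa]) (by rw [pa]) τQ tτ (by rw [pτ])
      (by rwa [pτ, r4]) (by rwa [r3, r4]) (by rwa [pa, r3]) (u := (p e).1) (by rw [r3, sum, k2, neg_neg])
    exact fin s i b (by rw [r4]; exact fun _ => id) sy D
  · have iv : ∀ X : S2, ∀ v, ac X⁻¹ v = v ↔ ac X v = v := by decide +kernel
    obtain ⟨i, b, D⟩ := d.step h ht t2 (x := s⁻¹) (fun k => nQ s πs (by simpa using k)) (by simp [s3])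
      (Commute.inv_left st) aQ ta (by rwa [pa]) (by rw [pa]) τQ tτ (by rw [pτ]) (by rwa [pτ, map_inv, r4])
      (fun q hq k2 k1 => by
        rw [map_inv, iv] at k1 k2
        exact Commute.inv_left (Js q hq (r4 ▸ k2) (r3 ▸ k1))) (by rwa [pa, map_inv, r3, iv]) (u := (p e).1)
      (by rw [map_inv, r3, s2_inv _ c1, sum, neg_neg, ← neg_inj, ← s2_inv _ c2, k2])
    exact fin s⁻¹ i b (fun v => by rw [map_inv, r4, iv]; exact id) (Commute.inv_right sy) D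

end Cr

end Cfsg.Agent.O83
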