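import Cfsg.Agent.O83.Cd
import Cfsg.Agent.OR.L3
import Cfsg.Agent.H46.Generation

/-! Project O83, section L9: `3'`-subgroups of `C(t) ∩ C(y)` normalised by `D`. -/

set_option autoImplicit false
set_option synthInstance.maxSize 4096
set_option maxRecDepth 100000

namespace Cfsg.Agent.O83.L9

open Subgroup

variable {G : Type*} [Group G] [Finite G] {Γ : Subgroup O4} {e : V → G} {σ : O4 → G} {i : G}

/-- the image of an additive subgroup -/
def eS (h : Cf Γ e σ i) (U : AddSubgroup V) : Subgroup G where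
  carrier := {g | ∃ v ∈ U, e v = g}
  one_mem' := ⟨0, U.zero_mem, e_zero h.add⟩
  mul_mem' := by
    rintro _ _ ⟨u, hu, rfl⟩ ⟨v, hv, rfl⟩
    exact ⟨_, U.add_mem hu hv, h.add u v⟩
  inv_mem' := by
    rintro _ ⟨u, hu, rfl⟩
    exact ⟨_, U.neg_mem hu, e_neg h.add u⟩

/-- coordinates of `D` -/
def UD : AddSubgroup V where
  carrier := {v | v.1 = 0}
  zero_mem' := rfl
  add_mem' {a b} ha hb := by
    show a.1 + b.1 = 0
    rw [show a.1 = 0 from ha, show b.1 = 0 from hb, add_zero]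
  neg_mem' {a} ha := by
    show -a.1 = 0
    rw [show a.1 = 0 from ha, neg_zero]

/-- coordinates of `⟨e d1, e d2⟩` -/
def UT : AddSubgroup V where
  carrier := {v | v.1 = 0 ∧ v.2.2.2 = 0}
  zero_mem' := ⟨rfl, rfl⟩
  add_mem' {a b} ha hb := by
    show a.1 + b.1 = 0 ∧ a.2.2.2 + b.2.2.2 = 0
    rw [ha.1, hb.1, ha.2, hb.2, add_zero]
    exact ⟨rfl, rfl⟩
  neg_mem' {a} ha := by
    show -a.1 = 0 ∧ -a.2.2.2 = 0
    rw [ha.1, ha.2, neg_zero]
    exact ⟨rfl, rfl⟩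

omit [Finite G] in
theorem eS_p (h : Cf Γ e σ i) (U : AddSubgroup V) : IsPGroup 3 (eS h U) := by
  rintro ⟨_, v, hv, rfl⟩
  exact ⟨1, Subtype.ext (e_cube h.add v)⟩

omit [Finite G] in
theorem eS_comm (h : Cf Γ e σ i) (U : AddSubgroup V) : ∀ x ∈ eS h U, ∀ y ∈ eS h U, x * y = y * x := by
  rintro _ ⟨u, -, rfl⟩ _ ⟨v, -, rfl⟩
  exact e_comm h.add u v

omit [Finite G] in
theorem e_ne (h : Cf Γ e σ i) {u v : V} (k : u ≠ v) : e u ≠ e v := fun k' => k (h.toAd.eq_iff.1 k')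

omit [Finite G] in
theorem e_ne1 (h : Cf Γ e σ i) {u : V} (k : u ≠ 0) : e u ≠ 1 := fun k' => k (h.inj _ k')

theorem card_T (h : Cf Γ e σ i) : 3 < Nat.card (eS h UT) :=
  OR.three_lt_card (x := e d1) (y := e d2) ⟨d1, ⟨rfl, rfl⟩, rfl⟩ ⟨d2, ⟨rfl, rfl⟩, rfl⟩ (e_ne1 h (by decide))
    (e_cube h.add _) (e_ne1 h (by decide)) (e_ne h (by decide)) (by rw [← e_neg h.add]; exact e_ne h (by decide))

theorem not_cyc (h : Cf Γ e σ i) : ¬ IsCyclic (eS h UT) := by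
  intro hc
  obtain ⟨g, hg⟩ := hc.exists_generator
  have h1 := orderOf_eq_card_of_forall_mem_zpowers hg
  have h2 : g ^ 3 = 1 := by
    obtain ⟨_, v, hv, rfl⟩ := g
    exact Subtype.ext (e_cube h.add v)
  have := Nat.le_of_dvd (by norm_num) (orderOf_dvd_of_pow_eq_one h2)
  have := card_T h
  omega

/-- an element of order three of a `3'`-group is trivial -/
theorem eq_one3 {K : Subgroup G} (hK : (Nat.card K).Coprime 3) {g : G} (hg : g ∈ K) (h3 : g ^ 3 = 1) : g = 1 := by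
  have h1 : orderOf g ∣ Nat.card K := Subgroup.orderOf_dvd_natCard K hg
  exact orderOf_eq_one_iff.1 (Nat.eq_one_of_dvd_coprimes hK h1 (orderOf_dvd_of_pow_eq_one h3))

theorem pick : ∀ v : V, v.1 = 0 → v.2.2.2 = 0 → v ≠ 0 → q v = 1 ∨ (v + v.2.2.1.val • y0 = zk 0 ∨ v + v.2.2.1.val • y0 = -zk 0) ∨
    (v + v.2.2.1.val • y0 = zk 1 ∨ v + v.2.2.1.val • y0 = -zk 1) ∨
    (v + v.2.2.1.val • y0 = zk 2 ∨ v + v.2.2.1.val • y0 = -zk 2) ∨
    (v + v.2.2.1.val • y0 = zk 3 ∨ v + v.2.2.1.val • y0 = -zk 3) := by decide +kernel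

omit [Finite G] in
/-- an element centralising `y` and a nontrivial element of `T` -/
theorem cases_T (h : Cf Γ e σ i) {v : V} (h1 : v.1 = 0) (h2 : v.2.2.2 = 0) (v0 : v ≠ 0) :
    q v = 1 ∨ ∃ k, ∀ g, g * e y0 = e y0 * g → g * e v = e v * g → g * e (zk k) = e (zk k) * g := by
  have key : ∀ k, v + v.2.2.1.val • y0 = zk k ∨ v + v.2.2.1.val • y0 = -zk k →
      ∀ g, g * e y0 = e y0 * g → g * e v = e v * g → g * e (zk k) = e (zk k) * g := fun k hk g a b => by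
    have c : Commute g (e (v + v.2.2.1.val • y0)) := by
      rw [h.add, e_nsmul h.add]
      exact Commute.mul_right b (Commute.pow_right a _)
    rcases hk with hk | hk <;> rw [hk] at c
    · exact c
    · rw [e_neg h.add] at c
      exact (Commute.inv_right_iff.1 c).eq
  rcases pick v h1 h2 v0 with k | k | k | k | k
  exacts [Or.inl k, Or.inr ⟨_, key _ k⟩, Or.inr ⟨_, key _ k⟩, Or.inr ⟨_, key _ k⟩, Or.inr ⟨_, key _ k⟩]

theorem fixD : ∀ A : O4, A • d0 = d0 → A • d1 = d1 → A • d2 = d2 → A • d3 = d3 → A = 1 := by decide +kernel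

/-- a `D`-invariant `3'`-subgroup of `N ∩ C(t)` lies in `⟨t⟩` -/
theorem inN (h : Cf Γ e σ i) {K : Subgroup G} (hK : (Nat.card K).Coprime 3)
    (hn : ∀ v : V, v.1 = 0 → e v ∈ normalizer (K : Set G)) {g : G} (hg : g ∈ K) (hN : g ∈ NN e)
    (ht : g * σ r0 = σ r0 * g) : g = 1 ∨ g = σ r0 := by
  obtain ⟨v, A, hA, v1, A0, hg'⟩ := h.mem_NH hN ht
  have act : ∀ d : V, d.1 = 0 → g * e d * g⁻¹ = e (A • d) := fun d hd => by
    rcases hg' with rfl | rfl
    · exact h.conj_e hA _ _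
    · rw [mul_assoc _ (σ r0), ← (h.e_t.2 hd), ← h.conj_e hA v d]; group
  have fx : ∀ d : V, d.1 = 0 → A • d = d := fun d hd => by
    have m : g * (e d * g⁻¹ * (e d)⁻¹) ∈ K := K.mul_mem hg ((mem_normalizer_iff.1 (hn d hd) _).1 (K.inv_mem hg))
    rw [show g * (e d * g⁻¹ * (e d)⁻¹) = g * e d * g⁻¹ * (e d)⁻¹ by group, act d hd, ← e_neg h.add, ← h.add] at m
    exact add_neg_eq_zero.1 (h.inj _ (eq_one3 hK m (e_cube h.add _)))
  obtain rfl := fixD A A0 (fx _ rfl) (fx _ rfl) (fx _ rfl)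
  rw [h.σ_one, mul_one] at hg'
  have sq : g * g = e v * e v := by
    rcases hg' with rfl | rfl
    · rfl
    · rw [mul_assoc, ← mul_assoc (σ r0), ← h.e_t.2 v1, mul_assoc, h.t2, mul_one]
  have v0 : v = 0 := by
    have m := K.mul_mem hg hg
    rw [sq, ← h.add, add_self] at m
    exact neg_eq_zero.1 (h.inj _ (eq_one3 hK m (e_cube h.add _)))
  subst v0
  rw [e_zero h.add, one_mul] at hg'
  exact hg'

theorem ik_mem (k : Fin 4) : ik σ i k ∈ Rk e σ i k := subset_closure (by simp)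

theorem gk_t (h : Cf Γ e σ i) (k : Fin 4) : σ (gk k) * σ r0 = σ r0 * σ (gk k) :=
  (h.σ_t (h.Γ1_le (gk_mem k))).2 (Or.inl (by revert k; decide +kernel))

theorem gk_x (h : Cf Γ e σ i) (k : Fin 4) : σ (gk k) * e d1 = e d1 * σ (gk k) := by
  rw [h.σ_e' (h.Γ1_le (gk_mem k)), show gk k • d1 = d1 by revert k; decide +kernel]

theorem ik_sq (h : Cf Γ e σ i) (k : Fin 4) : ik σ i k * ik σ i k = σ r0 := by
  rw [ik, show σ (gk k) * i * (σ (gk k))⁻¹ * (σ (gk k) * i * (σ (gk k))⁻¹) = σ (gk k) * (i * i) * (σ (gk k))⁻¹ by group,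
    h.ii, gk_t h, mul_inv_cancel_right]

theorem t_mem (h : Cf Γ e σ i) (k : Fin 4) : σ r0 ∈ Rk e σ i k := by
  rw [← ik_sq h k]
  exact mul_mem (ik_mem k) (ik_mem k)

/-- GEN -/
theorem gen (h : Cf Γ e σ i) {M W : Subgroup G} (hM : (Nat.card M).Coprime 3)
    (hn : ∀ v : V, v.1 = 0 → e v ∈ normalizer (M : Set G)) (ht : ∀ g ∈ M, g * σ r0 = σ r0 * g)
    (hy : ∀ g ∈ M, g * e y0 = e y0 * g) (hW : ∀ r ∈ M, r ∈ Rk e σ i 1 ∨ r ∈ Rk e σ i 2 → r ∈ W) : M ≤ W := by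
  haveI : Fact (Nat.Prime 3) := ⟨Nat.prime_three⟩
  have t1 : ∀ g ∈ M, g = 1 ∨ g = σ r0 → g ∈ W := fun g hg k => by
    rcases k with rfl | rfl
    exacts [W.one_mem, hW _ hg (Or.inl (t_mem h 1))]
  refine H46.le_of_forall_element (eS_p h UT) ⟨⟨fun a b => Subtype.ext (eS_comm h UT _ a.2 _ b.2)⟩⟩ (not_cyc h)
    (fun k => by simpa using Nat.Coprime.eq_one_of_dvd hM.symm k) ?_ ?_
  · rintro _ ⟨v, hv, rfl⟩
    exact hn v hv.1
  rintro _ ⟨v, hv, rfl⟩ v1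
  have v0 : v ≠ 0 := by rintro rfl; exact v1 (e_zero h.add)
  have hK : (Nat.card (M ⊓ centralizer ({e v} : Set G) : Subgroup G)).Coprime 3 :=
    Nat.Coprime.coprime_dvd_left (card_dvd_of_le inf_le_left) hM
  have hKn : ∀ w : V, w.1 = 0 → e w ∈ normalizer ((M ⊓ centralizer ({e v} : Set G) : Subgroup G) : Set G) :=
    fun w hw => inf_normalizer_le_normalizer_inf ⟨hn w hw,
      le_normalizer (mem_centralizer_singleton_iff.2 (e_comm h.add w v))⟩
  rcases cases_T h hv.1 hv.2 v0 with k | ⟨k, hk⟩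
  · intro g hg
    have c := mem_centralizer_singleton_iff.1 hg.2
    exact t1 g hg.1 (inN h hK hKn hg (h.dN k (w := v) (by rw [c, mul_inv_cancel_right])) (ht g hg.1))
  · have le := h.Z3 k hK hKn fun g hg => ⟨ht g hg.1, hk g (hy g hg.1) (mem_centralizer_singleton_iff.1 hg.2)⟩
    intro g hg
    fin_cases k
    · exact t1 g hg.1 (h.Rk_fix (le hg) (v := y0) rfl (by decide) (hy g hg.1))
    · exact hW g hg.1 (Or.inl (le hg))
    · exact hW g hg.1 (Or.inr (le hg))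
    · exact t1 g hg.1 (h.Rk_fix (le hg) (v := y0) rfl (by decide) (hy g hg.1))

/-- an `x`-invariant subgroup meeting `R_k` outside `⟨t⟩` contains `R_k` -/
theorem Rk_of (h : Cf Γ e σ i) {k : Fin 4} {M : Subgroup G} (hx : e d1 ∈ normalizer (M : Set G)) {b : G} (hb : b ∈ M)
    (hk : b ∈ Rk e σ i k) (b1 : b ≠ 1) (bt : b ≠ σ r0) : Rk e σ i k ≤ M := by
  have tM : σ r0 ∈ M := by
    rcases h.Rk_sq hk with a | a | a
    exacts [absurd a b1, absurd a bt, a ▸ M.mul_mem hb hb]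
  obtain ⟨s, hs⟩ : ∃ s, s = σ (gk k) := ⟨_, rfl⟩
  have sx : s * e d1 = e d1 * s := hs ▸ gk_x h k
  have st : s * σ r0 = σ r0 * s := hs ▸ gk_t h k
  let M' : Subgroup G := M.comap (MulAut.conj s).toMonoidHom
  have mem : ∀ g, g ∈ M' ↔ s * g * s⁻¹ ∈ M := fun g => Iff.rfl
  have xM : ∀ g, g ∈ M' ↔ e d1 * g * (e d1)⁻¹ ∈ M' := fun g => by
    rw [mem, mem, mem_normalizer_iff.1 hx]
    have : e d1 * (s * g * s⁻¹) * (e d1)⁻¹ = s * (e d1 * g * (e d1)⁻¹) * s⁻¹ := by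
      rw [← mul_assoc, ← mul_assoc, ← sx, mul_assoc _ s⁻¹, ← mul_inv_rev, ← sx]; group
    rw [this]
  have tM' : σ r0 ∈ M' := by rw [mem, st, mul_inv_cancel_right]; exact tM
  have b0 : s⁻¹ * b * s ∈ M' := by rw [mem]; simpa [mul_assoc] using hb
  have ij : i ∈ M' ↔ jj e i ∈ M' := xM i
  have k1 : i * jj e i ∈ M' → jj e i ∈ M' := fun a => by
    rw [xM]
    rcases h.ij with c | c <;> rw [c]
    · exact a
    · rw [h.j_i]; exact M'.mul_mem a tM'
  have fin : jj e i ∈ M' := by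
    rcases h.mem_R.1 (h.mem_Rk.1 hk) with a | a | a | a | a | a | a | a <;> rw [← hs] at a
    · exact absurd (by rw [← mul_inv_cancel_left s b, ← mul_inv_cancel_right (s⁻¹ * b) s, a]; group) b1
    · refine absurd ?_ bt
      rw [← mul_inv_cancel_left s b, ← mul_inv_cancel_right (s⁻¹ * b) s, a, ← mul_assoc, st,
        mul_inv_cancel_right]
    all_goals rw [a] at b0
    exacts [ij.1 b0, ij.1 ((M'.mul_mem_cancel_right tM').1 b0), b0, (M'.mul_mem_cancel_right tM').1 b0, k1 b0,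
      k1 ((M'.mul_mem_cancel_right tM').1 b0)]
  refine (closure_le _).2 ?_
  rintro _ (rfl | rfl)
  · rw [ik, ← hs]; exact (mem _).1 (ij.2 fin)
  · rw [jk, ← hs]; exact (mem _).1 fin

end Cfsg.Agent.O83.L9
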