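import Mathlib.Algebra.Field.ZMod
import Mathlib.Algebra.Group.MinimalAxioms
import Mathlib.Data.Fin.VecNotation
import Mathlib.GroupTheory.Perm.Sign
import Mathlib.GroupTheory.Index
import Mathlib.Algebra.Group.Action.End
import Mathlib.Tactic.Ring
import Mathlib.Tactic.LinearCombination

/-! Project O83 (3-local recognition of `Ω₈⁺(2).3` and `Ω₈⁺(2).S₃`): the group `O₄⁺(3) = W(F₄)` acting on `𝔽₃⁴`, and
the tables of the action on `𝔽₂⁸`. See `notes/O83.md`. -/

set_option autoImplicit false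
set_option synthInstance.maxSize 4096
set_option maxRecDepth 100000

namespace Cfsg.Agent.O83

open Subgroup

/-- the field -/
abbrev F : Type := ZMod 3
/-- the space -/
abbrev V : Type := F × F × F × F

/-- the dot product, in a form the kernel evaluates fast; see `dot_def` -/
def dt (a b c d x y z w : F) : F := (⟨Nat.mod (Nat.add (Nat.add (Nat.add
  (Nat.mul (Fin.val (n := 3) a) (Fin.val (n := 3) x)) (Nat.mul (Fin.val (n := 3) b) (Fin.val (n := 3) y)))
  (Nat.mul (Fin.val (n := 3) c) (Fin.val (n := 3) z))) (Nat.mul (Fin.val (n := 3) d) (Fin.val (n := 3) w))) 3,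
  Nat.mod_lt _ (by decide)⟩ : Fin 3)

theorem dt_eq (a b c d x y z w : F) : dt a b c d x y z w = a * x + b * y + c * z + d * w := by
  apply ZMod.val_injective 3
  show (a.val * x.val + b.val * y.val + c.val * z.val + d.val * w.val) % 3 = _
  simp only [ZMod.val_add, ZMod.val_mul]
  omega

/-- all vectors -/
def LV : List V := [0, 1, 2].flatMap fun a => [0, 1, 2].flatMap fun b => [0, 1, 2].flatMap fun c =>
  [0, 1, 2].map fun d => (a, b, c, d)

theorem mem_LV : ∀ v, v ∈ LV := by decide +kernel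

instance (priority := high) decAllV (p : V → Prop) [DecidablePred p] : Decidable (∀ v, p v) :=
  decidable_of_iff (LV.all (fun v => decide (p v)) = true) (by simp [mem_LV])
instance (priority := high) decExV (p : V → Prop) [DecidablePred p] : Decidable (∃ v, p v) :=
  decidable_of_iff (LV.any (fun v => decide (p v)) = true) (by simp [mem_LV])

/-- the dot product -/
def dot (u v : V) : F := dt u.1 u.2.1 u.2.2.1 u.2.2.2 v.1 v.2.1 v.2.2.1 v.2.2.2

theorem dot_def (u v : V) : dot u v = u.1 * v.1 + u.2.1 * v.2.1 + u.2.2.1 * v.2.2.1 + u.2.2.2 * v.2.2.2 := dt_eq ..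

/-- the quadratic form: `1` on weights one and four, `2` on weight two, `0` on weight three -/
def q (v : V) : F := dot v v

/-- matrices, by columns -/
abbrev Mt : Type := V × V × V × V

/-- a matrix applied to a vector; see `lin_def` -/
def lin (A : Mt) (v : V) : V :=
  (dt A.1.1 A.2.1.1 A.2.2.1.1 A.2.2.2.1 v.1 v.2.1 v.2.2.1 v.2.2.2,
    dt A.1.2.1 A.2.1.2.1 A.2.2.1.2.1 A.2.2.2.2.1 v.1 v.2.1 v.2.2.1 v.2.2.2,
    dt A.1.2.2.1 A.2.1.2.2.1 A.2.2.1.2.2.1 A.2.2.2.2.2.1 v.1 v.2.1 v.2.2.1 v.2.2.2,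
    dt A.1.2.2.2 A.2.1.2.2.2 A.2.2.1.2.2.2 A.2.2.2.2.2.2 v.1 v.2.1 v.2.2.1 v.2.2.2)

theorem lin_def (A : Mt) (v : V) : lin A v =
  (A.1.1 * v.1 + A.2.1.1 * v.2.1 + A.2.2.1.1 * v.2.2.1 + A.2.2.2.1 * v.2.2.2,
    A.1.2.1 * v.1 + A.2.1.2.1 * v.2.1 + A.2.2.1.2.1 * v.2.2.1 + A.2.2.2.2.1 * v.2.2.2,
    A.1.2.2.1 * v.1 + A.2.1.2.2.1 * v.2.1 + A.2.2.1.2.2.1 * v.2.2.1 + A.2.2.2.2.2.1 * v.2.2.2,
    A.1.2.2.2 * v.1 + A.2.1.2.2.2 * v.2.1 + A.2.2.1.2.2.2 * v.2.2.1 + A.2.2.2.2.2.2 * v.2.2.2) := by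
  simp only [lin, dt_eq]

/-- the basis -/
def d0 : V := (1, 0, 0, 0)
/-- the basis -/
def d1 : V := (0, 1, 0, 0)
/-- the basis -/
def d2 : V := (0, 0, 1, 0)
/-- the basis -/
def d3 : V := (0, 0, 0, 1)
/-- the `3`-central vector -/
def z0 : V := (0, 1, 1, 1)
/-- a vector of the third kind -/
def y0 : V := (0, 0, 1, 1)

theorem lin_add (A : Mt) (u v : V) : lin A (u + v) = lin A u + lin A v := by
  simp only [lin_def, Prod.mk_add_mk, Prod.fst_add, Prod.snd_add, Prod.mk.injEq]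
  refine ⟨?_, ?_, ?_, ?_⟩ <;> ring

theorem lin_lin (A B : Mt) (v : V) :
    lin (lin A B.1, lin A B.2.1, lin A B.2.2.1, lin A B.2.2.2) v = lin A (lin B v) := by
  simp only [lin_def, Prod.mk.injEq]
  refine ⟨?_, ?_, ?_, ?_⟩ <;> ring

theorem lin_ext {A B : Mt} (h : ∀ v, lin A v = lin B v) : A = B := by
  have h0 := h d0
  have h1 := h d1
  have h2 := h d2
  have h3 := h d3
  simp only [lin_def, d0, d1, d2, d3, mul_one, mul_zero, add_zero, zero_add] at h0 h1 h2 h3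
  exact Prod.ext h0 (Prod.ext h1 (Prod.ext h2 h3))

theorem dot_comm (u v : V) : dot u v = dot v u := by simp only [dot_def]; ring
theorem dot_add (u v w : V) : dot u (v + w) = dot u v + dot u w := by
  simp only [dot_def, Prod.fst_add, Prod.snd_add]; ring
theorem add_dot (u v w : V) : dot (u + v) w = dot u w + dot v w := by
  simp only [dot_def, Prod.fst_add, Prod.snd_add]; ring
theorem dot_neg (u v : V) : dot u (-v) = -dot u v := by simp only [dot_def, Prod.fst_neg, Prod.snd_neg]; ring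
theorem neg_dot (u v : V) : dot (-u) v = -dot u v := by simp only [dot_def, Prod.fst_neg, Prod.snd_neg]; ring
theorem q_neg (v : V) : q (-v) = q v := by rw [q, dot_neg, neg_dot, neg_neg, q]
theorem add_three (v : V) : v + v + v = 0 := by revert v; decide +kernel
theorem add_self (v : V) : v + v = -v := eq_neg_of_add_eq_zero_left (add_three v)

/-- orthonormal columns -/
def orth (A : Mt) : Prop := q A.1 = 1 ∧ q A.2.1 = 1 ∧ dot A.1 A.2.1 = 0 ∧ q A.2.2.1 = 1 ∧ dot A.1 A.2.2.1 = 0 ∧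
  dot A.2.1 A.2.2.1 = 0 ∧ q A.2.2.2 = 1 ∧ dot A.1 A.2.2.2 = 0 ∧ dot A.2.1 A.2.2.2 = 0 ∧ dot A.2.2.1 A.2.2.2 = 0

instance : DecidablePred orth := fun A => by unfold orth; infer_instance

theorem orth.dot_lin {A : Mt} (h : orth A) (u v : V) : dot (lin A u) (lin A v) = dot u v := by
  obtain ⟨h0, h1, h01, h2, h02, h12, h3, h03, h13, h23⟩ := h
  simp only [q, dot_def, lin_def] at *
  linear_combination u.1 * v.1 * h0 + u.2.1 * v.2.1 * h1 + u.2.2.1 * v.2.2.1 * h2 + u.2.2.2 * v.2.2.2 * h3 +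
    (u.1 * v.2.1 + u.2.1 * v.1) * h01 + (u.1 * v.2.2.1 + u.2.2.1 * v.1) * h02 +
    (u.1 * v.2.2.2 + u.2.2.2 * v.1) * h03 + (u.2.1 * v.2.2.1 + u.2.2.1 * v.2.1) * h12 +
    (u.2.1 * v.2.2.2 + u.2.2.2 * v.2.1) * h13 + (u.2.2.1 * v.2.2.2 + u.2.2.2 * v.2.2.1) * h23

/-- the orthogonal group -/
@[ext] structure O4 where
  /-- the columns -/
  c : Mt
  h : orth c

instance : DecidableEq O4 := fun A B => decidable_of_iff (A.c = B.c) O4.ext_iff.symm

/-- the vectors of norm one, labelled by `4 * frame + line` -/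
def L24 : List (V × ℕ) :=
  [((0, 0, 0, 1), 0), ((0, 0, 0, 2), 0), ((0, 0, 1, 0), 1), ((0, 0, 2, 0), 1), ((0, 1, 0, 0), 2),
    ((0, 2, 0, 0), 2), ((1, 0, 0, 0), 3), ((1, 1, 1, 1), 4), ((1, 1, 1, 2), 8), ((1, 1, 2, 1), 9),
    ((1, 1, 2, 2), 5), ((1, 2, 1, 1), 10), ((1, 2, 1, 2), 6), ((1, 2, 2, 1), 7), ((1, 2, 2, 2), 11),
    ((2, 0, 0, 0), 3), ((2, 1, 1, 1), 11), ((2, 1, 1, 2), 7), ((2, 1, 2, 1), 6), ((2, 1, 2, 2), 10),
    ((2, 2, 1, 1), 5), ((2, 2, 1, 2), 9), ((2, 2, 2, 1), 8), ((2, 2, 2, 2), 4)]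

/-- orthogonality read off the labels -/
def cmpL (p p' : V × ℕ) : Bool := Nat.beq (Nat.div p.2 4) (Nat.div p'.2 4) && !Nat.beq p.2 p'.2

theorem mem_L24 (v : V) (h : q v = 1) : ∃ p ∈ L24, p.1 = v := by
  simpa using (by decide +kernel : ∀ v : V, q v = 1 → (L24.any fun p => decide (p.1 = v)) = true) v h

theorem cmpL_of : ∀ p ∈ L24, ∀ p' ∈ L24, dot p.1 p'.1 = 0 → cmpL p p' = true := fun p h p' h' => of_decide_eq_true
  (List.all_eq_true.1 (List.all_eq_true.1 (by decide +kernel : (L24.all fun p => L24.all fun p' =>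
    decide (dot p.1 p'.1 = 0 → cmpL p p' = true)) = true) p h) p' h')

/-- all orthogonal matrices -/
def LM : List Mt := L24.flatMap fun a => (L24.filter (cmpL a)).flatMap fun b =>
  ((L24.filter (cmpL a)).filter (cmpL b)).flatMap fun c =>
    (((L24.filter (cmpL a)).filter (cmpL b)).filter (cmpL c)).map fun d => (a.1, b.1, c.1, d.1)

theorem orth_LM : ∀ A ∈ LM, orth A := fun A h => of_decide_eq_true
  (List.all_eq_true.1 (by decide +kernel : (LM.all fun A => decide (orth A)) = true) A h)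

/-- all orthogonal matrices -/
def LO : List O4 := LM.pmap O4.mk orth_LM

theorem mem_LO (A : O4) : A ∈ LO := by
  obtain ⟨⟨a, b, c, d⟩, h⟩ := A
  refine List.mem_pmap.2 ⟨_, ?_, rfl⟩
  simp only [LM, List.mem_flatMap, List.mem_filter, List.mem_map]
  obtain ⟨h0, h1, h01, h2, h02, h12, h3, h03, h13, h23⟩ := h
  obtain ⟨a, ma, rfl⟩ := mem_L24 a h0
  obtain ⟨b, mb, rfl⟩ := mem_L24 b h1
  obtain ⟨c, mc, rfl⟩ := mem_L24 c h2
  obtain ⟨d, md, rfl⟩ := mem_L24 d h3
  exact ⟨a, ma, b, ⟨mb, cmpL_of _ ma _ mb h01⟩, c, ⟨⟨mc, cmpL_of _ ma _ mc h02⟩, cmpL_of _ mb _ mc h12⟩, d,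
    ⟨⟨⟨md, cmpL_of _ ma _ md h03⟩, cmpL_of _ mb _ md h13⟩, cmpL_of _ mc _ md h23⟩, rfl⟩

instance (priority := high) decAllO (p : O4 → Prop) [DecidablePred p] : Decidable (∀ A, p A) :=
  decidable_of_iff (LO.all (fun A => decide (p A)) = true) (by simp [mem_LO])
instance (priority := high) decExO (p : O4 → Prop) [DecidablePred p] : Decidable (∃ A, p A) :=
  decidable_of_iff (LO.any (fun A => decide (p A)) = true) (by simp [mem_LO])

/-- a code, increasing along `LO` -/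
def code (A : O4) : ℕ :=
  let f : V → ℕ := fun v => ((v.1.val * 3 + v.2.1.val) * 3 + v.2.2.1.val) * 3 + v.2.2.2.val
  ((f A.c.1 * 81 + f A.c.2.1) * 81 + f A.c.2.2.1) * 81 + f A.c.2.2.2

theorem nodup_LO : LO.Nodup :=
  List.Nodup.of_map code (List.isChain_iff_pairwise.1
    (by decide +kernel : (LO.map code).IsChain (· < ·))).nodup

instance : Fintype O4 := ⟨⟨LO, nodup_LO⟩, mem_LO⟩

theorem card_O4 : Nat.card O4 = 1152 := by rw [Nat.card_eq_fintype_card]; decide +kernel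

/-- the transpose -/
def tr (A : Mt) : Mt := ((A.1.1, A.2.1.1, A.2.2.1.1, A.2.2.2.1), (A.1.2.1, A.2.1.2.1, A.2.2.1.2.1, A.2.2.2.2.1),
  (A.1.2.2.1, A.2.1.2.2.1, A.2.2.1.2.2.1, A.2.2.2.2.2.1), (A.1.2.2.2, A.2.1.2.2.2, A.2.2.1.2.2.2, A.2.2.2.2.2.2))

theorem orth_tr : ∀ A : O4, orth (tr A.c) := by decide +kernel

instance : Mul O4 := ⟨fun A B => ⟨(lin A.c B.c.1, lin A.c B.c.2.1, lin A.c B.c.2.2.1, lin A.c B.c.2.2.2), by
  simpa only [orth, q, A.h.dot_lin] using B.h⟩⟩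
instance : One O4 := ⟨⟨(d0, d1, d2, d3), by decide⟩⟩
instance : Inv O4 := ⟨fun A => ⟨tr A.c, orth_tr A⟩⟩
instance : SMul O4 V := ⟨fun A v => lin A.c v⟩

theorem O4.mul_smul' (A B : O4) (v : V) : (A * B) • v = A • B • v := lin_lin A.c B.c v

theorem O4.one_smul' (v : V) : (1 : O4) • v = v := by
  show lin (d0, d1, d2, d3) v = v
  simp [lin_def, d0, d1, d2, d3]

theorem O4.ext' {A B : O4} (h : ∀ v : V, A • v = B • v) : A = B := O4.ext (lin_ext h)

instance : Group O4 := Group.ofLeftAxioms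
  (fun A B C => O4.ext' fun v => by simp only [O4.mul_smul'])
  (fun A => O4.ext' fun v => by simp only [O4.mul_smul', O4.one_smul'])
  (by decide +kernel)

instance : DistribMulAction O4 V where
  one_smul := O4.one_smul'
  mul_smul := O4.mul_smul'
  smul_zero A := by show lin A.c 0 = 0; simp [lin_def]
  smul_add A := lin_add A.c

theorem dot_smul (A : O4) (u v : V) : dot (A • u) (A • v) = dot u v := A.h.dot_lin u v
theorem q_smul (A : O4) (v : V) : q (A • v) = q v := dot_smul A v v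

/-- an additive map preserving the form is an element of `O4` -/
theorem exists_O4 (L : V → V) (h1 : ∀ u v, L (u + v) = L u + L v) (h2 : ∀ v, q (L v) = q v) :
    ∃ A : O4, ∀ v, A • v = L v := by
  have k : ∀ u v, dot (L u) (L v) = dot u v := fun u v => by
    have := h2 (u + v)
    have e1 := h2 u
    have e2 := h2 v
    simp only [h1, q, dot_add, add_dot, dot_comm (L v) (L u), dot_comm v u] at this e1 e2
    have e3 : (2 : F) * (dot (L u) (L v) - dot u v) = 0 := by linear_combination this - e1 - e2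
    exact sub_eq_zero.1 ((mul_eq_zero.1 e3).resolve_left (by decide))
  let f : V →+ V := AddMonoidHom.mk' L h1
  let A : O4 := ⟨(L d0, L d1, L d2, L d3), by simp only [orth, h2, k]; decide⟩
  refine ⟨A, fun v => ?_⟩
  have e : ∀ v : V, v = v.1.val • d0 + v.2.1.val • d1 + v.2.2.1.val • d2 + v.2.2.2.val • d3 := by decide +kernel
  have e0 : A • d0 = f d0 := by show lin _ _ = L d0; simp [lin_def, d0, A]
  have e1 : A • d1 = f d1 := by show lin _ _ = L d1; simp [lin_def, d1, A]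
  have e2 : A • d2 = f d2 := by show lin _ _ = L d2; simp [lin_def, d2, A]
  have e3 : A • d3 = f d3 := by show lin _ _ = L d3; simp [lin_def, d3, A]
  show A • v = f v
  rw [e v]
  simp only [smul_add, map_add, map_nsmul, smul_comm A, e0, e1, e2, e3]

/-- the reflection in a nonsingular vector (`1` for a singular one) -/
def rf (v : V) : O4 :=
  let f : V → V := fun x => x + (q v * dot x v) • v
  if h : orth (f d0, f d1, f d2, f d3) then ⟨_, h⟩ else 1

theorem rf_c : ∀ v : V, (rf v).c = (d0 + (q v * dot d0 v) • v, d1 + (q v * dot d1 v) • v, d2 + (q v * dot d2 v) • v,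
    d3 + (q v * dot d3 v) • v) := by decide +kernel

theorem rf_smul (v x : V) : rf v • x = x + (q v * dot x v) • v := by
  show lin _ _ = _
  rw [rf_c, lin_def]
  simp only [dot_def, d0, d1, d2, d3, Prod.fst_add, Prod.snd_add, Prod.smul_fst, Prod.smul_snd, smul_eq_mul]
  refine Prod.ext ?_ (Prod.ext ?_ (Prod.ext ?_ ?_)) <;>
    simp only [Prod.fst_add, Prod.snd_add, Prod.smul_fst, Prod.smul_snd, smul_eq_mul] <;> ring

/-- diagonal matrices; `true` is the sign `-1` -/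
def dg (a b c d : Bool) : O4 := ⟨((if a then 2 else 1, 0, 0, 0), (0, if b then 2 else 1, 0, 0),
  (0, 0, if c then 2 else 1, 0), (0, 0, 0, if d then 2 else 1)), by revert a b c d; decide⟩

/-- reflection in `d0` -/
def r0 : O4 := dg true false false false
/-- reflection in `d1` -/
def r1 : O4 := dg false true false false
/-- reflection in `d2` -/
def r2 : O4 := dg false false true false
/-- reflection in `d3` -/
def r3 : O4 := dg false false false true
/-- minus one -/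
def ng : O4 := dg true true true true
/-- `d1 ↦ d2 ↦ d3 ↦ d1` -/
def cyc : O4 := ⟨(d0, d2, d3, d1), by decide⟩
/-- the transposition of `d2` and `d3` (not in `Γ1`) -/
def sw : O4 := ⟨(d0, d1, d3, d2), by decide⟩
/-- the transposition of `d0` and `d1` (not in `Γ1`) -/
def sw01 : O4 := ⟨(d1, d0, d2, d3), by decide⟩
/-- `r0 * rf (1,1,1,1)`: `d0 ↦ d0 + z0`, `d_k ↦ d_k - d0 + z0` -/
def A1 : O4 := ⟨((1, 1, 1, 1), (2, 2, 1, 1), (2, 1, 2, 1), (2, 1, 1, 2)), by decide⟩

/-- the frame of a vector of weight two -/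
def fr (v : V) : Fin 3 :=
  if v.1 = 0 then (if v.2.1 = 0 then 0 else if v.2.2.1 = 0 then 1 else 2)
  else if v.2.1 ≠ 0 then 0 else if v.2.2.1 ≠ 0 then 1 else 2

/-- the action on the three frames -/
def pf (A : O4) (k : Fin 3) : Fin 3 := fr (A • (![(1, 1, 0, 0), (1, 0, 1, 0), (1, 0, 0, 1)] k : V))

theorem fr_eq : ∀ u : V, q u = 2 → ∀ v : V, q v = 2 → (fr u = fr v ↔ dot u v = 0 ∨ u = v ∨ u = -v) := by
  decide +kernel

theorem fr_smul (A : O4) (v : V) (h : q v = 2) : fr (A • v) = pf A (fr v) := by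
  have k : ∀ k : Fin 3, q (![(1, 1, 0, 0), (1, 0, 1, 0), (1, 0, 0, 1)] k : V) = 2 ∧
      fr (![(1, 1, 0, 0), (1, 0, 1, 0), (1, 0, 0, 1)] k : V) = k := by decide +kernel
  rw [pf, fr_eq _ (by rw [q_smul, h]) _ (by rw [q_smul, (k _).1]), dot_smul, ← smul_neg, smul_left_cancel_iff,
    smul_left_cancel_iff, ← fr_eq _ h _ (k _).1, (k _).2]

theorem pf_one : ∀ k, pf 1 k = k := by decide +kernel

theorem pf_mul (A B : O4) (k : Fin 3) : pf (A * B) k = pf A (pf B k) := by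
  rw [pf, mul_smul, fr_smul _ _ (by rw [q_smul]; revert k; decide +kernel), pf.eq_1 B]

/-- the action on the three frames -/
@[reducible] def actF : MulAction O4 (Fin 3) where
  smul := pf
  one_smul := pf_one
  mul_smul := pf_mul

/-- the homomorphism onto `S₃` -/
def φs : O4 →* Equiv.Perm (Fin 3) := @MulAction.toPermHom O4 (Fin 3) _ actF

theorem φs_apply (A : O4) (k : Fin 3) : φs A k = pf A k := rfl

/-- `W(D₄)` -/
def Γ0 : Subgroup O4 := φs.ker
/-- `W(D₄).3` -/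
def Γ1 : Subgroup O4 := (Equiv.Perm.sign.comp φs).ker

theorem mem_Γ0 {A : O4} : A ∈ Γ0 ↔ pf A 0 = 0 ∧ pf A 1 = 1 :=
  (by decide : ∀ p : Equiv.Perm (Fin 3), p = 1 ↔ p 0 = 0 ∧ p 1 = 1) (φs A)

theorem mem_Γ1 {A : O4} : A ∈ Γ1 ↔ pf A 1 = pf A 0 + 1 :=
  (by decide : ∀ p : Equiv.Perm (Fin 3), Equiv.Perm.sign p = 1 ↔ p 1 = p 0 + 1) (φs A)

instance : DecidablePred (· ∈ Γ0) := fun _ => decidable_of_iff _ mem_Γ0.symm
instance : DecidablePred (· ∈ Γ1) := fun _ => decidable_of_iff _ mem_Γ1.symm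
instance : Γ0.Normal := MonoidHom.normal_ker _
instance : Γ1.Normal := MonoidHom.normal_ker _

theorem Γ0_le : Γ0 ≤ Γ1 := fun A h => by
  show Equiv.Perm.sign (φs A) = 1
  rw [show φs A = 1 from h, map_one]

theorem mul_mem_Γ1 {A B : O4} (hA : A ∉ Γ1) (hB : B ∉ Γ1) : A * B ∈ Γ1 := by
  show Equiv.Perm.sign (φs (A * B)) = 1
  rw [map_mul, map_mul, (Int.units_eq_one_or (Equiv.Perm.sign (φs A))).resolve_left hA,
    (Int.units_eq_one_or (Equiv.Perm.sign (φs B))).resolve_left hB]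
  decide

/-- the four singular points orthogonal to `d0` -/
def zk : Fin 4 → V := ![(0, 1, 1, 1), (0, 1, 1, 2), (0, 1, 2, 1), (0, 1, 2, 2)]
/-- `gk k • z0 = zk k` -/
def gk : Fin 4 → O4 := ![1, r3, r2, r2 * r3]

/-- coordinates of `Q₈ / Z` -/
abbrev W2 : Type := ZMod 2 × ZMod 2
/-- coordinates of `2^(1+8) / Z` -/
abbrev V8 : Type := W2 × W2 × W2 × W2

/-- the components -/
def cp (c : V8) : Fin 4 → W2 := ![c.1, c.2.1, c.2.2.1, c.2.2.2]
/-- `i ↦ j ↦ i j` -/
def om (p : W2) : W2 := (p.2, p.1 + p.2)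
/-- `i ↦ i`, `j ↦ i j` -/
def mu (p : W2) : W2 := (p.1 + p.2, p.2)
/-- powers of `om` -/
def rot (a : F) (p : W2) : W2 := if a = 0 then p else if a = 1 then om p else om (om p)
/-- the action of `e v` (`v.1 = 0`) -/
def ρe (v : V) (c : V8) : V8 := (rot (dot v (zk 0)) c.1, rot (dot v (zk 1)) c.2.1, rot (dot v (zk 2)) c.2.2.1,
  rot (dot v (zk 3)) c.2.2.2)
/-- the component of `ρσ A c` at the point `u` -/
def src (A : O4) (c : V8) (u : V) : W2 :=
  if A • zk 0 = u then c.1 else if A • zk 0 = -u then mu c.1 else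
  if A • zk 1 = u then c.2.1 else if A • zk 1 = -u then mu c.2.1 else
  if A • zk 2 = u then c.2.2.1 else if A • zk 2 = -u then mu c.2.2.1 else
  if A • zk 3 = u then c.2.2.2 else mu c.2.2.2
/-- the action of `σ A` (`A • d0 = ± d0`) -/
def ρσ (A : O4) (c : V8) : V8 := (src A c (zk 0), src A c (zk 1), src A c (zk 2), src A c (zk 3))
/-- the squaring form -/
def q2 (c : V8) : ZMod 2 :=
  let f : W2 → ZMod 2 := fun p => p.1 + p.1 * p.2 + p.2
  f c.1 + f c.2.1 + f c.2.2.1 + f c.2.2.2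
/-- the commutator form -/
def b2 (c c' : V8) : ZMod 2 :=
  let f : W2 → W2 → ZMod 2 := fun p p' => p.1 * p'.2 + p.2 * p'.1
  f c.1 c'.1 + f c.2.1 c'.2.1 + f c.2.2.1 c'.2.2.1 + f c.2.2.2 c'.2.2.2

end Cfsg.Agent.O83
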