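import Cfsg.Agent.O83.Cd
import Cfsg.Agent.OR.S9a

set_option autoImplicit false
set_option synthInstance.maxSize 4096
set_option maxRecDepth 100000

namespace Cfsg.Agent.O83

open Subgroup

variable {G : Type*} [Group G] [Finite G] {Γ : Subgroup O4} {e : V → G} {σ : O4 → G} {i : G}

namespace Nc

/-- the elements `e v * σ B` with `B ∈ Δ` and `v` fixed by `A` -/
def eσ (h : Cf Γ e σ i) (A : O4) (Δ : Subgroup O4) (h1 : Δ ≤ Γ) (h2 : ∀ B ∈ Δ, A * B = B * A) : Subgroup G where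
  carrier := {g | ∃ v, A • v = v ∧ ∃ B ∈ Δ, g = e v * σ B}
  one_mem' := ⟨0, smul_zero _, 1, Δ.one_mem, by rw [e_zero h.add, h.σ_one, mul_one]⟩
  mul_mem' := by
    rintro _ _ ⟨u, hu, B, hB, rfl⟩ ⟨v, hv, C, hC, rfl⟩
    exact ⟨_, by rw [smul_add, hu, ← mul_smul, h2 B hB, mul_smul, hv], _, Δ.mul_mem hB hC,
      h.mul_eq (h1 hB) (h1 hC) u v⟩
  inv_mem' := by
    rintro _ ⟨u, hu, B, hB, rfl⟩
    refine ⟨B⁻¹ • -u, by rw [← mul_smul, h2 _ (Δ.inv_mem hB), mul_smul, smul_neg, hu], _, Δ.inv_mem hB, ?_⟩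
    rw [← h.σ_e' (h1 (Δ.inv_mem hB)), h.σ_inv (h1 hB), e_neg h.add, mul_inv_rev]

omit [Finite G] in
theorem pow_eq (h : Cf Γ e σ i) {B : O4} (hB : B ∈ Γ) (v : V) (n : ℕ) : ∃ w, (e v * σ B) ^ n = e w * σ (B ^ n) := by
  induction n with
  | zero => exact ⟨0, by rw [pow_zero, pow_zero, e_zero h.add, h.σ_one, mul_one]⟩
  | succ n ih =>
    obtain ⟨w, hw⟩ := ih
    exact ⟨_, by rw [pow_succ, hw, h.mul_eq (Γ.pow_mem hB n) hB, pow_succ]⟩

/-- permutation matrices moving `d0` -/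
def Cj : Fin 4 → O4 := ![1, sw01 * sw, cyc * (sw01 * sw), cyc * cyc * (sw01 * sw)]

theorem Cj_mem : ∀ j, Cj j ∈ Γ1 := by decide +kernel

theorem ex_Cj : ∀ a b c d : Bool, a.toNat + b.toNat + c.toNat + d.toNat ≠ 2 →
    ∃ j, Cj j * cyc * (Cj j)⁻¹ * dg a b c d = dg a b c d * (Cj j * cyc * (Cj j)⁻¹) := by decide +kernel

omit [Finite G] in
theorem ex_τ (h : Cf Γ e σ i) {a b c d : Bool} (h2 : a.toNat + b.toNat + c.toNat + d.toNat ≠ 2) {s : G}
    (hs : IsConj s (σ (dg a b c d))) : ∃ g : G, g * σ cyc * g⁻¹ * s = s * (g * σ cyc * g⁻¹) := by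
  obtain ⟨g, hg⟩ := isConj_iff.1 hs
  obtain ⟨j, hj⟩ := ex_Cj a b c d h2
  have m1 := h.Γ1_le (Cj_mem j)
  have m2 := h.Γ1_le cyc_mem
  have m3 := Γ.mul_mem (Γ.mul_mem m1 m2) (Γ.inv_mem m1)
  have m4 := h.Γ1_le (Γ0_le (dg_mem a b c d))
  have k := congrArg σ hj
  rw [h.σ_mul _ m3 _ m4, h.σ_mul _ m4 _ m3, ← h.σ_conj m1 m2, ← hg] at k
  refine ⟨g⁻¹ * σ (Cj j), ?_⟩
  calc _ = g⁻¹ * (σ (Cj j) * σ cyc * (σ (Cj j))⁻¹ * (g * s * g⁻¹)) * g := by group
    _ = _ := by rw [k]; group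

omit [Finite G] in
theorem τ3 (h : Cf Γ e σ i) (g : G) : (g * σ cyc * g⁻¹) ^ 3 = 1 := by
  rw [conj_pow, ← h.σ_pow (h.Γ1_le cyc_mem), show cyc ^ 3 = 1 by decide +kernel, h.σ_one]; group

omit [Finite G] in
theorem p_zpowers {y : G} (y3 : y ^ 3 = 1) : IsPGroup 3 (zpowers y) := by
  rintro ⟨_, n, rfl⟩
  refine ⟨1, Subtype.ext ?_⟩
  show (y ^ n) ^ 3 = 1
  rw [← zpow_natCast, ← zpow_mul, mul_comm, zpow_mul, zpow_natCast, y3, one_zpow]

theorem pow8 {B : O4} (h : B * B * (B * B) = 1) : B ^ 8 = 1 := by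
  rw [show B ^ 8 = B * B * (B * B) * (B * B * (B * B)) by simp only [pow_succ, pow_zero, one_mul, mul_assoc], h,
    mul_one]

theorem dg_c : ∀ a b c d : Bool, a.toNat + b.toNat + c.toNat + d.toNat = 2 → ∀ B : O4,
    B * dg a b c d = dg a b c d * B → B * B * (B * B) = 1 := by decide +kernel

theorem dg_u : ∀ a b c d : Bool, a.toNat + b.toNat + c.toNat + d.toNat = 2 → ∃ u, q u = 1 ∧ dg a b c d • u = u := by
  decide +kernel

theorem dg_f : ∀ a b c d : Bool, a.toNat + b.toNat + c.toNat + d.toNat = 2 → ∀ B : O4,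
    dg a b c d • B • d0 = B • d0 → dg a b c d • B • d1 = B • d1 → dg a b c d • B • y0 ≠ B • y0 := by decide +kernel

/-- the group generated by `A1` -/
def ZA : Subgroup O4 where
  carrier := {A | A = 1 ∨ A = A1 ∨ A = A1 * A1}
  one_mem' := Or.inl rfl
  mul_mem' := by rintro _ _ (rfl | rfl | rfl) (rfl | rfl | rfl) <;> show _ ∨ _ ∨ _ <;> decide +kernel
  inv_mem' := by rintro _ (rfl | rfl | rfl) <;> show _ ∨ _ ∨ _ <;> decide +kernel

theorem ZA_sw : ∀ B ∈ ZA, sw * B = B * sw := by rintro _ (rfl | rfl | rfl) <;> decide +kernel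

theorem cen_v : ∀ v : V, sw • v = v → A1 • v = v → v = 0 ∨ v = z0 ∨ v = -z0 := by decide +kernel

theorem st_sq : ∀ B : O4, B • z0 = z0 → B * sw = sw * B → B * B = 1 ∨ B * B = A1 ∨ B * B = A1 * A1 := by
  decide +kernel

theorem cube_v : ∀ v : V, sw • v = v → v + A1 • v + (A1 * A1) • v = 0 ∨ v + (A1 * A1) • v + A1 • v = 0 →
    v = (v.1, v.2.1, v.2.1, v.2.1) := by decide +kernel

end Nc

open Nc

/-- N1 -/
theorem Cf.k2 (h : Cf Γ e σ i) {A : O4} (hA : A ∈ Γ) {u : V} (hu : q u = 1) (hAu : A • u = u)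
    (hC : ∀ B : O4, B * A = A * B → B ^ 8 = 1) {P : Subgroup G} (hP : IsPGroup 3 P)
    (hc : ∀ p ∈ P, p * σ A = σ A * p) : ∃ c, c * σ A = σ A * c ∧ ∀ p ∈ P, ∃ v, A • v = v ∧ c * p * c⁻¹ = e v := by
  haveI : Fact (Nat.Prime 3) := ⟨Nat.prime_three⟩
  have hb : ∀ B ∈ (⊥ : Subgroup O4), A * B = B * A := fun B hB => by rw [mem_bot.1 hB, mul_one, one_mul]
  have mem : ∀ g, g ∈ eσ h A ⊥ bot_le hb ↔ ∃ v, A • v = v ∧ g = e v := fun g =>
    exists_congr fun v => and_congr_right fun _ => ⟨fun ⟨B, hB, k⟩ => by rw [k, mem_bot.1 hB, h.σ_one, mul_one],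
      fun k => ⟨1, one_mem _, by rw [k, h.σ_one, mul_one]⟩⟩
  obtain ⟨c, hc1, hc2⟩ := OR.exists_conj_le (p := 3) (E := centralizer ({σ A} : Set G)) (P := eσ h A ⊥ bot_le hb)
    (Q := P) (fun g hg => by
      obtain ⟨v, hv, rfl⟩ := (mem g).1 hg
      rw [mem_centralizer_singleton_iff, h.σ_e' hA, hv])
    (fun g => by
      obtain ⟨v, hv, k⟩ := (mem g).1 g.2
      exact ⟨1, Subtype.ext (by rw [Subgroup.coe_pow, k]; exact e_cube h.add v)⟩)
    (fun g hg hn k hk => by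
      obtain ⟨w, -, hw⟩ := (mem _).1 ((mem_normalizer_iff.1 hn (e u)).1 ((mem _).2 ⟨u, hAu, rfl⟩))
      obtain ⟨v, B, hB, rfl⟩ := h.norm g (h.dN hu hw)
      obtain ⟨k1, k2⟩ := (h.comm_σ hB hA).1 (mem_centralizer_singleton_iff.1 hg)
      obtain ⟨w', hw'⟩ := pow_eq h hB v (3 ^ k)
      rw [hw', ← e_zero h.add, h.eq_e (Γ.pow_mem hB _)] at hk
      obtain rfl : B = 1 := orderOf_eq_one_iff.1 (Nat.eq_one_of_dvd_coprimes
        (Nat.Coprime.pow_left k (by decide : Nat.Coprime 3 8)) (orderOf_dvd_of_pow_eq_one hk.2)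
        (orderOf_dvd_of_pow_eq_one (hC B k2)))
      exact (mem _).2 ⟨v, k1, by rw [h.σ_one, mul_one]⟩)
    (fun g hg => mem_centralizer_singleton_iff.2 (hc g hg)) hP
  exact ⟨c, mem_centralizer_singleton_iff.1 hc1, fun p hp => (mem _).1 (hc2 p hp)⟩

/-- N2 -/
theorem Cf.nc2 (h : Cf Γ e σ i) {a b c d a' b' c' d' : Bool} (h2 : a.toNat + b.toNat + c.toNat + d.toNat = 2)
    (h2' : a'.toNat + b'.toNat + c'.toNat + d'.toNat ≠ 2) : ¬ IsConj (σ (dg a b c d)) (σ (dg a' b' c' d')) := by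
  intro hs
  obtain ⟨g, hg⟩ := ex_τ h h2' hs
  obtain ⟨u, hu, hAu⟩ := dg_u a b c d h2
  obtain ⟨c', -, hc⟩ := h.k2 (h.Γ1_le (Γ0_le (dg_mem a b c d))) hu hAu (fun B hB => pow8 (dg_c a b c d h2 B hB))
    (p_zpowers (τ3 h g)) (by rintro _ ⟨n, rfl⟩; exact Commute.zpow_left hg n)
  obtain ⟨v, -, hv⟩ := hc _ (mem_zpowers _)
  exact h.nτ (c' * g) v (by rw [← hv]; group)

/-- N3 -/
theorem Cf.s3 (h : Cf ⊤ e σ i) {y : G} (y3 : y ^ 3 = 1) (hy : y * σ sw = σ sw * y) :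
    ∃ c v, c * σ sw = σ sw * c ∧ sw • v = v ∧ c * y * c⁻¹ = e v := by
  haveI : Fact (Nat.Prime 3) := ⟨Nat.prime_three⟩
  have T : ∀ A : O4, A ∈ (⊤ : Subgroup O4) := fun A => trivial
  set P := eσ h sw ZA le_top ZA_sw with hP
  have mem : ∀ g, g ∈ P ↔ ∃ v, sw • v = v ∧ ∃ B ∈ ZA, g = e v * σ B := fun g => Iff.rfl
  have eP : ∀ v, sw • v = v → e v ∈ P := fun v hv => ⟨v, hv, 1, one_mem _, by rw [h.σ_one, mul_one]⟩
  have Rs : ∀ r ∈ RR e i, r * σ sw = σ sw * r := fun r hr =>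
    h.R_σ hr (T _) (by decide +kernel) (by decide +kernel)
  obtain ⟨c, hc1, hc2⟩ := OR.exists_conj_le (p := 3) (E := centralizer ({σ sw} : Set G)) (P := P)
    (Q := zpowers y) (by
      rintro _ ⟨v, hv, B, hB, rfl⟩
      rw [mem_centralizer_singleton_iff, h.comm_σ (T _) (T _)]
      exact ⟨hv, (ZA_sw B hB).symm⟩)
    (by
      rintro ⟨_, v, hv, B, hB, rfl⟩
      refine ⟨2, Subtype.ext ?_⟩
      show (e v * σ B) ^ (3 * 3) = 1
      obtain ⟨w, hw⟩ := pow_eq h (T B) v 3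
      rw [pow_mul, hw, show B ^ 3 = 1 by rcases hB with rfl | rfl | rfl <;> decide +kernel, h.σ_one, mul_one,
        e_cube h.add])
    (fun g hg hn k hk => by
      rw [mem_centralizer_singleton_iff] at hg
      have zc : ∀ p ∈ P, e z0 * p = p * e z0 := by
        rintro _ ⟨v, hv, B, hB, rfl⟩
        exact ((h.comm_e (T B)).2 (by rcases hB with rfl | rfl | rfl <;> decide +kernel)).symm
      have zc' : ∀ p ∈ P, g * e z0 * g⁻¹ * p = p * (g * e z0 * g⁻¹) := fun p hp => by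
        have := zc _ ((mem_normalizer_iff''.1 hn p).1 hp)
        calc _ = g * (e z0 * (g⁻¹ * p * g)) * g⁻¹ := by group
          _ = _ := by rw [this]; group
      obtain ⟨v, hv, B, hB, k0⟩ := (mem_normalizer_iff.1 hn _).1 (eP z0 (by decide +kernel))
      have k1 := zc' _ (eP d0 (by decide +kernel))
      have k2 := zc' (σ A1) ⟨0, smul_zero _, A1, Or.inr (Or.inl rfl), by rw [e_zero h.add, one_mul]⟩
      rw [k0, h.comm_e (T B)] at k1
      rw [k0, h.comm_σ (T B) (T A1)] at k2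
      obtain rfl : B = 1 := by
        rcases hB with rfl | rfl | rfl
        exacts [rfl, absurd k1 (by decide +kernel), absurd k1 (by decide +kernel)]
      rw [h.σ_one, mul_one] at k0
      have gz : g * e z0 = e z0 * g := by
        refine mem_centralizer_singleton_iff.1 (OR.mem_of_sq (mem_centralizer_singleton_iff.2 ?_) k hk)
        rw [← mul_inv_eq_iff_eq_mul, show g * g * e z0 * (g * g)⁻¹ = g * (g * e z0 * g⁻¹) * g⁻¹ by group]
        rcases cen_v v hv k2.1 with rfl | rfl | rfl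
        · rw [e_zero h.add, conj_eq_one_iff] at k0
          exact absurd (h.inj _ k0) (by decide)
        · rw [k0, k0]
        · rw [k0, e_neg h.add, conj_inv.symm, k0, e_neg h.add, inv_inv]
      obtain ⟨r, hr, hN⟩ := h.cz g gz
      have gN : g ∈ NN e := by
        obtain ⟨w, C, -, hC⟩ := h.norm _ hN
        have c1 : C * sw = sw * C := ((h.comm_σ (T C) (T sw)).1
          (hC ▸ Commute.mul_left (Commute.inv_left (Rs r hr)) hg)).2
        have m := (mem_normalizer_iff.1 hn _).1 (eP (C⁻¹ • d1) (by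
          rw [← mul_smul, (Commute.inv_left c1).eq.symm, mul_smul, show sw • d1 = d1 by decide +kernel]))
        have e1 : g * e (C⁻¹ • d1) * g⁻¹ = r * e d1 * r⁻¹ := by
          rw [← smul_inv_smul C d1, ← h.conj_e (T C) w, ← hC, inv_smul_smul]; group
        rw [e1] at m
        have m1 : r * e d1 * r⁻¹ * (e d1)⁻¹ ∈ NN e := by
          obtain ⟨v', -, B', -, k⟩ := m
          rw [k]
          exact mul_mem (mul_mem (h.e_mem _) (h.σ_mem (T _))) (inv_mem (h.e_mem _))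
        have xt : e d1 * σ r0 = σ r0 * e d1 := h.e_t.2 rfl
        have m2 : r * e d1 * r⁻¹ * (e d1)⁻¹ ∈ RR e i := by
          rw [show r * e d1 * r⁻¹ * (e d1)⁻¹ = r * (e d1 * r⁻¹ * (e d1)⁻¹) by group]
          exact mul_mem hr (h.R_norm xt (Or.inl (by rw [e_comm h.add, mul_inv_cancel_right])) (inv_mem hr))
        have rN : r ∈ NN e := by
          rcases h.R_N m2 m1 with a | a
          · have a' : r * e d1 = e d1 * r := by rw [← mul_inv_eq_iff_eq_mul, ← mul_inv_eq_one, a]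
            have hr' : r ∈ Rk e σ i 0 := h.mem_Rk.2 (by
              rw [show gk 0 = 1 from rfl, h.σ_one]; simpa using hr)
            rcases h.Rk_fix hr' (v := d1) rfl (by decide) a' with b | b <;> rw [b]
            exacts [one_mem _, h.σ_mem (T _)]
          · rw [mul_inv_eq_iff_eq_mul] at a
            have b : (σ r0 * e d1) ^ 3 = 1 := by rw [← a, conj_pow, e_cube h.add]; group
            rw [Commute.mul_pow xt.symm, e_cube h.add, mul_one, pow_three', h.t2, one_mul] at b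
            exact absurd b h.t1
        exact ((NN e).mul_mem_cancel_left (inv_mem rN)).1 hN
      obtain ⟨w, C, -, rfl⟩ := h.norm _ gN
      obtain ⟨c1, c2⟩ := (h.comm_σ (T C) (T sw)).1 hg
      refine OR.mem_of_sq ?_ k hk
      exact ⟨_, by rw [smul_add, c1, ← mul_smul, ← c2, mul_smul, c1], _, st_sq C ((h.comm_e (T C)).1 gz) c2,
        h.mul_eq (T C) (T C) w w⟩)
    (zpowers_le.2 (mem_centralizer_singleton_iff.2 hy)) (p_zpowers y3)
  rw [mem_centralizer_singleton_iff] at hc1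
  obtain ⟨v, hv, B, hB, k⟩ := hc2 y (mem_zpowers y)
  have key : ∀ m : ℕ, B = A1 ^ m → v = (v.1, v.2.1, v.2.1, v.2.1) →
      ∃ c v, c * σ sw = σ sw * c ∧ sw • v = v ∧ c * y * c⁻¹ = e v := fun m hm hv' => by
    obtain ⟨r, hr, a', c', k'⟩ := h.Q1_conj v.1 v.2.1 m
    refine ⟨r * c, _, Commute.mul_left (Rs r hr) hc1,
      (by decide +kernel : ∀ a c : F, sw • ((a, c, c, c) : V) = (a, c, c, c)) a' c', ?_⟩
    rw [← k', ← hv', ← hm, ← k]; group
  have k3 : (e v * σ B) ^ 3 = 1 := by rw [← k, conj_pow, y3]; group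
  rw [pow_three', h.mul_eq (T B) (T B), h.mul_eq (T _) (T B), ← e_zero h.add, h.eq_e (T _)] at k3
  rcases hB with rfl | rfl | rfl
  · exact ⟨c, v, hc1, hv, by rw [k, h.σ_one, mul_one]⟩
  · exact key 1 (pow_one _).symm (cube_v v hv (Or.inl k3.1))
  · exact key 2 (pow_two _).symm (cube_v v hv (Or.inr (by
      rw [← k3.1, show A1 * A1 * (A1 * A1) = A1 by decide +kernel])))

theorem Nc.nc9 (h : Cf ⊤ e σ i) {A : O4} {u : V} (hu : q u = 1) (hAu : A • u = u)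
    (hC : ∀ B : O4, B * A = A * B → B ^ 8 = 1)
    (hf : ∀ B : O4, A • B • d0 = B • d0 → A • B • d1 = B • d1 → A • B • y0 ≠ B • y0) : ¬ IsConj (σ sw) (σ A) := by
  intro hs
  obtain ⟨g, hg⟩ := isConj_iff.1 hs
  have hb : ∀ B ∈ (⊥ : Subgroup O4), sw * B = B * sw := fun B hB => by rw [mem_bot.1 hB, mul_one, one_mul]
  obtain ⟨c, -, hc⟩ := h.k2 (A := A) trivial hu hAu hC
    (P := (eσ h sw ⊥ bot_le hb).map (MulAut.conj g).toMonoidHom)
    (IsPGroup.map (by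
      rintro ⟨_, v, hv, B, hB, rfl⟩
      refine ⟨1, Subtype.ext ?_⟩
      show (e v * σ B) ^ 3 = 1
      rw [mem_bot.1 hB, h.σ_one, mul_one, e_cube h.add]) _)
    (by
      rintro _ ⟨_, ⟨v, hv, B, hB, rfl⟩, rfl⟩
      have := (h.comm_σ (A := B) (B := sw) trivial trivial).2 ⟨hv, (hb B hB).symm⟩
      show g * (e v * σ B) * g⁻¹ * σ A = σ A * (g * (e v * σ B) * g⁻¹)
      rw [← hg]
      calc _ = g * (e v * σ B * σ sw) * g⁻¹ := by group
        _ = _ := by rw [this]; group)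
  have k : ∀ v, sw • v = v → ∃ w, A • w = w ∧ c * g * e v * (c * g)⁻¹ = e w := fun v hv => by
    obtain ⟨w, k1, k2⟩ := hc (g * e v * g⁻¹) ⟨e v, ⟨v, hv, 1, one_mem _, by rw [h.σ_one, mul_one]⟩, rfl⟩
    exact ⟨w, k1, by rw [← k2]; group⟩
  obtain ⟨B, -, hB⟩ := h.frat {v | sw • v = v} (g := c * g) fun v hv => (k v hv).imp fun _ a => a.2
  have k' : ∀ v, sw • v = v → A • B • v = B • v := fun v hv => by
    obtain ⟨w, k1, k2⟩ := k v hv
    rw [hB v hv, h.toAd.eq_iff] at k2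
    rw [k2, k1]
  exact hf B (k' _ (by decide +kernel)) (k' _ (by decide +kernel)) (k' _ (by decide +kernel))

/-- N4 -/
theorem Cf.s_dg (h : Cf ⊤ e σ i) (a b c d : Bool) : ¬ IsConj (σ sw) (σ (dg a b c d)) := by
  by_cases h2 : a.toNat + b.toNat + c.toNat + d.toNat = 2
  · obtain ⟨u, hu, hAu⟩ := dg_u a b c d h2
    exact nc9 h hu hAu (fun B hB => pow8 (dg_c a b c d h2 B hB)) (dg_f a b c d h2)
  · intro hs
    obtain ⟨g, hg⟩ := ex_τ h h2 hs
    obtain ⟨c', v, -, -, hv⟩ := h.s3 (τ3 h g) hg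
    exact h.nτ (c' * g) v (by rw [← hv]; group)

/-- N5 -/
theorem Cf.s_st (h : Cf ⊤ e σ i) : ¬ IsConj (σ sw) (σ sw * σ r0) := by
  rw [← h.σ_mul _ trivial _ trivial]
  exact nc9 h (u := d1) (by decide) (by decide +kernel)
    (fun B hB => pow8 ((by decide +kernel : ∀ B : O4, B * (sw * r0) = sw * r0 * B → B * B * (B * B) = 1) B hB))
    (by decide +kernel)

end Cfsg.Agent.O83
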